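import Mathlib
import Cfsg.Prelude.Def_Blocks

set_option autoImplicit false

namespace Cfsg.Agent.Helper80

open scoped ComplexConjugate
open Cfsg

universe u

/-- Wedderburn data for the complex group algebra of a finite group. -/
structure WedderburnData (G : Type u) [Group G] : Type u where
  n : ℕ
  d : Fin n → ℕ
  hd : ∀ i, NeZero (d i)
  e : MonoidAlgebra ℂ G ≃ₐ[ℂ] Π i, Matrix (Fin (d i)) (Fin (d i)) ℂ

theorem exists_wedderburnData (G : Type u) [Group G] [Finite G] : Nonempty (WedderburnData G) := by
  have : NeZero (Nat.card G : ℂ) := ⟨by exact_mod_cast Nat.card_pos.ne'⟩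
  obtain ⟨n, d, hd, ⟨e⟩⟩ :=
    IsSemisimpleRing.exists_algEquiv_pi_matrix_of_isAlgClosed ℂ (MonoidAlgebra ℂ G)
  exact ⟨⟨n, d, hd, e⟩⟩

namespace WedderburnData

variable {G : Type u} [Group G] (W : WedderburnData G)

/-- The `i`-th projection of the group algebra to endomorphisms of `ℂ^{d i}`. -/
noncomputable def algHom (i : Fin W.n) :
    MonoidAlgebra ℂ G →ₐ[ℂ] Module.End ℂ (Fin (W.d i) → ℂ) :=
  ((Matrix.toLinAlgEquiv' : Matrix (Fin (W.d i)) (Fin (W.d i)) ℂ ≃ₐ[ℂ] _) : _ →ₐ[ℂ] _).comp
    ((Pi.evalAlgHom ℂ (fun j => Matrix (Fin (W.d j)) (Fin (W.d j)) ℂ) i).comp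
      (W.e : MonoidAlgebra ℂ G →ₐ[ℂ] _))

theorem algHom_apply (i : Fin W.n) (a : MonoidAlgebra ℂ G) :
    W.algHom i a = Matrix.toLin' (W.e a i) := rfl

theorem algHom_surjective (i : Fin W.n) : Function.Surjective (W.algHom i) := by
  intro f
  classical
  refine ⟨W.e.symm (Pi.single i (LinearMap.toMatrix' f)), ?_⟩
  rw [algHom_apply]
  simp

/-- The `i`-th irreducible representation. -/
noncomputable def rep (i : Fin W.n) : Representation ℂ G (Fin (W.d i) → ℂ) :=
  (MonoidAlgebra.lift ℂ _ G).symm (W.algHom i)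

theorem rep_apply (i : Fin W.n) (g : G) :
    W.rep i g = Matrix.toLin' (W.e (MonoidAlgebra.of ℂ G g) i) := rfl

theorem asAlgebraHom_rep (i : Fin W.n) : (W.rep i).asAlgebraHom = W.algHom i := by
  exact (MonoidAlgebra.lift ℂ _ G).apply_symm_apply _

end WedderburnData

namespace WedderburnData

variable {G : Type u} [Group G] (W : WedderburnData G)

theorem algHom_of (i : Fin W.n) (g : G) : W.algHom i (MonoidAlgebra.of ℂ G g) = W.rep i g := by
  rw [← asAlgebraHom_rep, Representation.asAlgebraHom_of]

theorem algHom_mem_subrep (i : Fin W.n) (σ : Subrepresentation (W.rep i)) (a : MonoidAlgebra ℂ G)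
    {v : Fin (W.d i) → ℂ} (hv : v ∈ σ) : W.algHom i a v ∈ σ := by
  rw [← asAlgebraHom_rep]
  induction a using MonoidAlgebra.induction_linear with
  | zero =>
    rw [map_zero, LinearMap.zero_apply]
    exact σ.toSubmodule.zero_mem
  | add x y hx hy =>
    rw [map_add, LinearMap.add_apply]
    exact σ.toSubmodule.add_mem hx hy
  | single g c =>
    rw [Representation.asAlgebraHom_single, LinearMap.smul_apply]
    exact σ.toSubmodule.smul_mem c (σ.apply_mem_toSubmodule g hv)

instance rep_isIrreducible (i : Fin W.n) : (W.rep i).IsIrreducible := by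
  have := W.hd i
  have hne : Nonempty (Fin (W.d i)) := ⟨⟨0, Nat.pos_of_ne_zero (NeZero.ne _)⟩⟩
  refine { exists_pair_ne := ⟨⊥, ⊤, ?_⟩, eq_bot_or_eq_top := ?_ }
  · intro h
    have h1 : (fun _ => (1 : ℂ)) ∈ (⊤ : Subrepresentation (W.rep i)) := Submodule.mem_top
    rw [← h] at h1
    have h2 : (fun _ : Fin (W.d i) => (1 : ℂ)) = 0 := (Submodule.mem_bot ℂ).1 h1
    have := congrFun h2 hne.some
    simp at this
  · intro σ
    by_cases hσ : ∀ v ∈ σ, v = 0
    · left
      apply Subrepresentation.toSubmodule_injective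
      exact (Submodule.eq_bot_iff _).2 hσ
    · right
      push Not at hσ
      obtain ⟨v, hvσ, hv0⟩ := hσ
      obtain ⟨j, hj⟩ : ∃ j, v j ≠ 0 := by
        by_contra hcon
        push Not at hcon
        exact hv0 (funext hcon)
      apply Subrepresentation.toSubmodule_injective
      refine (Submodule.eq_top_iff').2 fun w => ?_
      let f : Module.End ℂ (Fin (W.d i) → ℂ) :=
        ((v j)⁻¹ • (LinearMap.proj j : (Fin (W.d i) → ℂ) →ₗ[ℂ] ℂ)).smulRight w
      obtain ⟨a, ha⟩ := W.algHom_surjective i f
      have := W.algHom_mem_subrep i σ a hvσ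
      rw [ha] at this
      have hfv : f v = w := by
        simp [f, hj]
      rw [hfv] at this
      exact this

end WedderburnData

namespace WedderburnData

variable {G : Type u} [Group G] (W : WedderburnData G)

/-- The character of the `i`-th irreducible representation. -/
noncomputable def chi (i : Fin W.n) : G → ℂ := (W.rep i).character

/-- The trace functional of the `i`-th representation on the group algebra. -/
noncomputable def traceFun (i : Fin W.n) : MonoidAlgebra ℂ G →ₗ[ℂ] ℂ :=
  (LinearMap.trace ℂ (Fin (W.d i) → ℂ)).comp (W.algHom i).toLinearMap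

theorem traceFun_apply (i : Fin W.n) (a : MonoidAlgebra ℂ G) :
    W.traceFun i a = Matrix.trace (W.e a i) := by
  simp [traceFun, algHom_apply]

theorem traceFun_of (i : Fin W.n) (g : G) :
    W.traceFun i (MonoidAlgebra.of ℂ G g) = W.chi i g := by
  simp only [traceFun, LinearMap.comp_apply, AlgHom.toLinearMap_apply, algHom_of]
  rfl

theorem chi_apply (i : Fin W.n) (g : G) :
    W.chi i g = Matrix.trace (W.e (MonoidAlgebra.of ℂ G g) i) := by
  rw [← traceFun_of, traceFun_apply]

theorem traceFun_eq_of_chi_eq {i j : Fin W.n} (h : W.chi i = W.chi j) :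
    W.traceFun i = W.traceFun j := by
  apply MonoidAlgebra.lhom_ext'
  intro g
  apply LinearMap.ext_ring
  have := congrFun h g
  rw [← traceFun_of, ← traceFun_of] at this
  simpa using this

theorem chi_injective : Function.Injective W.chi := by
  classical
  intro i j h
  by_contra hij
  have h1 := congrArg (fun T => T (W.e.symm (Pi.single i 1))) (W.traceFun_eq_of_chi_eq h)
  simp only [traceFun_apply, AlgEquiv.apply_symm_apply] at h1
  rw [Pi.single_eq_same, Pi.single_eq_of_ne (Ne.symm hij)] at h1
  have := W.hd i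
  simp at h1
  exact (NeZero.ne (W.d i)) h1

theorem chi_one (i : Fin W.n) : W.chi i 1 = W.d i := by
  simp [chi]

theorem isIrrCharacter_chi (i : Fin W.n) : IsIrrCharacter G (W.chi i) :=
  ⟨W.d i, W.rep i, W.rep_isIrreducible i, rfl⟩

end WedderburnData

namespace WedderburnData

variable {G : Type u} [Group G] (W : WedderburnData G)

section Fintype

variable [Fintype G]

theorem chi_orthogonality (i j : Fin W.n) :
    ∑ g : G, W.chi i g * W.chi j g⁻¹ = if i = j then (Nat.card G : ℂ) else 0 := by
  classical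
  have hne : (Nat.card G : ℂ) ≠ 0 := by exact_mod_cast Nat.card_pos.ne'
  let _ : Invertible (Nat.card G : ℂ) := invertibleOfNonzero hne
  have h := Representation.char_orthonormal (W.rep i) (W.rep j)
  have hiff : Nonempty ((W.rep j).Equiv (W.rep i)) ↔ i = j := by
    constructor
    · rintro ⟨φ⟩
      exact (W.chi_injective (Representation.char_iso φ)).symm
    · rintro rfl
      exact ⟨Representation.Equiv.refl _⟩
  simp only [hiff] at h
  have h2 : ∑ g : G, W.chi i g * W.chi j g⁻¹ =
      (Nat.card G : ℂ) * ((Nat.card G : ℂ)⁻¹ * ∑ g : G, W.chi i g * W.chi j g⁻¹) := by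
    field_simp
  rw [h2]
  change (Nat.card G : ℂ) * ((Nat.card G : ℂ)⁻¹ *
    ∑ g : G, (W.rep i).character g * (W.rep j).character g⁻¹) = _
  rw [h]
  split_ifs <;> simp

/-- The element of the group algebra with coefficient function `f`. -/
noncomputable def ofFun (f : G → ℂ) : MonoidAlgebra ℂ G := ∑ g : G, f g • MonoidAlgebra.of ℂ G g

theorem traceFun_ofFun (i : Fin W.n) (f : G → ℂ) :
    W.traceFun i (ofFun f) = ∑ g : G, f g * W.chi i g := by
  simp only [ofFun, map_sum, map_smul, traceFun_of, smul_eq_mul]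

end Fintype

end WedderburnData

theorem ofFun_injective {G : Type u} [Group G] [Fintype G] :
    Function.Injective (WedderburnData.ofFun : (G → ℂ) → MonoidAlgebra ℂ G) := by
  classical
  intro f f' h
  funext x
  have := congrArg (fun a : MonoidAlgebra ℂ G => a.coeff x) h
  simpa [WedderburnData.ofFun, MonoidAlgebra.of_apply, Finsupp.single_apply] using this

theorem of_mul_ofFun_mul_of_inv {G : Type u} [Group G] [Fintype G] (f : G → ℂ)
    (hf : ∀ g h : G, f (h * g * h⁻¹) = f g) (h : G) :
    MonoidAlgebra.of ℂ G h * WedderburnData.ofFun f = WedderburnData.ofFun f * MonoidAlgebra.of ℂ G h := by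
  classical
  simp only [WedderburnData.ofFun, Finset.mul_sum, Finset.sum_mul, mul_smul_comm, smul_mul_assoc,
    ← map_mul]
  refine Fintype.sum_equiv (MulAut.conj h).toEquiv _ _ fun g => ?_
  simp only [MulEquiv.toEquiv_eq_coe, EquivLike.coe_coe, MulAut.conj_apply]
  rw [hf g h]
  congr 2
  group

theorem ofFun_central {G : Type u} [Group G] [Fintype G] (f : G → ℂ)
    (hf : ∀ g h : G, f (h * g * h⁻¹) = f g) (b : MonoidAlgebra ℂ G) :
    b * WedderburnData.ofFun f = WedderburnData.ofFun f * b := by
  induction b using MonoidAlgebra.induction_linear with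
  | zero => simp
  | add x y hx hy => rw [add_mul, mul_add, hx, hy]
  | single g c =>
    have : MonoidAlgebra.single g c = c • MonoidAlgebra.of ℂ G g := by
      simp [MonoidAlgebra.of_apply]
    rw [this, smul_mul_assoc, mul_smul_comm, of_mul_ofFun_mul_of_inv f hf]

namespace WedderburnData

variable {G : Type u} [Group G] (W : WedderburnData G)

theorem central_scalar (a : MonoidAlgebra ℂ G) (ha : ∀ b, b * a = a * b) (i : Fin W.n) :
    ∃ c : ℂ, W.e a i = Matrix.scalar (Fin (W.d i)) c := by
  classical
  have : W.e a i ∈ Set.range (Matrix.scalar (Fin (W.d i))) := by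
    rw [Matrix.mem_range_scalar_iff_commute_single']
    intro k l
    have h1 := ha (W.e.symm (Pi.single i (Matrix.single k l (1 : ℂ))))
    have h2 := congrArg (fun x => W.e x i) h1
    simp only [map_mul, AlgEquiv.apply_symm_apply, Pi.mul_apply, Pi.single_eq_same] at h2
    exact h2
  obtain ⟨c, hc⟩ := this
  exact ⟨c, hc.symm⟩

/-- Completeness: a class function orthogonal to all `chi i` vanishes. -/
theorem completeness [Fintype G] (f : G → ℂ) (hf : ∀ g h : G, f (h * g * h⁻¹) = f g)
    (horth : ∀ i, ∑ g : G, f g * W.chi i g = 0) : f = 0 := by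
  classical
  have hz : ofFun f = 0 := by
    apply W.e.injective
    rw [map_zero]
    funext i
    obtain ⟨c, hc⟩ := W.central_scalar (ofFun f) (ofFun_central f hf) i
    have ht := W.traceFun_ofFun i f
    rw [horth i, traceFun_apply, hc] at ht
    have := W.hd i
    have hd : (W.d i : ℂ) ≠ 0 := by exact_mod_cast NeZero.ne (W.d i)
    have hc0 : c = 0 := by
      simp [Matrix.trace, Matrix.scalar_apply] at ht
      rcases ht with h | h
      · exact absurd h (NeZero.ne _)
      · exact h
    rw [hc, hc0]
    simp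
  have : ofFun f = ofFun (0 : G → ℂ) := by
    rw [hz]; simp [ofFun]
  exact ofFun_injective this

end WedderburnData

namespace WedderburnData

variable {G : Type u} [Group G] (W : WedderburnData G)

theorem chi_conj (i : Fin W.n) (g h : G) : W.chi i (h * g * h⁻¹) = W.chi i g :=
  Representation.char_conj _ g h

theorem chi_eq_of_isConj (i : Fin W.n) {g x : G} (h : IsConj g x) : W.chi i x = W.chi i g := by
  obtain ⟨c, hc⟩ := isConj_iff.1 h
  rw [← hc, chi_conj]

/-- Expansion of a class function in terms of the `chi j`. -/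
theorem expansion [Fintype G] (f : G → ℂ) (hf : ∀ g h : G, f (h * g * h⁻¹) = f g) (x : G) :
    f x = ∑ j, ((Nat.card G : ℂ)⁻¹ * ∑ y : G, f y * W.chi j y) * W.chi j x⁻¹ := by
  classical
  have hne : (Nat.card G : ℂ) ≠ 0 := by exact_mod_cast Nat.card_pos.ne'
  set c : Fin W.n → ℂ := fun j => (Nat.card G : ℂ)⁻¹ * ∑ y : G, f y * W.chi j y with hc
  have hzero : (fun x => f x - ∑ j, c j * W.chi j x⁻¹) = 0 := by
    apply W.completeness
    · intro g h
      simp only [hf g h]
      congr 1
      refine Finset.sum_congr rfl fun j _ => ?_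
      rw [show (h * g * h⁻¹)⁻¹ = h * g⁻¹ * h⁻¹ by group, chi_conj]
    · intro i
      simp only [sub_mul, Finset.sum_sub_distrib, Finset.sum_mul]
      rw [Finset.sum_comm]
      have : ∀ j, ∑ y : G, c j * W.chi j y⁻¹ * W.chi i y = c j * if i = j then (Nat.card G : ℂ) else 0 := by
        intro j
        rw [← W.chi_orthogonality i j, Finset.mul_sum]
        refine Finset.sum_congr rfl fun y _ => ?_
        ring
      simp only [this]
      simp only [mul_ite, mul_zero, Finset.sum_ite_eq, Finset.mem_univ, if_true]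
      simp only [hc]
      field_simp
      ring
  have := congrFun hzero x
  simp only [Pi.zero_apply, sub_eq_zero] at this
  exact this

open Classical in
theorem second_orthogonality_aux [Fintype G] (g h : G) :
    (Nat.card {x : G // IsConj g x} : ℂ) * ∑ j, W.chi j g * W.chi j h⁻¹ =
      if IsConj g h then (Nat.card G : ℂ) else 0 := by
  classical
  have hne : (Nat.card G : ℂ) ≠ 0 := by exact_mod_cast Nat.card_pos.ne'
  have hexp := W.expansion (fun x => if IsConj g x then (1 : ℂ) else 0) (by
    intro x y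
    have : IsConj g (y * x * y⁻¹) ↔ IsConj g x := by
      constructor
      · intro h1
        exact h1.trans (isConj_iff.2 ⟨y, rfl⟩).symm
      · intro h1
        exact h1.trans (isConj_iff.2 ⟨y, rfl⟩)
    simp only [this]) h
  have hsum : ∀ j, ∑ y : G, (if IsConj g y then (1 : ℂ) else 0) * W.chi j y =
      (Nat.card {x : G // IsConj g x} : ℂ) * W.chi j g := by
    intro j
    have : ∀ y : G, (if IsConj g y then (1 : ℂ) else 0) * W.chi j y =
        if IsConj g y then W.chi j g else 0 := by
      intro y
      split_ifs with hy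
      · rw [one_mul, W.chi_eq_of_isConj j hy]
      · rw [zero_mul]
    simp only [this]
    rw [← Finset.sum_filter, Finset.sum_const, nsmul_eq_mul, Nat.card_eq_fintype_card,
      Fintype.card_subtype]
  simp only [hsum] at hexp
  rw [Finset.mul_sum]
  have h3 : (if IsConj g h then (Nat.card G : ℂ) else 0) =
      (Nat.card G : ℂ) * (if IsConj g h then (1 : ℂ) else 0) := by
    split_ifs <;> simp
  rw [h3, hexp, Finset.mul_sum]
  refine Finset.sum_congr rfl fun j _ => ?_
  field_simp

end WedderburnData

section Unitary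

open scoped ComplexOrder
open Matrix

variable {G : Type u} [Group G]

/-- Character values at inverses are complex conjugates (finite group, coordinate space). -/
theorem character_inv_eq_conj [Finite G] {n : ℕ} (ρ : Representation ℂ G (Fin n → ℂ)) (g : G) :
    ρ.character g⁻¹ = conj (ρ.character g) := by
  classical
  have := Fintype.ofFinite G
  let M : G → Matrix (Fin n) (Fin n) ℂ := fun x => LinearMap.toMatrix' (ρ x)
  have hM1 : M 1 = 1 := by simp [M]
  have hMmul : ∀ x y, M (x * y) = M x * M y := by
    intro x y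
    simp only [M, map_mul]
    exact LinearMap.toMatrix'_mul _ _
  let H : Matrix (Fin n) (Fin n) ℂ := ∑ x : G, (M x)ᴴ * M x
  have hHpd : H.PosDef := by
    have : H = (M 1)ᴴ * M 1 + ∑ x ∈ Finset.univ.erase (1 : G), (M x)ᴴ * M x := by
      simp only [H]
      exact (Finset.add_sum_erase Finset.univ (fun x => (M x)ᴴ * M x) (Finset.mem_univ 1)).symm
    rw [this, hM1]
    simp only [conjTranspose_one, mul_one]
    apply Matrix.PosDef.add_posSemidef Matrix.PosDef.one
    apply Matrix.posSemidef_sum
    intro x _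
    exact Matrix.posSemidef_conjTranspose_mul_self _
  have hinv : ∀ y : G, (M y)ᴴ * H * M y = H := by
    intro y
    simp only [H, Finset.mul_sum, Finset.sum_mul]
    refine Fintype.sum_equiv (Equiv.mulRight y) _ _ fun x => ?_
    simp only [Equiv.coe_mulRight, hMmul, conjTranspose_mul]
    simp only [Matrix.mul_assoc]
  have hU : IsUnit H := hHpd.isUnit
  have hdet : IsUnit H.det := (Matrix.isUnit_iff_isUnit_det _).1 hU
  have hMinv : M g * M g⁻¹ = 1 := by rw [← hMmul, mul_inv_cancel, hM1]
  have key : (M g)ᴴ = H * M g⁻¹ * H⁻¹ := by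
    have h1 := hinv g
    have h2 : (M g)ᴴ * H = H * M g⁻¹ := by
      calc (M g)ᴴ * H = (M g)ᴴ * H * (M g * M g⁻¹) := by rw [hMinv, mul_one]
        _ = ((M g)ᴴ * H * M g) * M g⁻¹ := by simp only [Matrix.mul_assoc]
        _ = H * M g⁻¹ := by rw [h1]
    calc (M g)ᴴ = (M g)ᴴ * H * H⁻¹ := by
          rw [Matrix.mul_assoc, Matrix.mul_nonsing_inv _ hdet, mul_one]
      _ = H * M g⁻¹ * H⁻¹ := by rw [h2]
  have htr : ∀ x, ρ.character x = (M x).trace := by
    intro x
    simp only [Representation.character, M]
    rw [← Matrix.trace_toLin'_eq, Matrix.toLin'_toMatrix']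
  rw [htr, htr]
  have := congrArg Matrix.trace key
  rw [Matrix.trace_conjTranspose, Matrix.trace_mul_cycle, Matrix.nonsing_inv_mul _ hdet,
    one_mul] at this
  rw [← this]
  rfl

end Unitary

section Irr

variable {G : Type u} [Group G]

theorem finrank_ne_zero_of_isIrreducible {n : ℕ} (σ : Representation ℂ G (Fin n → ℂ))
    (hσ : σ.IsIrreducible) : n ≠ 0 := by
  rintro rfl
  obtain ⟨a, b, hab⟩ := hσ.exists_pair_ne
  apply hab
  apply Subrepresentation.toSubmodule_injective
  ext v
  have : v = 0 := Subsingleton.elim _ _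
  rw [this]
  exact ⟨fun _ => b.toSubmodule.zero_mem, fun _ => a.toSubmodule.zero_mem⟩

namespace WedderburnData

variable (W : WedderburnData G)

theorem exists_chi_eq [Finite G] {ψ : G → ℂ} (hψ : IsIrrCharacter G ψ) : ∃ i, W.chi i = ψ := by
  classical
  have := Fintype.ofFinite G
  obtain ⟨m, σ, hσ, rfl⟩ := hψ
  by_contra hcon
  push Not at hcon
  have hne : (Nat.card G : ℂ) ≠ 0 := by exact_mod_cast Nat.card_pos.ne'
  let _ : Invertible (Nat.card G : ℂ) := invertibleOfNonzero hne
  have horth : ∀ i, ∑ g : G, σ.character g⁻¹ * W.chi i g = 0 := by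
    intro i
    have h := Representation.char_orthonormal (W.rep i) σ
    have hno : ¬ Nonempty (σ.Equiv (W.rep i)) := by
      rintro ⟨φ⟩
      exact hcon i (Representation.char_iso φ).symm
    rw [if_neg hno] at h
    have h2 : ∑ g : G, (W.rep i).character g * σ.character g⁻¹ = 0 := by
      rcases mul_eq_zero.1 h with h | h
      · exact absurd h (inv_ne_zero hne)
      · exact h
    rw [← h2]
    refine Finset.sum_congr rfl fun g _ => ?_
    rw [mul_comm]; rfl
  have hz := W.completeness (fun g => σ.character g⁻¹) (by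
    intro g h
    rw [show (h * g * h⁻¹)⁻¹ = h * g⁻¹ * h⁻¹ by group, Representation.char_conj]) horth
  have h1 := congrFun hz 1
  simp only [inv_one, Representation.char_one, Pi.zero_apply, Module.finrank_fintype_fun_eq_card,
    Fintype.card_fin] at h1
  exact finrank_ne_zero_of_isIrreducible σ hσ (by exact_mod_cast h1)

/-- The irreducible characters are exactly the `chi i`. -/
noncomputable def equivIrr [Finite G] : Fin W.n ≃ IrrCharacter G :=
  Equiv.ofBijective (fun i => (⟨W.chi i, W.isIrrCharacter_chi i⟩ : IrrCharacter G))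
    ⟨fun i j h => W.chi_injective (congrArg Subtype.val h),
     fun ψ => by
      obtain ⟨i, hi⟩ := W.exists_chi_eq ψ.2
      exact ⟨i, Subtype.ext hi⟩⟩

theorem equivIrr_apply [Finite G] (i : Fin W.n) : (W.equivIrr i : G → ℂ) = W.chi i := rfl

end WedderburnData

instance irrCharacter_finite [Finite G] : Finite (IrrCharacter G) := by
  obtain ⟨W⟩ := exists_wedderburnData G
  exact Finite.of_equiv _ W.equivIrr

end Irr

section Counting

variable {G : Type u} [Group G]

theorem card_isConj_mul_card_centralizer (g : G) :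
    Nat.card {x : G // IsConj g x} * Nat.card (Subgroup.centralizer ({g} : Set G)) = Nat.card G := by
  have h1 : (Subgroup.centralizer ({g} : Set G)).index = Nat.card {x : G // IsConj g x} := by
    have h0 : (Subgroup.centralizer ({g} : Set G)).index =
        (MulAction.stabilizer (ConjAct G) g).index := by
      rw [Subgroup.centralizer_eq_comap_stabilizer]
      exact Subgroup.index_comap_of_surjective (MulAction.stabilizer (ConjAct G) g)
        (f := (ConjAct.toConjAct (G := G)).toMonoidHom) (ConjAct.toConjAct (G := G)).surjective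
    rw [h0, MulAction.index_stabilizer, ConjAct.orbit_eq_carrier_conjClasses]
    rw [← Nat.card_coe_set_eq]
    apply Nat.card_congr
    refine Equiv.subtypeEquivRight fun x => ?_
    rw [ConjClasses.mem_carrier_iff_mk_eq, ConjClasses.mk_eq_mk_iff_isConj]
    exact ⟨fun h => h.symm, fun h => h.symm⟩
  rw [← h1, mul_comm]
  exact Subgroup.card_mul_index _

end Counting

section API

variable {G : Type u} [Group G]

theorem isCharacter_inv [Finite G] {χ : G → ℂ} (h : IsCharacter G χ) (g : G) :
    χ g⁻¹ = conj (χ g) := by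
  obtain ⟨n, ρ, rfl⟩ := h
  exact character_inv_eq_conj ρ g

theorem isCharacter_of_irr {χ : G → ℂ} (h : IsIrrCharacter G χ) : IsCharacter G χ := by
  obtain ⟨n, ρ, _, rfl⟩ := h
  exact ⟨n, ρ, rfl⟩

theorem irr_inv [Finite G] (χ : IrrCharacter G) (g : G) :
    (χ : G → ℂ) g⁻¹ = conj ((χ : G → ℂ) g) :=
  isCharacter_inv (isCharacter_of_irr χ.2) g

theorem isCharacter_conj_class {χ : G → ℂ} (h : IsCharacter G χ) (g x : G) :
    χ (x * g * x⁻¹) = χ g := by
  obtain ⟨n, ρ, rfl⟩ := h
  exact Representation.char_conj ρ g x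

theorem irr_conj_class (χ : IrrCharacter G) (g x : G) :
    (χ : G → ℂ) (x * g * x⁻¹) = (χ : G → ℂ) g :=
  isCharacter_conj_class (isCharacter_of_irr χ.2) g x

theorem irr_eq_of_isConj (χ : IrrCharacter G) {g x : G} (h : IsConj g x) :
    (χ : G → ℂ) x = (χ : G → ℂ) g := by
  obtain ⟨c, hc⟩ := isConj_iff.1 h
  rw [← hc, irr_conj_class]

theorem isCharacter_one_eq {χ : G → ℂ} (h : IsCharacter G χ) :
    χ 1 = (charDegree χ : ℂ) := by
  obtain ⟨n, ρ, rfl⟩ := h
  simp [charDegree]

theorem irr_one (χ : IrrCharacter G) : (χ : G → ℂ) 1 = (charDegree (χ : G → ℂ) : ℂ) :=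
  isCharacter_one_eq (isCharacter_of_irr χ.2)

theorem charDegree_pos (χ : IrrCharacter G) : 0 < charDegree (χ : G → ℂ) := by
  obtain ⟨n, ρ, hρ, h⟩ := χ.2
  have hn := finrank_ne_zero_of_isIrreducible ρ hρ
  rw [← h]
  simp only [charDegree, Representation.char_one, Module.finrank_fintype_fun_eq_card,
    Fintype.card_fin, Complex.natCast_re, Nat.floor_natCast]
  omega

theorem irr_one_ne_zero (χ : IrrCharacter G) : (χ : G → ℂ) 1 ≠ 0 := by
  rw [irr_one]
  exact_mod_cast (charDegree_pos χ).ne'

variable [Finite G]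

theorem finsum_irr_eq (W : WedderburnData G) {M : Type*} [AddCommMonoid M]
    (F : IrrCharacter G → M) : ∑ᶠ χ : IrrCharacter G, F χ = ∑ i, F (W.equivIrr i) := by
  rw [← finsum_comp_equiv W.equivIrr, finsum_eq_sum_of_fintype]

theorem sum_irr_eq (W : WedderburnData G) [Fintype (IrrCharacter G)] {M : Type*} [AddCommMonoid M]
    (F : IrrCharacter G → M) : ∑ χ : IrrCharacter G, F χ = ∑ i, F (W.equivIrr i) :=
  (Fintype.sum_equiv W.equivIrr _ _ fun _ => rfl).symm

open Classical in
/-- First orthogonality relation. -/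
theorem irr_first_orthogonality [Fintype G] (χ ψ : IrrCharacter G) :
    ∑ g : G, (χ : G → ℂ) g * conj ((ψ : G → ℂ) g) = if χ = ψ then (Nat.card G : ℂ) else 0 := by
  obtain ⟨W⟩ := exists_wedderburnData G
  obtain ⟨i, rfl⟩ := W.equivIrr.surjective χ
  obtain ⟨j, rfl⟩ := W.equivIrr.surjective ψ
  have hinv : ∀ g, conj (W.chi j g) = W.chi j g⁻¹ := fun g =>
    (character_inv_eq_conj (W.rep j) g).symm
  simp only [WedderburnData.equivIrr_apply, hinv, W.chi_orthogonality,
    W.equivIrr.apply_eq_iff_eq]

open Classical in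
/-- Second orthogonality relation. -/
theorem irr_second_orthogonality (g h : G) :
    ∑ᶠ χ : IrrCharacter G, (χ : G → ℂ) g * conj ((χ : G → ℂ) h) =
      if IsConj g h then (Nat.card (Subgroup.centralizer ({g} : Set G)) : ℂ) else 0 := by
  have := Fintype.ofFinite G
  obtain ⟨W⟩ := exists_wedderburnData G
  rw [finsum_irr_eq W]
  have hinv : ∀ j, conj (W.chi j h) = W.chi j h⁻¹ := fun j =>
    (character_inv_eq_conj (W.rep j) h).symm
  simp only [WedderburnData.equivIrr_apply, hinv]
  have h1 := W.second_orthogonality_aux g h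
  have h2 := card_isConj_mul_card_centralizer g
  have hpos : (Nat.card {x : G // IsConj g x} : ℂ) ≠ 0 := by
    have : Nonempty {x : G // IsConj g x} := ⟨⟨g, IsConj.refl g⟩⟩
    exact_mod_cast Nat.card_pos.ne'
  apply mul_left_cancel₀ hpos
  rw [h1]
  split_ifs with hc
  · rw [← Nat.cast_mul, h2]
  · simp

/-- The number of irreducible characters equals the number of conjugacy classes. -/
theorem card_irr : Nat.card (IrrCharacter G) = Nat.card (ConjClasses G) := by
  classical
  have := Fintype.ofFinite G
  obtain ⟨W⟩ := exists_wedderburnData G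
  rw [Nat.card_congr W.equivIrr.symm, Nat.card_eq_fintype_card, Fintype.card_fin]
  have hne : (Nat.card G : ℂ) ≠ 0 := by exact_mod_cast Nat.card_pos.ne'
  have e1 : ∑ j : Fin W.n, ∑ g : G, W.chi j g * W.chi j g⁻¹ = W.n * (Nat.card G : ℂ) := by
    simp [W.chi_orthogonality]
  have e2 : ∑ g : G, ∑ j : Fin W.n, W.chi j g * W.chi j g⁻¹ =
      (Nat.card (ConjClasses G) : ℂ) * (Nat.card G : ℂ) := by
    have hg : ∀ g : G, ∑ j : Fin W.n, W.chi j g * W.chi j g⁻¹ =
        (Nat.card G : ℂ) * (Nat.card {x : G // IsConj g x} : ℂ)⁻¹ := by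
      intro g
      have h1 := W.second_orthogonality_aux g g
      rw [if_pos (IsConj.refl g)] at h1
      have hpos : (Nat.card {x : G // IsConj g x} : ℂ) ≠ 0 := by
        have : Nonempty {x : G // IsConj g x} := ⟨⟨g, IsConj.refl g⟩⟩
        exact_mod_cast Nat.card_pos.ne'
      field_simp
      rw [mul_comm]
      exact h1
    simp only [hg]
    rw [← Finset.mul_sum, mul_comm]
    congr 1
    rw [← Finset.sum_fiberwise Finset.univ (ConjClasses.mk (α := G))]
    have : ∀ C : ConjClasses G, ∑ g ∈ Finset.univ with ConjClasses.mk g = C,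
        (Nat.card {x : G // IsConj g x} : ℂ)⁻¹ = 1 := by
      intro C
      obtain ⟨g₀, rfl⟩ := ConjClasses.mk_surjective C
      have hcongr : ∀ g ∈ Finset.univ.filter (fun g => ConjClasses.mk g = ConjClasses.mk g₀),
          (Nat.card {x : G // IsConj g x} : ℂ)⁻¹ =
          ((Finset.univ.filter (fun g => ConjClasses.mk g = ConjClasses.mk g₀)).card : ℂ)⁻¹ := by
        intro g hg
        rw [Finset.mem_filter] at hg
        congr 2
        rw [Nat.card_eq_fintype_card, Fintype.card_subtype]
        congr 1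
        ext x
        simp only [Finset.mem_filter, Finset.mem_univ, true_and]
        rw [← hg.2, ConjClasses.mk_eq_mk_iff_isConj]
        exact ⟨fun h => h.symm, fun h => h.symm⟩
      rw [Finset.sum_congr rfl hcongr, Finset.sum_const, nsmul_eq_mul]
      apply mul_inv_cancel₀
      have : g₀ ∈ Finset.univ.filter (fun g => ConjClasses.mk g = ConjClasses.mk g₀) := by simp
      exact_mod_cast (Finset.card_pos.2 ⟨g₀, this⟩).ne'
    simp only [this]
    simp [Nat.card_eq_fintype_card]
  rw [Finset.sum_comm, e2] at e1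
  have := mul_right_cancel₀ hne e1
  exact_mod_cast this.symm

end API

section More

variable {G : Type u} [Group G]

theorem central_of_commute_of (a : MonoidAlgebra ℂ G)
    (h : ∀ y : G, MonoidAlgebra.of ℂ G y * a = a * MonoidAlgebra.of ℂ G y)
    (b : MonoidAlgebra ℂ G) : b * a = a * b := by
  induction b using MonoidAlgebra.induction_linear with
  | zero => simp
  | add x y hx hy => rw [add_mul, mul_add, hx, hy]
  | single g c =>
    have : MonoidAlgebra.single g c = c • MonoidAlgebra.of ℂ G g := by
      simp [MonoidAlgebra.of_apply]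
    rw [this, smul_mul_assoc, mul_smul_comm, h]

theorem classSum_central [Fintype G] (g : G) (b : MonoidAlgebra ℂ G) :
    b * (∑ x : G, MonoidAlgebra.of ℂ G (x * g * x⁻¹)) =
      (∑ x : G, MonoidAlgebra.of ℂ G (x * g * x⁻¹)) * b := by
  apply central_of_commute_of
  intro y
  simp only [Finset.mul_sum, Finset.sum_mul, ← map_mul]
  refine Fintype.sum_equiv (Equiv.mulLeft y) _ _ fun x => ?_
  simp only [Equiv.coe_mulLeft]
  congr 1
  group

namespace WedderburnData

variable (W : WedderburnData G)

/-- Schur: conjugation-averaged products of characters. -/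
theorem chi_sum_conj_mul [Fintype G] (i : Fin W.n) (g h : G) :
    ∑ x : G, W.chi i (x * g * x⁻¹ * h) * W.chi i 1 = (Nat.card G : ℂ) * W.chi i g * W.chi i h := by
  classical
  set a : MonoidAlgebra ℂ G := ∑ x : G, MonoidAlgebra.of ℂ G (x * g * x⁻¹) with ha
  obtain ⟨c, hc⟩ := W.central_scalar a (classSum_central g) i
  have h1 : W.traceFun i a = (Nat.card G : ℂ) * W.chi i g := by
    simp only [ha, map_sum, traceFun_of, chi_conj, Finset.sum_const, Finset.card_univ,
      nsmul_eq_mul, Nat.card_eq_fintype_card]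
  have h2 : W.traceFun i a = c * W.chi i 1 := by
    rw [traceFun_apply, hc, chi_one]
    simp [Matrix.trace, mul_comm]
  have h3 : W.traceFun i (a * MonoidAlgebra.of ℂ G h) = c * W.chi i h := by
    rw [traceFun_apply, map_mul, Pi.mul_apply, hc, chi_apply]
    simp [Matrix.trace, Finset.mul_sum]
  have h4 : W.traceFun i (a * MonoidAlgebra.of ℂ G h) = ∑ x : G, W.chi i (x * g * x⁻¹ * h) := by
    simp only [ha, Finset.sum_mul, ← map_mul, map_sum, traceFun_of]
  rw [← Finset.sum_mul, ← h4, h3, mul_right_comm, ← h2, h1]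

end WedderburnData

variable [Finite G]

/-- Schur: conjugation-averaged products of irreducible character values. -/
theorem irr_sum_conj_mul [Fintype G] (χ : IrrCharacter G) (g h : G) :
    ∑ x : G, (χ : G → ℂ) (x * g * x⁻¹ * h) =
      (Nat.card G : ℂ) * (χ : G → ℂ) g * (χ : G → ℂ) h / (χ : G → ℂ) 1 := by
  obtain ⟨W⟩ := exists_wedderburnData G
  obtain ⟨i, rfl⟩ := W.equivIrr.surjective χ
  rw [eq_div_iff (irr_one_ne_zero _), Finset.sum_mul]
  exact W.chi_sum_conj_mul i g h

/-- Expansion of class functions via irreducible characters. -/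
theorem classFunction_expansion [Fintype G] (f : G → ℂ) (hf : ∀ g h : G, f (h * g * h⁻¹) = f g)
    (x : G) : f x = ∑ᶠ χ : IrrCharacter G, classInner f (χ : G → ℂ) * (χ : G → ℂ) x := by
  obtain ⟨W⟩ := exists_wedderburnData G
  rw [finsum_irr_eq W]
  have hexp : ∀ g, (fun y => f y⁻¹) g =
      ∑ j, ((Nat.card G : ℂ)⁻¹ * ∑ y : G, (fun y => f y⁻¹) y * W.chi j y) * W.chi j g⁻¹ :=
    W.expansion (fun y => f y⁻¹) (by
      intro g h
      rw [show (h * g * h⁻¹)⁻¹ = h * g⁻¹ * h⁻¹ by group, hf])
  have := hexp x⁻¹
  simp only [inv_inv] at this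
  rw [this]
  refine Finset.sum_congr rfl fun j _ => ?_
  congr 1
  simp only [classInner, WedderburnData.equivIrr_apply]
  congr 1
  refine Fintype.sum_equiv (Equiv.inv G) _ _ fun y => ?_
  simp only [Equiv.inv_apply]
  have h5 : conj (W.chi j y⁻¹) = W.chi j y := by
    have := character_inv_eq_conj (W.rep j) y⁻¹
    rw [inv_inv] at this
    exact this.symm
  rw [h5]

open Classical in
theorem classInner_irr [Fintype G] (χ ψ : IrrCharacter G) :
    classInner (χ : G → ℂ) (ψ : G → ℂ) = if χ = ψ then 1 else 0 := by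
  have hne : (Nat.card G : ℂ) ≠ 0 := by exact_mod_cast Nat.card_pos.ne'
  rw [classInner, irr_first_orthogonality]
  split_ifs
  · exact inv_mul_cancel₀ hne
  · simp

end More

end Cfsg.Agent.Helper80
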