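import Mathlib
import Cfsg.Prelude.Def_Blocks
import Cfsg.Agent.Lib.Helper80.CharBasic

set_option autoImplicit false

namespace Cfsg.Agent.Helper80

open scoped ComplexConjugate
open Cfsg Matrix

universe u

section Trivial

variable {G : Type u} [Group G]

/-- The trivial character is irreducible. -/
theorem isIrrCharacter_one : IsIrrCharacter G (fun _ => (1 : ℂ)) := by
  refine ⟨1, (1 : Representation ℂ G (Fin 1 → ℂ)), ?_, ?_⟩
  · refine { exists_pair_ne := ⟨⊥, ⊤, ?_⟩, eq_bot_or_eq_top := ?_ }
    · intro h
      have h1 : (fun _ => (1 : ℂ)) ∈ (⊤ : Subrepresentation (1 : Representation ℂ G (Fin 1 → ℂ))) :=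
        Submodule.mem_top
      rw [← h] at h1
      have h2 : (fun _ : Fin 1 => (1 : ℂ)) = 0 := (Submodule.mem_bot ℂ).1 h1
      have := congrFun h2 0
      simp at this
    · intro σ
      by_cases hσ : ∀ v ∈ σ, v = 0
      · left
        apply Subrepresentation.toSubmodule_injective
        exact (Submodule.eq_bot_iff _).2 hσ
      · right
        push Not at hσ
        obtain ⟨v, hvσ, hv0⟩ := hσ
        have hv : v 0 ≠ 0 := by
          intro h0
          apply hv0
          funext i
          rw [Subsingleton.elim i 0, h0]; rfl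
        apply Subrepresentation.toSubmodule_injective
        refine (Submodule.eq_top_iff').2 fun w => ?_
        have : w = (w 0 / v 0) • v := by
          funext i
          rw [Subsingleton.elim i 0]
          simp [hv]
        rw [this]
        exact σ.toSubmodule.smul_mem _ hvσ
  · funext g
    simp [Representation.character]

/-- The trivial character as an element of `IrrCharacter G`. -/
noncomputable def trivialIrr (G : Type u) [Group G] : IrrCharacter G :=
  ⟨fun _ => 1, isIrrCharacter_one⟩

theorem trivialIrr_apply (g : G) : (trivialIrr G : G → ℂ) g = 1 := rfl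

end Trivial

section FS

variable {G : Type u} [Group G]

/-- For an irreducible representation whose character is not real valued, the sum of the
character over squares vanishes. -/
theorem sum_char_sq_eq_zero_of_not_real [Fintype G] {n : ℕ} (ρ : Representation ℂ G (Fin n → ℂ))
    (hρ : ρ.IsIrreducible) (hnr : ¬ ∀ g : G, ρ.character g⁻¹ = ρ.character g) :
    ∑ u : G, ρ.character (u * u) = 0 := by
  classical
  let M : G → Matrix (Fin n) (Fin n) ℂ := fun x => LinearMap.toMatrix' (ρ x)
  have hM1 : M 1 = 1 := by simp [M]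
  have hMmul : ∀ x y, M (x * y) = M x * M y := by
    intro x y
    simp only [M, map_mul]
    exact LinearMap.toMatrix'_mul _ _
  have htr : ∀ x, ρ.character x = (M x).trace := by
    intro x
    simp only [Representation.character, M]
    rw [← Matrix.trace_toLin'_eq, Matrix.toLin'_toMatrix']
  have hρM : ∀ x, ρ x = Matrix.toLin' (M x) := by
    intro x
    simp [M]
  let T : Matrix (Fin n) (Fin n) ℂ → Matrix (Fin n) (Fin n) ℂ :=
    fun X => ∑ u : G, M u * X * (M u)ᵀ
  have hT : ∀ g X, M g * T X * (M g)ᵀ = T X := by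
    intro g X
    simp only [T, Finset.mul_sum, Finset.sum_mul]
    refine Fintype.sum_equiv (Equiv.mulLeft g) _ _ fun u => ?_
    simp only [Equiv.coe_mulLeft, hMmul, Matrix.transpose_mul]
    simp only [Matrix.mul_assoc]
  have hT2 : ∀ g X, M g * T X = T X * (M g⁻¹)ᵀ := by
    intro g X
    have h1 : (M g)ᵀ * (M g⁻¹)ᵀ = 1 := by
      rw [← Matrix.transpose_mul, ← hMmul, inv_mul_cancel, hM1, Matrix.transpose_one]
    calc M g * T X = M g * T X * ((M g)ᵀ * (M g⁻¹)ᵀ) := by rw [h1, mul_one]
      _ = (M g * T X * (M g)ᵀ) * (M g⁻¹)ᵀ := by simp only [Matrix.mul_assoc]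
      _ = T X * (M g⁻¹)ᵀ := by rw [hT]
  have hTzero : ∀ X, T X = 0 := by
    intro X
    by_contra hne
    let σ : Subrepresentation ρ :=
      { toSubmodule := LinearMap.range (Matrix.toLin' (T X))
        apply_mem_toSubmodule := by
          rintro g _ ⟨w, rfl⟩
          refine ⟨Matrix.toLin' ((M g⁻¹)ᵀ) w, ?_⟩
          rw [hρM g, ← LinearMap.comp_apply, ← LinearMap.comp_apply, ← Matrix.toLin'_mul,
            ← Matrix.toLin'_mul, hT2] }
    rcases hρ.eq_bot_or_eq_top σ with hb | ht
    · apply hne
      have h1 : LinearMap.range (Matrix.toLin' (T X)) = ⊥ := congrArg Subrepresentation.toSubmodule hb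
      rw [LinearMap.range_eq_bot] at h1
      have := congrArg LinearMap.toMatrix' h1
      simpa using this
    · have h1 : LinearMap.range (Matrix.toLin' (T X)) = ⊤ := congrArg Subrepresentation.toSubmodule ht
      have hsurj : Function.Surjective (Matrix.toLin' (T X)) := LinearMap.range_eq_top.1 h1
      have hinj : Function.Injective (Matrix.toLin' (T X)) :=
        LinearMap.injective_iff_surjective.2 hsurj
      have hunit : IsUnit (T X) := by
        rw [← Matrix.mulVec_injective_iff_isUnit]
        exact hinj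
      have hdet : IsUnit (T X).det := (Matrix.isUnit_iff_isUnit_det _).1 hunit
      apply hnr
      intro g
      have h2 := hT2 g X
      have h3 : M g = T X * (M g⁻¹)ᵀ * (T X)⁻¹ := by
        rw [← h2, Matrix.mul_assoc, Matrix.mul_nonsing_inv _ hdet, mul_one]
      rw [htr, htr]
      have := congrArg Matrix.trace h3
      rw [Matrix.trace_mul_cycle, Matrix.nonsing_inv_mul _ hdet, one_mul,
        Matrix.trace_transpose] at this
      exact this.symm
  have haux : ∀ (A : Matrix (Fin n) (Fin n) ℂ) (i j : Fin n),
      (A * Matrix.single j i (1 : ℂ) * Aᵀ : Matrix (Fin n) (Fin n) ℂ) i j = A i j * A j i := by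
    intro A i j
    rw [Matrix.mul_apply]
    have : ∀ k, (A * Matrix.single j i (1 : ℂ)) i k = if k = i then A i j else 0 := by
      intro k
      by_cases hk : k = i
      · subst hk
        simp [Matrix.mul_apply, Matrix.single_apply]
      · have hk' : ¬ i = k := fun h => hk h.symm
        simp [Matrix.mul_apply, hk, hk']
    simp only [this, Matrix.transpose_apply, ite_mul, zero_mul, Finset.sum_ite_eq',
      Finset.mem_univ, if_true]
  have hsq : ∀ u : G, ρ.character (u * u) =
      ∑ i, ∑ j, (M u * Matrix.single j i (1 : ℂ) * (M u)ᵀ : Matrix (Fin n) (Fin n) ℂ) i j := by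
    intro u
    simp only [haux]
    rw [htr, hMmul, Matrix.trace]
    simp only [Matrix.diag_apply, Matrix.mul_apply]
  simp only [hsq]
  rw [Finset.sum_comm]
  have : ∀ i, ∑ u : G, ∑ j, (M u * Matrix.single j i (1 : ℂ) * (M u)ᵀ : Matrix (Fin n) (Fin n) ℂ) i j = 0 := by
    intro i
    rw [Finset.sum_comm]
    refine Finset.sum_eq_zero fun j _ => ?_
    have := congrFun (congrFun (hTzero (Matrix.single j i (1 : ℂ))) i) j
    simp only [T, Matrix.sum_apply, Matrix.zero_apply] at this
    exact this
  simp only [this, Finset.sum_const_zero]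

theorem irr_sum_sq_eq_zero_of_not_real [Fintype G] (χ : IrrCharacter G)
    (h : ¬ ∀ g : G, ((χ : G → ℂ) g).im = 0) : ∑ u : G, (χ : G → ℂ) (u * u) = 0 := by
  have : Finite G := Finite.of_fintype G
  obtain ⟨n, ρ, hρ, hχ⟩ := χ.2
  rw [← hχ]
  apply sum_char_sq_eq_zero_of_not_real ρ hρ
  intro hall
  apply h
  intro g
  have h1 := hall g
  rw [character_inv_eq_conj ρ g] at h1
  rw [← hχ]
  exact Complex.conj_eq_iff_im.1 h1

/-- The number of square roots of `g`, expanded in irreducible characters. -/
theorem card_sqrt_eq [Fintype G] (g : G) :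
    (Nat.card {u : G // u * u = g} : ℂ) = ∑ᶠ χ : IrrCharacter G,
      conj ((Nat.card G : ℂ)⁻¹ * ∑ u : G, (χ : G → ℂ) (u * u)) * (χ : G → ℂ) g := by
  classical
  have : Finite G := Finite.of_fintype G
  have hcf : ∀ a b : G, (fun x : G => (Nat.card {u : G // u * u = x} : ℂ)) (b * a * b⁻¹) =
      (fun x : G => (Nat.card {u : G // u * u = x} : ℂ)) a := by
    intro a b
    simp only
    congr 1
    apply Nat.card_congr
    refine ⟨fun u => ⟨b⁻¹ * u.1 * b, ?_⟩, fun u => ⟨b * u.1 * b⁻¹, ?_⟩, ?_, ?_⟩
    · have := u.2
      calc b⁻¹ * u.1 * b * (b⁻¹ * u.1 * b) = b⁻¹ * (u.1 * u.1) * b := by group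
        _ = a := by rw [this]; group
    · have := u.2
      calc b * u.1 * b⁻¹ * (b * u.1 * b⁻¹) = b * (u.1 * u.1) * b⁻¹ := by group
        _ = b * a * b⁻¹ := by rw [this]
    · intro u; ext; simp only; group
    · intro u; ext; simp only; group
  rw [classFunction_expansion (fun x : G => (Nat.card {u : G // u * u = x} : ℂ)) hcf g]
  congr 1
  funext χ
  congr 1
  rw [classInner, map_mul, map_inv₀, Complex.conj_natCast, map_sum]
  congr 1
  have h1 : ∀ x : G, (Nat.card {u : G // u * u = x} : ℂ) * conj ((χ : G → ℂ) x) =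
      ∑ u : G, if u * u = x then conj ((χ : G → ℂ) (u * u)) else 0 := by
    intro x
    rw [Nat.card_eq_fintype_card, Fintype.card_subtype, Finset.card_filter]
    push_cast
    rw [Finset.sum_mul]
    refine Finset.sum_congr rfl fun u _ => ?_
    split_ifs with hu
    · rw [one_mul, hu]
    · rw [zero_mul]
  simp only [h1]
  rw [Finset.sum_comm]
  refine Finset.sum_congr rfl fun u _ => ?_
  simp

end FS

end Cfsg.Agent.Helper80
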