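import Mathlib
import Cfsg.Prelude.Def_Blocks
import Cfsg.Agent.Lib.Helper80.FrobSchur

set_option autoImplicit false

namespace Cfsg.Agent.Helper80

open scoped ComplexConjugate
open Cfsg

universe u

section Gagola

variable {G : Type u} [Group G] [Finite G]

omit [Finite G] in
/-- Basic structure of a character nonvanishing on exactly two classes: the nonvanishing set is
`{1}` together with the class of some `g₀ ≠ 1`. -/
theorem gagola_support (χ : IrrCharacter G)
    (hχ : Nat.card {C : ConjClasses G // ∃ g ∈ C.carrier, (χ : G → ℂ) g ≠ 0} = 2) :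
    ∃ g₀ : G, g₀ ≠ 1 ∧ (χ : G → ℂ) g₀ ≠ 0 ∧
      ∀ x : G, (χ : G → ℂ) x ≠ 0 ↔ (x = 1 ∨ IsConj g₀ x) := by
  classical
  have h1mem : ∃ g ∈ (ConjClasses.mk (1 : G)).carrier, (χ : G → ℂ) g ≠ 0 :=
    ⟨1, ConjClasses.mem_carrier_mk, irr_one_ne_zero χ⟩
  obtain ⟨⟨C₁, g₀, hg₀C, hg₀⟩, hne, huniq⟩ :=
    (Nat.card_eq_two_iff' (⟨ConjClasses.mk (1 : G), h1mem⟩ :
      {C : ConjClasses G // ∃ g ∈ C.carrier, (χ : G → ℂ) g ≠ 0})).1 hχ
  have hC₁ : C₁ = ConjClasses.mk g₀ := (ConjClasses.mem_carrier_iff_mk_eq.1 hg₀C).symm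
  have hg₀1 : g₀ ≠ 1 := by
    rintro rfl
    apply hne
    exact Subtype.ext hC₁
  refine ⟨g₀, hg₀1, hg₀, fun x => ⟨fun hx => ?_, ?_⟩⟩
  · by_cases hx1 : x = 1
    · exact Or.inl hx1
    · right
      have hxmem : ∃ g ∈ (ConjClasses.mk x).carrier, (χ : G → ℂ) g ≠ 0 :=
        ⟨x, ConjClasses.mem_carrier_mk, hx⟩
      have hxne : (⟨ConjClasses.mk x, hxmem⟩ :
          {C : ConjClasses G // ∃ g ∈ C.carrier, (χ : G → ℂ) g ≠ 0}) ≠
          ⟨ConjClasses.mk (1 : G), h1mem⟩ := by
        intro h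
        have h' : ConjClasses.mk x = ConjClasses.mk 1 := congrArg Subtype.val h
        rw [ConjClasses.mk_eq_mk_iff_isConj] at h'
        exact hx1 (isConj_one_left.1 h')
      have := huniq _ hxne
      have h2 : ConjClasses.mk x = C₁ := congrArg Subtype.val this
      rw [hC₁, ConjClasses.mk_eq_mk_iff_isConj] at h2
      exact h2.symm
  · rintro (rfl | hx)
    · exact irr_one_ne_zero χ
    · rw [irr_eq_of_isConj χ hx]
      exact hg₀

/-- A finite group in which all nonidentity elements are conjugate to `g₀` has order at most 2. -/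
theorem card_le_two_of_all_conj (g₀ : G) (h : ∀ x : G, x ≠ 1 → IsConj g₀ x) : Nat.card G ≤ 2 := by
  classical
  have := Fintype.ofFinite G
  by_cases hg : g₀ = 1
  · subst hg
    have : ∀ x : G, x = 1 := by
      intro x
      by_contra hx
      exact hx (isConj_one_right.1 (h x hx))
    have : Subsingleton G := ⟨fun a b => (this a).trans (this b).symm⟩
    rw [Nat.card_eq_fintype_card]
    exact le_trans (Fintype.card_le_one_iff_subsingleton.2 this) (by norm_num)
  · have hcard : Nat.card {x : G // IsConj g₀ x} = Nat.card G - 1 := by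
      have : {x : G // IsConj g₀ x} ≃ {x : G // x ≠ 1} :=
        Equiv.subtypeEquivRight fun x => ⟨fun hx h1 => by
          subst h1
          exact hg (isConj_one_left.1 hx), h x⟩
      rw [Nat.card_congr this, Nat.card_eq_fintype_card, Nat.card_eq_fintype_card,
        Fintype.card_subtype_compl, Fintype.card_subtype_eq]
    have hmul := card_isConj_mul_card_centralizer g₀
    rw [hcard] at hmul
    have hpos : 0 < Nat.card G := Nat.card_pos
    have hdvd : Nat.card G - 1 ∣ Nat.card G := Dvd.intro _ hmul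
    have hdvd1 : Nat.card G - 1 ∣ 1 := by
      have := (Nat.dvd_sub hdvd (dvd_refl (Nat.card G - 1)))
      rwa [show Nat.card G - (Nat.card G - 1) = 1 by omega] at this
    have := Nat.le_of_dvd (by norm_num) hdvd1
    omega

omit [Finite G] in
/-- Splitting the inner product with a character supported on `{1} ∪ cl(g₀)`. -/
theorem gagola_split [Fintype G] (χ : IrrCharacter G) (g₀ : G) (hg₀1 : g₀ ≠ 1)
    (hsupp : ∀ x : G, (χ : G → ℂ) x ≠ 0 ↔ (x = 1 ∨ IsConj g₀ x)) (ψ : IrrCharacter G) :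
    ∑ x : G, (χ : G → ℂ) x * conj ((ψ : G → ℂ) x) =
      (χ : G → ℂ) 1 * (ψ : G → ℂ) 1 +
        (Nat.card {x : G // IsConj g₀ x} : ℂ) * ((χ : G → ℂ) g₀ * conj ((ψ : G → ℂ) g₀)) := by
  classical
  have hsub : ∑ x : G, (χ : G → ℂ) x * conj ((ψ : G → ℂ) x) =
      ∑ x ∈ insert (1 : G) (Finset.univ.filter (fun x => IsConj g₀ x)),
        (χ : G → ℂ) x * conj ((ψ : G → ℂ) x) := by
    symm
    apply Finset.sum_subset (Finset.subset_univ _)
    intro x _ hx
    have : (χ : G → ℂ) x = 0 := by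
      by_contra h0
      apply hx
      rcases (hsupp x).1 h0 with h | h
      · rw [h]; exact Finset.mem_insert_self _ _
      · exact Finset.mem_insert_of_mem (Finset.mem_filter.2 ⟨Finset.mem_univ _, h⟩)
    rw [this, zero_mul]
  rw [hsub, Finset.sum_insert]
  · congr 1
    · rw [irr_one ψ]; simp
    · have : ∀ x ∈ Finset.univ.filter (fun x => IsConj g₀ x),
          (χ : G → ℂ) x * conj ((ψ : G → ℂ) x) = (χ : G → ℂ) g₀ * conj ((ψ : G → ℂ) g₀) := by
        intro x hx
        rw [Finset.mem_filter] at hx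
        rw [irr_eq_of_isConj χ hx.2, irr_eq_of_isConj ψ hx.2]
      rw [Finset.sum_congr rfl this, Finset.sum_const, nsmul_eq_mul,
        Nat.card_eq_fintype_card, Fintype.card_subtype]
  · simp only [Finset.mem_filter, Finset.mem_univ, true_and]
    intro h
    exact hg₀1 (isConj_one_left.1 h)

/-- The norm equation for a character supported on `{1} ∪ cl(g₀)`. -/
theorem gagola_norm (χ : IrrCharacter G) (g₀ : G) (hg₀1 : g₀ ≠ 1)
    (hsupp : ∀ x : G, (χ : G → ℂ) x ≠ 0 ↔ (x = 1 ∨ IsConj g₀ x)) :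
    (Nat.card G : ℂ) = (χ : G → ℂ) 1 * (χ : G → ℂ) 1 +
        (Nat.card {x : G // IsConj g₀ x} : ℂ) * ((χ : G → ℂ) g₀ * conj ((χ : G → ℂ) g₀)) := by
  classical
  have := Fintype.ofFinite G
  rw [← gagola_split χ g₀ hg₀1 hsupp χ, irr_first_orthogonality, if_pos rfl]

/-- Gagola's basic lemma. -/
theorem gagola_basic (hG : 2 < Nat.card G) (χ : IrrCharacter G)
    (hχ : Nat.card {C : ConjClasses G // ∃ g ∈ C.carrier, (χ : G → ℂ) g ≠ 0} = 2) :
    ∃ g₀ : G, g₀ ≠ 1 ∧ (∀ x : G, (χ : G → ℂ) x ≠ 0 ↔ (x = 1 ∨ IsConj g₀ x)) ∧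
      (χ : G → ℂ) g₀ * (Nat.card {x : G // IsConj g₀ x} : ℂ) = - (χ : G → ℂ) 1 ∧
      ∀ ψ : IrrCharacter G, ψ ≠ χ → (ψ : G → ℂ) g₀ = (ψ : G → ℂ) 1 := by
  classical
  have := Fintype.ofFinite G
  obtain ⟨g₀, hg₀1, hg₀, hsupp⟩ := gagola_support χ hχ
  refine ⟨g₀, hg₀1, hsupp, ?_⟩
  set c : ℕ := Nat.card {x : G // IsConj g₀ x} with hc
  -- the orthogonality relation, split over the support
  have hsplit : ∀ ψ : IrrCharacter G, ∑ x : G, (χ : G → ℂ) x * conj ((ψ : G → ℂ) x) =
      (χ : G → ℂ) 1 * (ψ : G → ℂ) 1 + (c : ℂ) * ((χ : G → ℂ) g₀ * conj ((ψ : G → ℂ) g₀)) := by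
    intro ψ
    have hsub : ∑ x : G, (χ : G → ℂ) x * conj ((ψ : G → ℂ) x) =
        ∑ x ∈ insert (1 : G) (Finset.univ.filter (fun x => IsConj g₀ x)),
          (χ : G → ℂ) x * conj ((ψ : G → ℂ) x) := by
      symm
      apply Finset.sum_subset (Finset.subset_univ _)
      intro x _ hx
      have : (χ : G → ℂ) x = 0 := by
        by_contra h0
        apply hx
        rcases (hsupp x).1 h0 with h | h
        · rw [h]; exact Finset.mem_insert_self _ _
        · exact Finset.mem_insert_of_mem (Finset.mem_filter.2 ⟨Finset.mem_univ _, h⟩)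
      rw [this, zero_mul]
    rw [hsub, Finset.sum_insert]
    · congr 1
      · rw [irr_one ψ]; simp
      · have : ∀ x ∈ Finset.univ.filter (fun x => IsConj g₀ x),
            (χ : G → ℂ) x * conj ((ψ : G → ℂ) x) = (χ : G → ℂ) g₀ * conj ((ψ : G → ℂ) g₀) := by
          intro x hx
          rw [Finset.mem_filter] at hx
          rw [irr_eq_of_isConj χ hx.2, irr_eq_of_isConj ψ hx.2]
        rw [Finset.sum_congr rfl this, Finset.sum_const, nsmul_eq_mul, hc,
          Nat.card_eq_fintype_card, Fintype.card_subtype]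
    · simp only [Finset.mem_filter, Finset.mem_univ, true_and]
      intro h
      exact hg₀1 (isConj_one_left.1 h)
  -- χ is not the trivial character
  have htriv : trivialIrr G ≠ χ := by
    intro h
    have : ∀ x : G, x ≠ 1 → IsConj g₀ x := by
      intro x hx
      have hx0 : (χ : G → ℂ) x ≠ 0 := by
        rw [← h, trivialIrr_apply]; exact one_ne_zero
      rcases (hsupp x).1 hx0 with h1 | h1
      · exact absurd h1 hx
      · exact h1
    have := card_le_two_of_all_conj g₀ this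
    omega
  have h1 := hsplit (trivialIrr G)
  rw [irr_first_orthogonality, if_neg (Ne.symm htriv)] at h1
  simp only [trivialIrr_apply, map_one, mul_one] at h1
  have hb : (χ : G → ℂ) g₀ * (c : ℂ) = - (χ : G → ℂ) 1 := by
    rw [eq_neg_iff_add_eq_zero, add_comm, mul_comm]
    exact h1.symm
  refine ⟨hb, fun ψ hψ => ?_⟩
  have h2 := hsplit ψ
  rw [irr_first_orthogonality, if_neg (Ne.symm hψ)] at h2
  have h3 : (χ : G → ℂ) 1 * ((ψ : G → ℂ) 1 - conj ((ψ : G → ℂ) g₀)) = 0 := by
    have : (c : ℂ) * ((χ : G → ℂ) g₀ * conj ((ψ : G → ℂ) g₀)) =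
        ((χ : G → ℂ) g₀ * (c : ℂ)) * conj ((ψ : G → ℂ) g₀) := by ring
    rw [this, hb] at h2
    rw [mul_sub, h2]
    ring
  have h4 : (ψ : G → ℂ) 1 - conj ((ψ : G → ℂ) g₀) = 0 := by
    rcases mul_eq_zero.1 h3 with h | h
    · exact absurd h (irr_one_ne_zero χ)
    · exact h
  have h5 : conj ((ψ : G → ℂ) g₀) = (ψ : G → ℂ) 1 := (sub_eq_zero.1 h4).symm
  have h6 := congrArg conj h5
  rw [Complex.conj_conj] at h6
  rw [h6, irr_one ψ]
  simp

end Gagola

end Cfsg.Agent.Helper80
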