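import Mathlib
import Cfsg.Prelude.Def_Blocks
import Cfsg.Prelude.Def_Transfer
import Cfsg.Agent.Lib.Helper80.Gagola
import Cfsg.Agent.Lib.Helper79.Inflation

set_option autoImplicit false

namespace Cfsg.Agent.Helper80

open scoped ComplexConjugate
open Cfsg

universe u

section Separate

variable {H : Type u} [Group H] [Finite H]

/-- Irreducible characters separate nonidentity elements from the identity. -/
theorem exists_irr_ne_of_ne_one (h : H) (hh : h ≠ 1) :
    ∃ ψ : IrrCharacter H, (ψ : H → ℂ) h ≠ (ψ : H → ℂ) 1 := by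
  classical
  by_contra hcon
  push Not at hcon
  have h1 := irr_second_orthogonality h (1 : H)
  have h2 := irr_second_orthogonality (1 : H) (1 : H)
  rw [if_neg (fun hc => hh (isConj_one_left.1 hc))] at h1
  rw [if_pos (IsConj.refl _)] at h2
  simp only [hcon] at h1
  rw [h1] at h2
  have : Nonempty (Subgroup.centralizer ({1} : Set H)) := ⟨1⟩
  have hpos : (Nat.card (Subgroup.centralizer ({1} : Set H)) : ℂ) ≠ 0 := by
    exact_mod_cast Nat.card_pos.ne'
  exact hpos h2.symm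

end Separate

section Gagola2

variable {G : Type u} [Group G] [Finite G]

/-- The intersection of the kernels of all irreducible characters other than `χ`. -/
noncomputable def gagolaSubgroup (χ : IrrCharacter G) : Subgroup G :=
  ⨅ ψ : {ψ : IrrCharacter G // ψ ≠ χ}, Helper79.irrKer ψ.1

theorem mem_gagolaSubgroup (χ : IrrCharacter G) (x : G) :
    x ∈ gagolaSubgroup χ ↔ ∀ ψ : IrrCharacter G, ψ ≠ χ → (ψ : G → ℂ) x = (ψ : G → ℂ) 1 := by
  simp only [gagolaSubgroup, Subgroup.mem_iInf, Helper79.mem_irrKer, Subtype.forall]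

instance gagolaSubgroup_normal (χ : IrrCharacter G) : (gagolaSubgroup χ).Normal :=
  Subgroup.normal_iInf_normal fun ψ => Helper79.irrKer_normal ψ.1

/-- The nonvanishing set of a Gagola character is the Gagola subgroup. -/
theorem gagola_mem_iff (hG : 2 < Nat.card G) (χ : IrrCharacter G)
    (hχ : Nat.card {C : ConjClasses G // ∃ g ∈ C.carrier, (χ : G → ℂ) g ≠ 0} = 2) (x : G) :
    (χ : G → ℂ) x ≠ 0 ↔ x ∈ gagolaSubgroup χ := by
  classical
  have := Fintype.ofFinite G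
  obtain ⟨g₀, hg₀1, hsupp, hb, hker⟩ := gagola_basic hG χ hχ
  rw [mem_gagolaSubgroup]
  constructor
  · intro hx ψ hψ
    rcases (hsupp x).1 hx with h | h
    · rw [h]
    · rw [irr_eq_of_isConj ψ h]
      exact hker ψ hψ
  · intro hx
    by_cases hx1 : x = 1
    · rw [hx1]; exact irr_one_ne_zero χ
    intro hx0
    -- second orthogonality at (x, 1) and (1, 1)
    have h1 := irr_second_orthogonality x (1 : G)
    have h2 := irr_second_orthogonality (1 : G) (1 : G)
    rw [if_neg (fun hc => hx1 (isConj_one_left.1 hc))] at h1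
    rw [if_pos (IsConj.refl _)] at h2
    have hcent : (Nat.card (Subgroup.centralizer ({1} : Set G)) : ℂ) = (Nat.card G : ℂ) := by
      congr 1
      have : Subgroup.centralizer ({1} : Set G) = ⊤ := by
        ext y; simp [Subgroup.mem_centralizer_iff]
      rw [this]
      exact Nat.card_congr Subgroup.topEquiv.toEquiv
    rw [hcent] at h2
    have hconj1 : ∀ ψ : IrrCharacter G, conj ((ψ : G → ℂ) 1) = (ψ : G → ℂ) 1 := by
      intro ψ; rw [irr_one]; simp
    have hF : ∀ ψ : IrrCharacter G, (ψ : G → ℂ) x * conj ((ψ : G → ℂ) 1) =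
        (ψ : G → ℂ) 1 * conj ((ψ : G → ℂ) 1) - if ψ = χ then (χ : G → ℂ) 1 * (χ : G → ℂ) 1 else 0 := by
      intro ψ
      by_cases hψ : ψ = χ
      · subst hψ
        rw [if_pos rfl, hx0, hconj1]; ring
      · rw [if_neg hψ, hx ψ hψ, sub_zero]
    simp only [hF] at h1
    rw [finsum_sub_distrib (Set.toFinite _) (Set.toFinite _), h2, finsum_eq_single _ χ
      (fun ψ hψ => if_neg hψ), if_pos rfl] at h1
    have hnorm := gagola_norm χ g₀ hg₀1 hsupp
    have hc : (Nat.card {x : G // IsConj g₀ x} : ℂ) * ((χ : G → ℂ) g₀ * conj ((χ : G → ℂ) g₀)) = 0 := by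
      have : (Nat.card G : ℂ) = (χ : G → ℂ) 1 * (χ : G → ℂ) 1 := sub_eq_zero.1 h1
      rw [this] at hnorm
      have := hnorm
      linear_combination -this
    have hg₀0 : (χ : G → ℂ) g₀ ≠ 0 := (hsupp g₀).2 (Or.inr (IsConj.refl _))
    have hcpos : (Nat.card {x : G // IsConj g₀ x} : ℂ) ≠ 0 := by
      have : Nonempty {x : G // IsConj g₀ x} := ⟨⟨g₀, IsConj.refl _⟩⟩
      exact_mod_cast Nat.card_pos.ne'
    rcases mul_eq_zero.1 hc with h | h
    · exact hcpos h
    · rcases mul_eq_zero.1 h with h | h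
      · exact hg₀0 h
      · exact hg₀0 ((map_eq_zero _).1 h)

/-- A Gagola character is faithful. -/
theorem gagola_faithful (hG : 2 < Nat.card G) (χ : IrrCharacter G)
    (hχ : Nat.card {C : ConjClasses G // ∃ g ∈ C.carrier, (χ : G → ℂ) g ≠ 0} = 2) :
    ∀ g : G, (χ : G → ℂ) g = (χ : G → ℂ) 1 → g = 1 := by
  obtain ⟨g₀, hg₀1, hsupp, hb, hker⟩ := gagola_basic hG χ hχ
  intro g hg
  have hne : (χ : G → ℂ) g ≠ 0 := by rw [hg]; exact irr_one_ne_zero χ
  rcases (hsupp g).1 hne with h | h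
  · exact h
  · exfalso
    rw [irr_eq_of_isConj χ h] at hg
    rw [hg] at hb
    have h1 : (χ : G → ℂ) 1 * ((Nat.card {x : G // IsConj g₀ x} : ℂ) + 1) = 0 := by
      rw [mul_add, hb]; ring
    rcases mul_eq_zero.1 h1 with h2 | h2
    · exact irr_one_ne_zero χ h2
    · have : ((Nat.card {x : G // IsConj g₀ x} + 1 : ℕ) : ℂ) = 0 := by push_cast; exact h2
      exact (Nat.cast_ne_zero.2 (Nat.succ_ne_zero _)) this

/-- The Gagola subgroup is contained in every nontrivial normal subgroup. -/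
theorem gagola_le_of_normal (hG : 2 < Nat.card G) (χ : IrrCharacter G)
    (hχ : Nat.card {C : ConjClasses G // ∃ g ∈ C.carrier, (χ : G → ℂ) g ≠ 0} = 2)
    (K : Subgroup G) (hKn : K.Normal) (hK : K ≠ ⊥) : gagolaSubgroup χ ≤ K := by
  intro x hx
  by_contra hxK
  have hx1 : (QuotientGroup.mk x : G ⧸ K) ≠ 1 := by
    intro h
    exact hxK ((QuotientGroup.eq_one_iff x).1 h)
  obtain ⟨ψ', hψ'⟩ := exists_irr_ne_of_ne_one (QuotientGroup.mk x : G ⧸ K) hx1
  have hψ : (Helper79.inflate K ψ' : G → ℂ) x ≠ (Helper79.inflate K ψ' : G → ℂ) 1 := by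
    rw [Helper79.inflate_apply, Helper79.inflate_apply]
    exact hψ'
  have heq : Helper79.inflate K ψ' = χ := by
    by_contra hne
    exact hψ ((mem_gagolaSubgroup χ x).1 hx _ hne)
  have hle : K ≤ Helper79.irrKer χ := heq ▸ Helper79.le_irrKer_inflate K ψ'
  obtain ⟨⟨k, hkK⟩, hk⟩ := (Subgroup.ne_bot_iff_exists_ne_one).1 hK
  have hk1 : k ≠ 1 := fun h => hk (Subtype.ext h)
  exact hk1 (gagola_faithful hG χ hχ k ((Helper79.mem_irrKer χ k).1 (hle hkK)))

/-- Nonidentity elements of the Gagola subgroup are all conjugate. -/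
theorem gagola_conj (hG : 2 < Nat.card G) (χ : IrrCharacter G)
    (hχ : Nat.card {C : ConjClasses G // ∃ g ∈ C.carrier, (χ : G → ℂ) g ≠ 0} = 2)
    (x y : G) (hx : x ∈ gagolaSubgroup χ) (hy : y ∈ gagolaSubgroup χ) (hx1 : x ≠ 1) (hy1 : y ≠ 1) :
    IsConj x y := by
  obtain ⟨g₀, hg₀1, hsupp, hb, hker⟩ := gagola_basic hG χ hχ
  have h1 := (hsupp x).1 ((gagola_mem_iff hG χ hχ x).2 hx)
  have h2 := (hsupp y).1 ((gagola_mem_iff hG χ hχ y).2 hy)
  rcases h1 with h1 | h1
  · exact absurd h1 hx1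
  rcases h2 with h2 | h2
  · exact absurd h2 hy1
  exact h1.symm.trans h2

theorem gagolaSubgroup_ne_bot (hG : 2 < Nat.card G) (χ : IrrCharacter G)
    (hχ : Nat.card {C : ConjClasses G // ∃ g ∈ C.carrier, (χ : G → ℂ) g ≠ 0} = 2) :
    gagolaSubgroup χ ≠ ⊥ := by
  obtain ⟨g₀, hg₀1, hsupp, hb, hker⟩ := gagola_basic hG χ hχ
  intro h
  have : g₀ ∈ gagolaSubgroup χ :=
    (gagola_mem_iff hG χ hχ g₀).1 ((hsupp g₀).2 (Or.inr (IsConj.refl _)))
  rw [h, Subgroup.mem_bot] at this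
  exact hg₀1 this

/-- The Gagola subgroup is an elementary abelian `p`-group. -/
theorem gagola_elementaryAbelian (hG : 2 < Nat.card G) (χ : IrrCharacter G)
    (hχ : Nat.card {C : ConjClasses G // ∃ g ∈ C.carrier, (χ : G → ℂ) g ≠ 0} = 2) :
    ∃ p : ℕ, p.Prime ∧ IsElementaryAbelian p (gagolaSubgroup χ) := by
  classical
  obtain ⟨g₀, hg₀1, hsupp, hb, hker⟩ := gagola_basic hG χ hχ
  set N := gagolaSubgroup χ with hN
  have hg₀N : g₀ ∈ N := (gagola_mem_iff hG χ hχ g₀).1 ((hsupp g₀).2 (Or.inr (IsConj.refl _)))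
  have ho1 : orderOf g₀ ≠ 1 := by
    intro h; exact hg₀1 (orderOf_eq_one_iff.1 h)
  have ho0 : orderOf g₀ ≠ 0 := (orderOf_pos g₀).ne'
  obtain ⟨p, hp, hpd⟩ := Nat.exists_prime_and_dvd ho1
  have hyo : orderOf (g₀ ^ (orderOf g₀ / p)) = p := orderOf_pow_orderOf_div ho0 hpd
  have hyN : g₀ ^ (orderOf g₀ / p) ∈ N := N.pow_mem hg₀N _
  have hy1 : g₀ ^ (orderOf g₀ / p) ≠ 1 := by
    intro h
    rw [h, orderOf_one] at hyo
    exact hp.one_lt.ne hyo
  have hconj := gagola_conj hG χ hχ _ _ hg₀N hyN hg₀1 hy1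
  obtain ⟨c, hc⟩ := isConj_iff.1 hconj
  have hop : orderOf g₀ = p := by
    have hsc : SemiconjBy c g₀ (g₀ ^ (orderOf g₀ / p)) := by
      rw [SemiconjBy, ← hc]; group
    rw [hsc.orderOf_eq, hyo]
  have hpow : ∀ a ∈ N, a ^ p = 1 := by
    intro a ha
    by_cases ha1 : a = 1
    · rw [ha1, one_pow]
    · obtain ⟨c, hc⟩ := isConj_iff.1 (gagola_conj hG χ hχ _ _ hg₀N ha hg₀1 ha1)
      rw [← hc, conj_pow, ← hop, pow_orderOf_eq_one]
      group
  refine ⟨p, hp, ?_, hpow⟩
  -- commutativity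
  have : Fact p.Prime := ⟨hp⟩
  have hpg : IsPGroup p N := by
    intro a
    refine ⟨1, ?_⟩
    apply Subtype.ext
    simpa using hpow a.1 a.2
  have : Nontrivial N := by
    rw [Subgroup.nontrivial_iff_ne_bot]
    exact gagolaSubgroup_ne_bot hG χ hχ
  have hcn : Nontrivial (Subgroup.center N) := hpg.center_nontrivial
  obtain ⟨⟨z, hz⟩, hz1⟩ := exists_ne (1 : Subgroup.center N)
  have hzN : (z : G) ∈ N := z.2
  have hz1' : (z : G) ≠ 1 := by
    intro h
    apply hz1
    apply Subtype.ext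
    apply Subtype.ext
    exact h
  have hcentral : ∀ y ∈ N, ∀ n ∈ N, y * n = n * y := by
    intro y hy n hn
    by_cases hy1 : y = 1
    · rw [hy1, one_mul, mul_one]
    · obtain ⟨h, hh⟩ := isConj_iff.1 (gagola_conj hG χ hχ _ _ hzN hy hz1' hy1)
      have hn' : h⁻¹ * n * h ∈ N := by
        have := (gagolaSubgroup_normal χ).conj_mem n hn h⁻¹
        simpa using this
      have hcomm : (z : G) * (h⁻¹ * n * h) = (h⁻¹ * n * h) * (z : G) := by
        have := Subgroup.mem_center_iff.1 hz ⟨h⁻¹ * n * h, hn'⟩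
        have := congrArg Subtype.val this
        simpa using this.symm
      rw [← hh]
      calc h * ↑z * h⁻¹ * n = h * (↑z * (h⁻¹ * n * h)) * h⁻¹ := by group
        _ = h * ((h⁻¹ * n * h) * ↑z) * h⁻¹ := by rw [hcomm]
        _ = n * (h * ↑z * h⁻¹) := by group
  exact ⟨⟨fun a b => Subtype.ext (hcentral a.1 a.2 b.1 b.2)⟩⟩

end Gagola2

end Cfsg.Agent.Helper80
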