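import Mathlib
import Cfsg.Prelude.Def_Blocks
import Cfsg.Agent.Lib.Helper80.CharBasic
import Cfsg.Agent.Lib.Helper3.CharDecomp

set_option autoImplicit false

namespace Cfsg.Agent.Helper80

open scoped ComplexConjugate
open Cfsg

universe u

section Brauer

variable {K : Type u} [Group K]

open Classical in
/-- Summing `1/|cl(x)|` over the elements of a union of classes counts the classes. -/
theorem sum_inv_card_class [Fintype K] (P : ConjClasses K → Prop) :
    ∑ x : K, (if P (ConjClasses.mk x) then ((Nat.card {y : K // IsConj x y} : ℂ))⁻¹ else 0) =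
      (Nat.card {C : ConjClasses K // P C} : ℂ) := by
  rw [← Finset.sum_fiberwise Finset.univ (ConjClasses.mk (α := K))]
  have : ∀ C : ConjClasses K, ∑ g ∈ Finset.univ with ConjClasses.mk g = C,
      (if P (ConjClasses.mk g) then ((Nat.card {y : K // IsConj g y} : ℂ))⁻¹ else 0) =
      if P C then 1 else 0 := by
    intro C
    obtain ⟨g₀, rfl⟩ := ConjClasses.mk_surjective C
    have hcongr : ∀ g ∈ Finset.univ.filter (fun g => ConjClasses.mk g = ConjClasses.mk g₀),
        (if P (ConjClasses.mk g) then ((Nat.card {y : K // IsConj g y} : ℂ))⁻¹ else 0) =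
        if P (ConjClasses.mk g₀) then
          ((Finset.univ.filter (fun g => ConjClasses.mk g = ConjClasses.mk g₀)).card : ℂ)⁻¹
        else 0 := by
      intro g hg
      rw [Finset.mem_filter] at hg
      rw [hg.2]
      split_ifs
      · congr 2
        rw [Nat.card_eq_fintype_card, Fintype.card_subtype]
        congr 1
        ext x
        simp only [Finset.mem_filter, Finset.mem_univ, true_and]
        rw [← hg.2, ConjClasses.mk_eq_mk_iff_isConj]
        exact ⟨fun h => h.symm, fun h => h.symm⟩
      · rfl
    rw [Finset.sum_congr rfl hcongr, Finset.sum_const, nsmul_eq_mul]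
    split_ifs
    · apply mul_inv_cancel₀
      have : g₀ ∈ Finset.univ.filter (fun g => ConjClasses.mk g = ConjClasses.mk g₀) := by simp
      exact_mod_cast (Finset.card_pos.2 ⟨g₀, this⟩).ne'
    · rw [mul_zero]
  simp only [this]
  rw [Finset.sum_boole, Nat.card_eq_fintype_card, Fintype.card_subtype]

variable [Finite K]

open Classical in
/-- Brauer's permutation lemma in counting form: the number of irreducible characters fixed by
composition with `t` is a weighted count of the elements `x` with `t x` conjugate to `x`. -/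
theorem brauer_count [Fintype K] (t : K → K)
    (hirr : ∀ χ : IrrCharacter K, IsIrrCharacter K ((χ : K → ℂ) ∘ t)) :
    (Nat.card {χ : IrrCharacter K // (χ : K → ℂ) ∘ t = χ} : ℂ) =
      (Nat.card K : ℂ)⁻¹ * ∑ x : K,
        (if IsConj (t x) x then (Nat.card (Subgroup.centralizer ({t x} : Set K)) : ℂ) else 0) := by
  have := Fintype.ofFinite (IrrCharacter K)
  have h1 : (Nat.card {χ : IrrCharacter K // (χ : K → ℂ) ∘ t = χ} : ℂ) =
      ∑ χ : IrrCharacter K, classInner ((χ : K → ℂ) ∘ t) (χ : K → ℂ) := by
    rw [Nat.card_eq_fintype_card, Fintype.card_subtype, Finset.card_filter]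
    push_cast
    refine Finset.sum_congr rfl fun χ _ => ?_
    have := classInner_irr (⟨(χ : K → ℂ) ∘ t, hirr χ⟩ : IrrCharacter K) χ
    rw [this]
    have hiff : ((⟨(χ : K → ℂ) ∘ t, hirr χ⟩ : IrrCharacter K) = χ) ↔ ((χ : K → ℂ) ∘ t = χ) :=
      Subtype.ext_iff
    simp only [hiff]
  rw [h1]
  simp only [classInner, ← Finset.mul_sum]
  congr 1
  rw [Finset.sum_comm]
  refine Finset.sum_congr rfl fun x _ => ?_
  have h2 := irr_second_orthogonality (t x) x
  rw [finsum_eq_sum_of_fintype] at h2
  simp only [Function.comp_apply]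
  convert h2

end Brauer

end Cfsg.Agent.Helper80
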