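import Mathlib
import Cfsg.Prelude.Def_Blocks
import Cfsg.Agent.Lib.Helper80.FrobSchur

set_option autoImplicit false

namespace Cfsg.Agent.Helper80

open scoped ComplexConjugate
open Cfsg Matrix

universe u

section FS2

variable {G : Type u} [Group G]

/-- Schur's lemma in matrix form: a matrix commuting with an irreducible matrix representation is
scalar. -/
theorem schur_matrix {n : ℕ} (ρ : Representation ℂ G (Fin n → ℂ)) (hρ : ρ.IsIrreducible)
    (C : Matrix (Fin n) (Fin n) ℂ)
    (hC : ∀ g, C * LinearMap.toMatrix' (ρ g) = LinearMap.toMatrix' (ρ g) * C) :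
    ∃ c : ℂ, C = c • (1 : Matrix (Fin n) (Fin n) ℂ) := by
  have hint : ∀ g, Matrix.toLin' C ∘ₗ ρ g = ρ g ∘ₗ Matrix.toLin' C := by
    intro g
    have h1 : ρ g = Matrix.toLin' (LinearMap.toMatrix' (ρ g)) := by simp
    rw [h1, ← Matrix.toLin'_mul, ← Matrix.toLin'_mul, hC]
  let f : Representation.IntertwiningMap ρ ρ := ⟨Matrix.toLin' C, hint⟩
  obtain ⟨c, hc⟩ :=
    (Representation.IsIrreducible.algebraMap_intertwiningMap_bijective_of_isAlgClosed
      (ρ := ρ)).2 f
  refine ⟨c, ?_⟩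
  have h2 : Matrix.toLin' C = c • LinearMap.id := by
    have := congrArg Representation.IntertwiningMap.toLinearMap hc
    exact this.symm
  have h3 := congrArg LinearMap.toMatrix' h2
  simpa using h3

/-- The Frobenius–Schur theorem for an irreducible representation with real character:
`∑ χ(u²) = ε |G|` with `ε = ±1`, and `ε = -1` forces even degree. -/
theorem frobenius_schur_real [Fintype G] {n : ℕ} (ρ : Representation ℂ G (Fin n → ℂ))
    (hρ : ρ.IsIrreducible) (hreal : ∀ g : G, ρ.character g⁻¹ = ρ.character g) :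
    ∃ ε : ℂ, (ε = 1 ∨ ε = -1) ∧ ∑ u : G, ρ.character (u * u) = ε * (Nat.card G : ℂ) ∧
      (ε = -1 → Even n) := by
  classical
  have hne : (Nat.card G : ℂ) ≠ 0 := by exact_mod_cast Nat.card_pos.ne'
  let M : G → Matrix (Fin n) (Fin n) ℂ := fun x => LinearMap.toMatrix' (ρ x)
  have hM1 : M 1 = 1 := by simp [M]
  have hMmul : ∀ x y, M (x * y) = M x * M y := by
    intro x y
    simp only [M, map_mul]
    exact LinearMap.toMatrix'_mul _ _
  have htr : ∀ x, ρ.character x = (M x).trace := by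
    intro x
    simp only [Representation.character, M]
    rw [← Matrix.trace_toLin'_eq, Matrix.toLin'_toMatrix']
  have hρM : ∀ x, ρ x = Matrix.toLin' (M x) := by
    intro x
    simp [M]
  let T : Matrix (Fin n) (Fin n) ℂ → Matrix (Fin n) (Fin n) ℂ :=
    fun X => ∑ u : G, M u * X * (M u)ᵀ
  have hT : ∀ g X, M g * T X * (M g)ᵀ = T X := by
    intro g X
    simp only [T, Finset.mul_sum, Finset.sum_mul]
    refine Fintype.sum_equiv (Equiv.mulLeft g) _ _ fun u => ?_
    simp only [Equiv.coe_mulLeft, hMmul, Matrix.transpose_mul]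
    simp only [Matrix.mul_assoc]
  -- invariant forms
  have hinv2 : ∀ B : Matrix (Fin n) (Fin n) ℂ, (∀ g, M g * B * (M g)ᵀ = B) →
      ∀ g, M g * B = B * (M g⁻¹)ᵀ := by
    intro B hB g
    have h1 : (M g)ᵀ * (M g⁻¹)ᵀ = 1 := by
      rw [← Matrix.transpose_mul, ← hMmul, inv_mul_cancel, hM1, Matrix.transpose_one]
    calc M g * B = M g * B * ((M g)ᵀ * (M g⁻¹)ᵀ) := by rw [h1, mul_one]
      _ = (M g * B * (M g)ᵀ) * (M g⁻¹)ᵀ := by simp only [Matrix.mul_assoc]
      _ = B * (M g⁻¹)ᵀ := by rw [hB]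
  have hunit : ∀ B : Matrix (Fin n) (Fin n) ℂ, (∀ g, M g * B * (M g)ᵀ = B) → B ≠ 0 →
      IsUnit B.det := by
    intro B hB hB0
    let σ : Subrepresentation ρ :=
      { toSubmodule := LinearMap.range (Matrix.toLin' B)
        apply_mem_toSubmodule := by
          rintro g _ ⟨w, rfl⟩
          refine ⟨Matrix.toLin' ((M g⁻¹)ᵀ) w, ?_⟩
          rw [hρM g, ← LinearMap.comp_apply, ← LinearMap.comp_apply, ← Matrix.toLin'_mul,
            ← Matrix.toLin'_mul, hinv2 B hB] }
    rcases hρ.eq_bot_or_eq_top σ with hb | ht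
    · exfalso
      apply hB0
      have h1 : LinearMap.range (Matrix.toLin' B) = ⊥ := congrArg Subrepresentation.toSubmodule hb
      rw [LinearMap.range_eq_bot] at h1
      have := congrArg LinearMap.toMatrix' h1
      simpa using this
    · have h1 : LinearMap.range (Matrix.toLin' B) = ⊤ := congrArg Subrepresentation.toSubmodule ht
      have hsurj : Function.Surjective (Matrix.toLin' B) := LinearMap.range_eq_top.1 h1
      have hinj : Function.Injective (Matrix.toLin' B) :=
        LinearMap.injective_iff_surjective.2 hsurj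
      have hu : IsUnit B := by
        rw [← Matrix.mulVec_injective_iff_isUnit]
        exact hinj
      exact (Matrix.isUnit_iff_isUnit_det _).1 hu
  -- uniqueness of invariant forms up to scalars
  have huniq : ∀ B B' : Matrix (Fin n) (Fin n) ℂ, (∀ g, M g * B * (M g)ᵀ = B) → B ≠ 0 →
      (∀ g, M g * B' * (M g)ᵀ = B') → ∃ c : ℂ, B' = c • B := by
    intro B B' hB hB0 hB'
    have hdet := hunit B hB hB0
    have hcomm : ∀ g, (B' * B⁻¹) * M g = M g * (B' * B⁻¹) := by
      intro g
      have e1 : B⁻¹ * M g = (M g⁻¹)ᵀ * B⁻¹ := by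
        have := hinv2 B hB g
        calc B⁻¹ * M g = B⁻¹ * (M g * B) * B⁻¹ := by
              rw [Matrix.mul_assoc, Matrix.mul_assoc, Matrix.mul_nonsing_inv _ hdet, mul_one]
          _ = B⁻¹ * (B * (M g⁻¹)ᵀ) * B⁻¹ := by rw [this]
          _ = (M g⁻¹)ᵀ * B⁻¹ := by
              rw [← Matrix.mul_assoc B⁻¹ B, Matrix.nonsing_inv_mul _ hdet, one_mul]
      calc B' * B⁻¹ * M g = B' * (B⁻¹ * M g) := by rw [Matrix.mul_assoc]
        _ = B' * ((M g⁻¹)ᵀ * B⁻¹) := by rw [e1]
        _ = (B' * (M g⁻¹)ᵀ) * B⁻¹ := by rw [Matrix.mul_assoc]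
        _ = (M g * B') * B⁻¹ := by rw [hinv2 B' hB' g]
        _ = M g * (B' * B⁻¹) := by rw [Matrix.mul_assoc]
    obtain ⟨c, hc⟩ := schur_matrix ρ hρ (B' * B⁻¹) hcomm
    refine ⟨c, ?_⟩
    calc B' = B' * B⁻¹ * B := by
          rw [Matrix.mul_assoc, Matrix.nonsing_inv_mul _ hdet, mul_one]
      _ = c • B := by rw [hc, Matrix.smul_mul, one_mul]
  -- entry formula
  have haux : ∀ (A : Matrix (Fin n) (Fin n) ℂ) (i j k l : Fin n),
      (A * Matrix.single k l (1 : ℂ) * Aᵀ : Matrix (Fin n) (Fin n) ℂ) i j = A i k * A j l := by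
    intro A i j k l
    rw [Matrix.mul_apply]
    have : ∀ m, (A * Matrix.single k l (1 : ℂ)) i m = if m = l then A i k else 0 := by
      intro m
      by_cases hm : m = l
      · subst hm
        simp [Matrix.mul_apply, Matrix.single_apply]
      · have hm' : ¬ l = m := fun h => hm h.symm
        simp [Matrix.mul_apply, hm, hm']
    simp only [this, Matrix.transpose_apply, ite_mul, zero_mul, Finset.sum_ite_eq',
      Finset.mem_univ, if_true]
  have hswap : ∀ f : Fin n → Fin n → G → ℂ,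
      ∑ i, ∑ j, ∑ u, f i j u = ∑ u, ∑ i, ∑ j, f i j u := by
    intro f
    calc ∑ i, ∑ j, ∑ u, f i j u = ∑ i, ∑ u, ∑ j, f i j u :=
          Finset.sum_congr rfl (fun i _ => Finset.sum_comm)
      _ = ∑ u, ∑ i, ∑ j, f i j u := Finset.sum_comm
  have hS1 : ∑ u : G, ρ.character u * ρ.character u =
      ∑ i, ∑ j, (T (Matrix.single i j (1 : ℂ))) i j := by
    simp only [T, Matrix.sum_apply, haux]
    rw [hswap (fun i j u => M u i i * M u j j)]
    refine Finset.sum_congr rfl fun u _ => ?_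
    rw [htr, Matrix.trace, Finset.sum_mul]
    refine Finset.sum_congr rfl fun i _ => ?_
    rw [Finset.mul_sum]
    rfl
  have hS2 : ∑ u : G, ρ.character (u * u) =
      ∑ i, ∑ j, (T (Matrix.single j i (1 : ℂ))) i j := by
    simp only [T, Matrix.sum_apply, haux]
    rw [hswap (fun i j u => M u i j * M u j i)]
    refine Finset.sum_congr rfl fun u _ => ?_
    rw [htr, hMmul, Matrix.trace]
    simp only [Matrix.diag_apply, Matrix.mul_apply]
  have hnorm : ∑ u : G, ρ.character u * ρ.character u = (Nat.card G : ℂ) := by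
    let _ : Invertible (Nat.card G : ℂ) := invertibleOfNonzero hne
    have h := Representation.char_orthonormal ρ ρ
    rw [if_pos ⟨Representation.Equiv.refl _⟩] at h
    simp only [hreal] at h
    exact ((inv_mul_eq_one₀ hne).1 h).symm
  -- a nonzero invariant form
  obtain ⟨i₀, j₀, hB0⟩ : ∃ i₀ j₀, T (Matrix.single i₀ j₀ (1 : ℂ)) ≠ 0 := by
    by_contra hcon
    push Not at hcon
    rw [hS1] at hnorm
    simp only [hcon, Matrix.zero_apply, Finset.sum_const_zero] at hnorm
    exact hne hnorm.symm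
  set B := T (Matrix.single i₀ j₀ (1 : ℂ)) with hBdef
  have hB : ∀ g, M g * B * (M g)ᵀ = B := fun g => hT g _
  have hdet := hunit B hB hB0
  have hBt : ∀ g, M g * Bᵀ * (M g)ᵀ = Bᵀ := by
    intro g
    have := congrArg Matrix.transpose (hB g)
    rw [Matrix.transpose_mul, Matrix.transpose_mul, Matrix.transpose_transpose,
      ← Matrix.mul_assoc] at this
    exact this
  obtain ⟨ε, hε⟩ := huniq B Bᵀ hB hB0 hBt
  have hε2 : ε * ε = 1 := by
    have h1 : B = (ε * ε) • B := by
      calc B = Bᵀᵀ := (Matrix.transpose_transpose B).symm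
        _ = (ε • B)ᵀ := by rw [hε]
        _ = ε • Bᵀ := Matrix.transpose_smul _ _
        _ = ε • (ε • B) := by rw [hε]
        _ = (ε * ε) • B := by rw [smul_smul]
    by_contra hne1
    apply hB0
    have h2 : (ε * ε - 1) • B = 0 := by
      rw [sub_smul, one_smul, ← h1, sub_self]
    rcases smul_eq_zero.1 h2 with h3 | h3
    · exact absurd (sub_eq_zero.1 h3) hne1
    · exact h3
  have hε1 : ε = 1 ∨ ε = -1 := by
    have : (ε - 1) * (ε + 1) = 0 := by ring_nf; rw [sq, hε2]; ring
    rcases mul_eq_zero.1 this with h | h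
    · left; exact sub_eq_zero.1 h
    · right; exact eq_neg_of_add_eq_zero_left h
  have hTt : ∀ X, T Xᵀ = ε • T X := by
    intro X
    obtain ⟨c, hc⟩ := huniq B (T X) hB hB0 (fun g => hT g X)
    have h1 : T Xᵀ = (T X)ᵀ := by
      simp only [T, Matrix.transpose_sum, Matrix.transpose_mul, Matrix.transpose_transpose,
        Matrix.mul_assoc]
    rw [h1, hc, Matrix.transpose_smul, hε, smul_smul, smul_smul, mul_comm]
  refine ⟨ε, hε1, ?_, ?_⟩
  · rw [hS2, ← hnorm, hS1, Finset.mul_sum]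
    refine Finset.sum_congr rfl fun i _ => ?_
    rw [Finset.mul_sum]
    refine Finset.sum_congr rfl fun j _ => ?_
    have := hTt (Matrix.single i j (1 : ℂ))
    rw [Matrix.transpose_single] at this
    rw [this, Matrix.smul_apply, smul_eq_mul]
  · intro hεm
    rw [hεm] at hε
    have h1 : B.det = (-1 : ℂ) ^ n * B.det := by
      have := congrArg Matrix.det hε
      rw [Matrix.det_transpose, Matrix.det_smul, Fintype.card_fin] at this
      exact this
    have h2 : ((-1 : ℂ) ^ n - 1) * B.det = 0 := by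
      rw [sub_mul, one_mul, ← h1, sub_self]
    rcases mul_eq_zero.1 h2 with h3 | h3
    · have h4 : (-1 : ℂ) ^ n = 1 := sub_eq_zero.1 h3
      by_contra hodd
      rw [Nat.not_even_iff_odd] at hodd
      rw [hodd.neg_one_pow] at h4
      norm_num at h4
    · exact absurd h3 hdet.ne_zero

/-- Frobenius–Schur for irreducible characters given as functions. -/
theorem isIrr_fs [Fintype G] {χ : G → ℂ} (hχ : IsIrrCharacter G χ) :
    ((Nat.card G : ℂ)⁻¹ * ∑ s : G, χ (s * s) = 0 ∨ (Nat.card G : ℂ)⁻¹ * ∑ s : G, χ (s * s) = 1 ∨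
      (Nat.card G : ℂ)⁻¹ * ∑ s : G, χ (s * s) = -1) ∧
    ((Nat.card G : ℂ)⁻¹ * ∑ s : G, χ (s * s) = 0 ↔ ∃ s : G, (χ s).im ≠ 0) ∧
    ((Nat.card G : ℂ)⁻¹ * ∑ s : G, χ (s * s) = -1 → Even (charDegree χ)) := by
  classical
  have : Finite G := Finite.of_fintype G
  have hne : (Nat.card G : ℂ) ≠ 0 := by exact_mod_cast Nat.card_pos.ne'
  obtain ⟨n, ρ, hρ, rfl⟩ := hχ
  by_cases hreal : ∀ g : G, (ρ.character g).im = 0
  · have hreal' : ∀ g : G, ρ.character g⁻¹ = ρ.character g := by
      intro g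
      rw [character_inv_eq_conj ρ g]
      exact Complex.conj_eq_iff_im.2 (hreal g)
    obtain ⟨ε, hε, hsum, heven⟩ := frobenius_schur_real ρ hρ hreal'
    have hν : (Nat.card G : ℂ)⁻¹ * ∑ s : G, ρ.character (s * s) = ε := by
      rw [hsum]; field_simp
    rw [hν]
    have hε0 : ε ≠ 0 := by
      rcases hε with h | h <;> rw [h] <;> norm_num
    refine ⟨Or.inr hε, ⟨fun h => absurd h hε0, fun ⟨s, hs⟩ => absurd (hreal s) hs⟩, ?_⟩
    intro h
    have := heven h
    simpa [charDegree] using this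
  · have hnr : ¬ ∀ g : G, ρ.character g⁻¹ = ρ.character g := by
      intro hall
      apply hreal
      intro g
      have h1 := hall g
      rw [character_inv_eq_conj ρ g] at h1
      exact Complex.conj_eq_iff_im.1 h1
    have hz := sum_char_sq_eq_zero_of_not_real ρ hρ hnr
    rw [hz, mul_zero]
    push Not at hreal
    refine ⟨Or.inl rfl, ⟨fun _ => hreal, fun _ => rfl⟩, ?_⟩
    intro h
    norm_num at h

/-- Frobenius–Schur for `IrrCharacter`: the indicator is `0`, `1` or `-1`; it vanishes exactly for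
non-real characters; and indicator `-1` forces even degree. -/
theorem irr_fs [Fintype G] (χ : IrrCharacter G) :
    ((Nat.card G : ℂ)⁻¹ * ∑ s : G, (χ : G → ℂ) (s * s) = 0 ∨
      (Nat.card G : ℂ)⁻¹ * ∑ s : G, (χ : G → ℂ) (s * s) = 1 ∨
      (Nat.card G : ℂ)⁻¹ * ∑ s : G, (χ : G → ℂ) (s * s) = -1) ∧
    ((Nat.card G : ℂ)⁻¹ * ∑ s : G, (χ : G → ℂ) (s * s) = 0 ↔ ∃ s : G, ((χ : G → ℂ) s).im ≠ 0) ∧
    ((Nat.card G : ℂ)⁻¹ * ∑ s : G, (χ : G → ℂ) (s * s) = -1 → Even (charDegree (χ : G → ℂ))) :=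
  isIrr_fs χ.2

/-- A real-valued irreducible character of odd degree has Frobenius–Schur indicator `1`. -/
theorem isIrr_fs_of_odd [Fintype G] {χ : G → ℂ} (hχ : IsIrrCharacter G χ)
    (hreal : ∀ g : G, (χ g).im = 0) (hodd : Odd (charDegree χ)) :
    (Nat.card G : ℂ)⁻¹ * ∑ s : G, χ (s * s) = 1 := by
  obtain ⟨h1, h2, h3⟩ := isIrr_fs hχ
  rcases h1 with h | h | h
  · obtain ⟨s, hs⟩ := h2.1 h
    exact absurd (hreal s) hs
  · exact h
  · exact absurd (h3 h) (Nat.not_even_iff_odd.2 hodd)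

end FS2

end Cfsg.Agent.Helper80
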