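import Mathlib
import Cfsg.Agent.Lib.Helper80.FrobSchur2
import Cfsg.Agent.Lib.Helper3.CharDecomp

/-!
# Complex conjugation on irreducible characters (helper80)

* `cconjIrr χ` : the complex conjugate of an irreducible character, as an `IrrCharacter`.
* `cconjIrr_eq_self_iff` : fixed exactly when real-valued.
* `irr_not_real_of_odd` : in a group of odd order a real-valued irreducible character is trivial.
-/

set_option autoImplicit false

namespace Cfsg.Agent.Helper80

open Cfsg
open scoped ComplexConjugate

universe u

variable {G : Type u} [Group G]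

theorem isIrrCharacter_cconj [Finite G] {χ : G → ℂ} (hχ : IsIrrCharacter G χ) :
    IsIrrCharacter G (fun g => conj (χ g)) := by
  classical
  have := Fintype.ofFinite G
  have hc := Cfsg.Agent.Helper3.isCharacter_conj (isCharacter_of_irr hχ)
  apply Cfsg.Agent.Helper3.isIrrCharacter_of_classInner_self_eq_one hc
  have h1 := irr_first_orthogonality (⟨χ, hχ⟩ : IrrCharacter G) ⟨χ, hχ⟩
  simp only [if_true] at h1
  have hne : (Nat.card G : ℂ) ≠ 0 := by exact_mod_cast Nat.card_pos.ne'
  unfold classInner
  have h2 : ∑ g : G, conj (χ g) * conj (conj (χ g)) = ∑ g : G, χ g * conj (χ g) := by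
    apply Finset.sum_congr rfl
    intro g _
    rw [Complex.conj_conj, mul_comm]
  rw [h2, h1]
  field_simp

/-- Complex conjugate of an irreducible character. -/
noncomputable def cconjIrr [Finite G] (χ : IrrCharacter G) : IrrCharacter G :=
  ⟨fun g => conj ((χ : G → ℂ) g), isIrrCharacter_cconj χ.2⟩

@[simp] theorem cconjIrr_apply [Finite G] (χ : IrrCharacter G) (g : G) :
    (cconjIrr χ : G → ℂ) g = conj ((χ : G → ℂ) g) := rfl

@[simp] theorem cconjIrr_cconjIrr [Finite G] (χ : IrrCharacter G) : cconjIrr (cconjIrr χ) = χ := by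
  apply Subtype.ext
  funext g
  simp

theorem cconjIrr_eq_self_iff [Finite G] (χ : IrrCharacter G) :
    cconjIrr χ = χ ↔ ∀ g : G, ((χ : G → ℂ) g).im = 0 := by
  constructor
  · intro h g
    have := congrArg (fun ψ : IrrCharacter G => (ψ : G → ℂ) g) h
    simp only [cconjIrr_apply] at this
    exact Complex.conj_eq_iff_im.1 this
  · intro h
    apply Subtype.ext
    funext g
    exact Complex.conj_eq_iff_im.2 (h g)

theorem charDegree_cconjIrr [Finite G] (χ : IrrCharacter G) :
    charDegree (cconjIrr χ : G → ℂ) = charDegree (χ : G → ℂ) := by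
  unfold charDegree
  simp

/-- In a group of odd order, a real-valued irreducible character is trivial. -/
theorem irr_trivial_of_real_of_odd [Finite G] (hodd : Odd (Nat.card G)) (χ : IrrCharacter G)
    (hreal : ∀ g : G, ((χ : G → ℂ) g).im = 0) : χ = trivialIrr G := by
  classical
  have := Fintype.ofFinite G
  by_contra hne
  -- squaring is a bijection
  have hbij : Function.Bijective (fun s : G => s * s) := by
    have hcop : (Nat.card G).Coprime 2 := hodd.coprime_two_right
    have := (powCoprime hcop).bijective
    convert this using 2 with s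
    simp [powCoprime, pow_two]
  have h1 : ∑ s : G, (χ : G → ℂ) (s * s) = ∑ s : G, (χ : G → ℂ) s :=
    Fintype.sum_bijective _ hbij _ _ (fun _ => rfl)
  have h2 := irr_first_orthogonality χ (trivialIrr G)
  rw [if_neg hne] at h2
  simp only [trivialIrr_apply, map_one, mul_one] at h2
  have h3 : (Nat.card G : ℂ)⁻¹ * ∑ s : G, (χ : G → ℂ) (s * s) = 0 := by
    rw [h1, h2, mul_zero]
  obtain ⟨s, hs⟩ := (irr_fs χ).2.1.1 h3
  exact hs (hreal s)

end Cfsg.Agent.Helper80
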