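import Mathlib
import Cfsg.Prelude.Def_Blocks
import Cfsg.Prelude.Def_Transfer
import Cfsg.Agent.Lib.Helper80.Gagola2
import Cfsg.Agent.Lib.Helper79.Linear
import Cfsg.Agent.Lib.Helper81.CharClifford
import Cfsg.Agent.Lib.Helper3.CharDecomp

/-!
# Gagola characters, part 3 (helper80): centralizers and inertia groups are Sylow

For an irreducible character `χ` of `G` vanishing off exactly two classes, with nonvanishing set
the normal `p`-subgroup `N`:
* `gagola_setup` : numerical data (`|G| = c β² |N|`, `c = |N| - 1`, `β = χ(x)` for `x ∈ N \ 1`);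
* `gagola_dvd` : for a `p'`-subgroup `Q` of `C_G(x)`, `|Q|` divides `β`;
* `gagola_card_centralizer` : `|C_G(x)| = |G|_p`;
* `gagola_card_stabilizer` : the inertia group of a nontrivial `μ ∈ Irr(N)` has order `|G|_p`.
-/

set_option autoImplicit false

namespace Cfsg.Agent.Helper80

open scoped ComplexConjugate
open Cfsg

universe u

section Setup

variable {G : Type u} [Group G] [Finite G]

theorem gagola_setup (hG : 2 < Nat.card G) (χ : IrrCharacter G)
    (hχ : Nat.card {C : ConjClasses G // ∃ g ∈ C.carrier, (χ : G → ℂ) g ≠ 0} = 2)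
    (N : Subgroup G) (hN : ∀ g : G, g ∈ N ↔ (χ : G → ℂ) g ≠ 0) :
    ∃ (β : ℂ) (c : ℕ), 0 < c ∧ c + 1 = Nat.card N ∧ β * c = - (χ : G → ℂ) 1 ∧
      (∀ x ∈ N, x ≠ 1 → (χ : G → ℂ) x = β) ∧
      (Nat.card G : ℂ) = c * β ^ 2 * Nat.card N ∧
      (∀ x ∈ N, x ≠ 1 → Nat.card (Subgroup.centralizer ({x} : Set G)) * c = Nat.card G) := by
  classical
  have := Fintype.ofFinite G
  obtain ⟨g₀, hg₀1, hsupp, hb, hker⟩ := gagola_basic hG χ hχ
  set c := Nat.card {x : G // IsConj g₀ x} with hc
  set β := (χ : G → ℂ) g₀ with hβ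
  have hcpos : 0 < c := by
    have : Nonempty {x : G // IsConj g₀ x} := ⟨⟨g₀, IsConj.refl g₀⟩⟩
    exact Nat.card_pos
  have hcard : c + 1 = Nat.card N := by
    have h1 : Nat.card N = (Finset.univ.filter (fun x : G => x ∈ N)).card := by
      rw [Nat.card_eq_fintype_card, Fintype.card_subtype]
    have h2 : c = (Finset.univ.filter (fun x : G => IsConj g₀ x)).card := by
      rw [hc, Nat.card_eq_fintype_card, Fintype.card_subtype]
    have h3 : Finset.univ.filter (fun x : G => x ∈ N) =
        insert (1 : G) (Finset.univ.filter (fun x : G => IsConj g₀ x)) := by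
      ext x
      simp only [Finset.mem_filter, Finset.mem_univ, true_and, Finset.mem_insert]
      rw [hN x, hsupp x]
    have h4 : (1 : G) ∉ Finset.univ.filter (fun x : G => IsConj g₀ x) := by
      simp only [Finset.mem_filter, Finset.mem_univ, true_and]
      intro h
      exact hg₀1 (isConj_one_left.1 h)
    rw [h1, h3, Finset.card_insert_of_notMem h4, ← h2]
  have hval : ∀ x ∈ N, x ≠ 1 → (χ : G → ℂ) x = β := by
    intro x hx hx1
    rcases (hsupp x).1 ((hN x).1 hx) with h | h
    · exact absurd h hx1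
    · exact irr_eq_of_isConj χ h
  have hcne : (c : ℂ) ≠ 0 := by exact_mod_cast hcpos.ne'
  have hβeq : β = - (charDegree (χ : G → ℂ) : ℂ) / c := by
    rw [eq_div_iff hcne, hb, irr_one]
  have hconj : conj β = β := by
    rw [hβeq]
    simp
  have hnorm := gagola_norm χ g₀ hg₀1 hsupp
  rw [← hβ, hconj, ← hc] at hnorm
  refine ⟨β, c, hcpos, hcard, hb, hval, ?_, ?_⟩
  · rw [hnorm, ← hcard]
    have h1 : (χ : G → ℂ) 1 = - (β * c) := by rw [hb]; ring
    rw [h1]
    push_cast
    ring
  · intro x hx hx1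
    have hconjx : IsConj g₀ x := by
      rcases (hsupp x).1 ((hN x).1 hx) with h | h
      · exact absurd h hx1
      · exact h
    have h1 := card_isConj_mul_card_centralizer x
    have h2 : Nat.card {y : G // IsConj x y} = c := by
      rw [hc]
      apply Nat.card_congr
      refine Equiv.subtypeEquivRight fun y => ?_
      exact ⟨fun h => hconjx.trans h, fun h => hconjx.symm.trans h⟩
    rw [h2] at h1
    rw [mul_comm]
    exact h1

end Setup

section Dvd

variable {G : Type u} [Group G]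

/-- Pulling a character back along a homomorphism gives a character. -/
theorem isCharacter_comp_hom {A : Type u} [Group A] (f : A →* G) {χ : G → ℂ}
    (hχ : IsCharacter G χ) : IsCharacter A (fun a => χ (f a)) := by
  obtain ⟨n, ρ, rfl⟩ := hχ
  exact ⟨n, ρ.comp f, rfl⟩

/-- The inner product of the pull-back of `χ` to `⟨x⟩ × Q` with a linear character trivial on `Q`. -/
theorem gagola_inner (χ : IrrCharacter G) (N : Subgroup G) (p : ℕ)
    (hNp : IsPGroup p N) (hN : ∀ g : G, g ∈ N ↔ (χ : G → ℂ) g ≠ 0)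
    (β : ℂ) (hβ : ∀ x ∈ N, x ≠ 1 → (χ : G → ℂ) x = β)
    (x : G) (hxN : x ∈ N) (Q : Subgroup G)
    (hQp : (Nat.card Q).Coprime p)
    (f : ↥(Subgroup.zpowers x) × ↥Q →* G) (hf : ∀ a, f a = (a.1 : G) * (a.2 : G))
    [Fintype ↥(Subgroup.zpowers x)] [Fintype ↥Q]
    (l : ↥(Subgroup.zpowers x) →* ℂˣ) :
    classInner (fun a => (χ : G → ℂ) (f a))
      (Helper79.linChar (l.comp (MonoidHom.fst ↥(Subgroup.zpowers x) ↥Q)) :
        ↥(Subgroup.zpowers x) × ↥Q → ℂ) =
      ((Nat.card ↥(Subgroup.zpowers x) : ℂ) * (Nat.card ↥Q : ℂ))⁻¹ *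
        (((χ : G → ℂ) 1 - β) + β * conj (∑ z : ↥(Subgroup.zpowers x), ((l z : ℂˣ) : ℂ))) := by
  classical
  have hZN : Subgroup.zpowers x ≤ N := by
    rw [Subgroup.zpowers_le]; exact hxN
  -- vanishing off `Q = 1`
  have hvan : ∀ a : ↥(Subgroup.zpowers x) × ↥Q, a.2 ≠ 1 → (χ : G → ℂ) (f a) = 0 := by
    intro a ha
    by_contra hne
    have h1 : f a ∈ N := (hN _).2 hne
    rw [hf] at h1
    have h2 : (a.2 : G) ∈ N := by
      have := N.mul_mem (N.inv_mem (hZN a.1.2)) h1
      simpa using this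
    obtain ⟨k, hk⟩ := hNp ⟨(a.2 : G), h2⟩
    have hk' : (a.2 : G) ^ p ^ k = 1 := by
      have := congrArg (Subtype.val) hk
      simpa using this
    have hq : (a.2 : G) ^ Nat.card ↥Q = 1 := by
      have h0 : a.2 ^ Nat.card ↥Q = 1 := pow_card_eq_one'
      have h00 := congrArg (Subtype.val) h0
      rwa [Subgroup.coe_pow, Subgroup.coe_one] at h00
    have hg := pow_gcd_eq_one.2 ⟨hk', hq⟩
    have hcop : Nat.gcd (p ^ k) (Nat.card ↥Q) = 1 :=
      Nat.Coprime.pow_left k hQp.symm
    rw [hcop, pow_one] at hg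
    exact ha (Subtype.ext hg)
  unfold classInner
  have hcardA : (Nat.card (↥(Subgroup.zpowers x) × ↥Q) : ℂ) =
      (Nat.card ↥(Subgroup.zpowers x) : ℂ) * (Nat.card ↥Q : ℂ) := by
    rw [Nat.card_prod]; push_cast; rfl
  rw [hcardA]
  congr 1
  rw [Fintype.sum_prod_type]
  have hinner : ∀ z : ↥(Subgroup.zpowers x),
      ∑ u : ↥Q, (χ : G → ℂ) (f (z, u)) *
        conj ((Helper79.linChar (l.comp (MonoidHom.fst ↥(Subgroup.zpowers x) ↥Q)) :
          ↥(Subgroup.zpowers x) × ↥Q → ℂ) (z, u)) =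
      (χ : G → ℂ) (z : G) * conj (((l z : ℂˣ) : ℂ)) := by
    intro z
    rw [Finset.sum_eq_single (1 : ↥Q)]
    · rw [hf, Helper79.linChar_apply]
      simp
    · intro u _ hu
      rw [hvan (z, u) hu, zero_mul]
    · intro h; exact absurd (Finset.mem_univ _) h
  simp only [hinner]
  have hz : ∀ z : ↥(Subgroup.zpowers x), (χ : G → ℂ) (z : G) * conj (((l z : ℂˣ) : ℂ)) =
      (if z = 1 then ((χ : G → ℂ) 1 - β) else 0) + β * conj (((l z : ℂˣ) : ℂ)) := by
    intro z
    by_cases hz1 : z = 1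
    · subst hz1
      simp
    · rw [if_neg hz1, zero_add, hβ (z : G) (hZN z.2)]
      intro h
      exact hz1 (Subtype.ext h)
  simp only [hz]
  rw [Finset.sum_add_distrib, Finset.sum_ite_eq' Finset.univ (1 : ↥(Subgroup.zpowers x)),
    if_pos (Finset.mem_univ _), ← Finset.mul_sum, map_sum]

open scoped IsMulCommutative in
/-- For a `p'`-subgroup `Q` of `C_G(x)`, the order of `Q` divides the common value `β` of `χ` on
`N \ 1`. -/
theorem gagola_dvd [Finite G] (χ : IrrCharacter G) (N : Subgroup G) (p : ℕ)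
    (hNp : IsPGroup p N) (hN : ∀ g : G, g ∈ N ↔ (χ : G → ℂ) g ≠ 0)
    (β : ℂ) (hβ : ∀ x ∈ N, x ≠ 1 → (χ : G → ℂ) x = β)
    (x : G) (hxN : x ∈ N) (hx1 : x ≠ 1) (Q : Subgroup G)
    (hQ : Q ≤ Subgroup.centralizer ({x} : Set G)) (hQp : (Nat.card Q).Coprime p) :
    ∃ k : ℤ, β = k * (Nat.card Q : ℂ) := by
  classical
  have : Fintype ↥(Subgroup.zpowers x) := Fintype.ofFinite _
  have : Fintype ↥Q := Fintype.ofFinite _
  have comm : ∀ (z : ↥(Subgroup.zpowers x)) (u : ↥Q),
      Commute ((Subgroup.zpowers x).subtype z) (Q.subtype u) := by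
    intro z u
    obtain ⟨k, hk⟩ := Subgroup.mem_zpowers_iff.1 z.2
    have hu : x * (u : G) = (u : G) * x :=
      (Subgroup.mem_centralizer_iff.1 (hQ u.2)) x (Set.mem_singleton x)
    have hc : Commute x (u : G) := hu
    simp only [Subgroup.coe_subtype]
    rw [← hk]
    exact hc.zpow_left k
  set f : ↥(Subgroup.zpowers x) × ↥Q →* G :=
    MonoidHom.noncommCoprod (Subgroup.zpowers x).subtype Q.subtype comm with hfdef
  have hf : ∀ a, f a = (a.1 : G) * (a.2 : G) := by
    intro a
    rw [hfdef, MonoidHom.noncommCoprod_apply]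
    rfl
  have hχA : IsCharacter (↥(Subgroup.zpowers x) × ↥Q) (fun a => (χ : G → ℂ) (f a)) :=
    isCharacter_comp_hom f (isCharacter_of_irr χ.2)
  -- a nontrivial linear character of `⟨x⟩`
  have : NeZero (Monoid.exponent ↥(Subgroup.zpowers x)) :=
    ⟨Monoid.exponent_ne_zero_of_finite⟩
  have hx1' : (⟨x, Subgroup.mem_zpowers x⟩ : ↥(Subgroup.zpowers x)) ≠ 1 := by
    intro h
    exact hx1 (congrArg Subtype.val h)
  obtain ⟨l₁, hl₁⟩ := CommGroup.exists_apply_ne_one_of_hasEnoughRootsOfUnity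
    ↥(Subgroup.zpowers x) ℂ hx1'
  obtain ⟨k₀, hk₀⟩ := Helper81.exists_nat_classInner_char hχA
    (isCharacter_of_irr (Helper79.linChar ((1 : ↥(Subgroup.zpowers x) →* ℂˣ).comp
      (MonoidHom.fst ↥(Subgroup.zpowers x) ↥Q))).2)
  obtain ⟨k₁, hk₁⟩ := Helper81.exists_nat_classInner_char hχA
    (isCharacter_of_irr (Helper79.linChar (l₁.comp
      (MonoidHom.fst ↥(Subgroup.zpowers x) ↥Q))).2)
  rw [gagola_inner χ N p hNp hN β hβ x hxN Q hQp f hf] at hk₀ hk₁
  have hs0 : ∑ z : ↥(Subgroup.zpowers x), (((1 : ↥(Subgroup.zpowers x) →* ℂˣ) z : ℂˣ) : ℂ) =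
      (Nat.card ↥(Subgroup.zpowers x) : ℂ) := by
    simp [Nat.card_eq_fintype_card]
  have hs1 : ∑ z : ↥(Subgroup.zpowers x), ((l₁ z : ℂˣ) : ℂ) = 0 := by
    have hne : (Units.coeHom ℂ).comp l₁ ≠ 1 := by
      intro h
      apply hl₁
      have := DFunLike.congr_fun h ⟨x, Subgroup.mem_zpowers x⟩
      simp only [MonoidHom.coe_comp, Function.comp_apply, Units.coeHom_apply,
        MonoidHom.one_apply] at this
      exact Units.ext this
    have := sum_hom_units_eq_zero ((Units.coeHom ℂ).comp l₁) hne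
    simpa using this
  rw [hs0] at hk₀
  rw [hs1] at hk₁
  simp only [map_zero, mul_zero, add_zero, Complex.conj_natCast] at hk₀ hk₁
  have hm : (Nat.card ↥(Subgroup.zpowers x) : ℂ) ≠ 0 := by
    exact_mod_cast Nat.card_pos.ne'
  have hq : (Nat.card ↥Q : ℂ) ≠ 0 := by
    exact_mod_cast Nat.card_pos.ne'
  refine ⟨(k₀ : ℤ) - (k₁ : ℤ), ?_⟩
  push_cast
  rw [← hk₀, ← hk₁]
  field_simp
  ring

end Dvd

section Card

variable {G : Type u} [Group G] [Finite G]

/-- The numerical heart: `|C_G(x)| = |G|_p`. -/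
theorem gagola_card_centralizer (hG : 2 < Nat.card G) (χ : IrrCharacter G)
    (hχ : Nat.card {C : ConjClasses G // ∃ g ∈ C.carrier, (χ : G → ℂ) g ≠ 0} = 2)
    (p : ℕ) [Fact p.Prime] (N : Subgroup G) (hN : ∀ g : G, g ∈ N ↔ (χ : G → ℂ) g ≠ 0)
    (hNp : IsPGroup p N) (hN1 : N ≠ ⊥) (x : G) (hxN : x ∈ N) (hx1 : x ≠ 1) :
    Nat.card (Subgroup.centralizer ({x} : Set G)) = p ^ (Nat.card G).factorization p := by
  classical
  have hp : p.Prime := Fact.out
  obtain ⟨β, c, hcpos, hcard, hb, hval, hGcard, hcent⟩ := gagola_setup hG χ hχ N hN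
  -- β is an integer
  obtain ⟨k₀, hk₀⟩ := gagola_dvd χ N p hNp hN β hval x hxN hx1 ⊥ bot_le (by simp)
  rw [Subgroup.card_bot, Nat.cast_one, mul_one] at hk₀
  set b := k₀.natAbs with hbdef
  have hβ2 : β ^ 2 = ((b ^ 2 : ℕ) : ℂ) := by
    rw [hk₀]
    have : (k₀ : ℤ) ^ 2 = ((b ^ 2 : ℕ) : ℤ) := by
      rw [hbdef]; push_cast; exact (sq_abs k₀).symm
    exact_mod_cast this
  have hGN : Nat.card G = c * b ^ 2 * Nat.card N := by
    have : (Nat.card G : ℂ) = ((c * b ^ 2 * Nat.card N : ℕ) : ℂ) := by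
      rw [hGcard, hβ2]; push_cast; ring
    exact_mod_cast this
  set C := Subgroup.centralizer ({x} : Set G) with hC
  have hCc : Nat.card C * c = Nat.card G := hcent x hxN hx1
  have hCN : Nat.card C = b ^ 2 * Nat.card N := by
    have : Nat.card C * c = (b ^ 2 * Nat.card N) * c := by rw [hCc, hGN]; ring
    exact Nat.eq_of_mul_eq_mul_right hcpos this
  have hb0 : b ≠ 0 := by
    intro h
    rw [h] at hGN
    simp only [ne_eq, OfNat.ofNat_ne_zero, not_false_eq_true, zero_pow, mul_zero, zero_mul] at hGN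
    exact Nat.card_pos.ne' hGN
  obtain ⟨a, ha⟩ := IsPGroup.iff_card.1 hNp
  have ha0 : a ≠ 0 := by
    intro h
    rw [h, pow_zero] at ha
    exact hN1 ((Subgroup.card_eq_one).1 ha)
  -- other primes do not divide `|C|`
  have hother : ∀ q : ℕ, q.Prime → q ≠ p → (Nat.card C).factorization q = 0 := by
    intro q hq hqp
    have : Fact q.Prime := ⟨hq⟩
    obtain ⟨Q'⟩ : Nonempty (Sylow q C) := inferInstance
    set n := (Nat.card C).factorization q with hn
    have hQ'card : Nat.card (Q' : Subgroup C) = q ^ n := Sylow.card_eq_multiplicity Q'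
    set Q : Subgroup G := (Q' : Subgroup C).map C.subtype with hQdef
    have hQcard : Nat.card Q = q ^ n := by
      rw [hQdef, Subgroup.card_map_of_injective C.subtype_injective, hQ'card]
    have hQle : Q ≤ C := Subgroup.map_subtype_le _
    have hQcop : (Nat.card Q).Coprime p := by
      rw [hQcard]
      exact Nat.Coprime.pow_left n ((Nat.coprime_primes hq hp).2 hqp)
    obtain ⟨k, hk⟩ := gagola_dvd χ N p hNp hN β hval x hxN hx1 Q hQle hQcop
    have hk' : k₀ = k * ((q ^ n : ℕ) : ℤ) := by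
      have : ((k₀ : ℤ) : ℂ) = ((k * ((q ^ n : ℕ) : ℤ) : ℤ) : ℂ) := by
        rw [← hk₀, hk, hQcard]; push_cast; ring
      exact_mod_cast this
    have hdvd : q ^ n ∣ b := by
      rw [hbdef]
      have : ((q ^ n : ℕ) : ℤ) ∣ k₀ := ⟨k, by rw [hk']; ring⟩
      exact Int.natCast_dvd.1 this
    have hle : n ≤ b.factorization q := (hq.pow_dvd_iff_le_factorization hb0).1 hdvd
    have hn2 : n = 2 * b.factorization q := by
      rw [hn, hCN, Nat.factorization_mul (pow_ne_zero 2 hb0) (by rw [ha]; exact pow_ne_zero a hp.ne_zero),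
        Nat.factorization_pow, ha, Nat.factorization_pow, hp.factorization]
      simp [hqp.symm]
    omega
  have hC0 : Nat.card C ≠ 0 := Nat.card_pos.ne'
  have hCpow : Nat.card C = p ^ (Nat.card C).factorization p := by
    apply Nat.eq_of_factorization_eq hC0 (pow_ne_zero _ hp.ne_zero)
    intro q
    by_cases hq : q.Prime
    · by_cases hqp : q = p
      · subst hqp
        rw [Nat.factorization_pow, hq.factorization]
        simp
      · rw [hother q hq hqp, Nat.factorization_pow, hp.factorization]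
        simp [Ne.symm hqp]
    · rw [Nat.factorization_eq_zero_of_not_prime _ hq, Nat.factorization_eq_zero_of_not_prime _ hq]
  have hpc : ¬ p ∣ c := by
    intro h
    have h1 : p ∣ c + 1 := by
      rw [hcard, ha]
      exact dvd_pow_self p ha0
    have h2 : p ∣ 1 := (Nat.dvd_add_right h).1 h1
    exact hp.one_lt.ne' (Nat.dvd_one.1 h2)
  have hfac : (Nat.card G).factorization p = (Nat.card C).factorization p := by
    rw [← hCc, Nat.factorization_mul hC0 hcpos.ne']
    simp [Nat.factorization_eq_zero_of_not_dvd hpc]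
  rw [hfac]
  exact hCpow

end Card

section Stab

variable {G : Type u} [Group G]

/-- The conjugation action of `G` on the irreducible characters of a normal subgroup:
`(g • μ) n = μ (g⁻¹ n g)`. -/
@[instance_reducible]
noncomputable def irrConjAction (N : Subgroup G) (hN : N.Normal) : MulAction G (IrrCharacter N) where
  smul g μ := ⟨Helper81.conjFun N hN (μ : N → ℂ) g⁻¹,
    Helper81.conjFun_isIrrCharacter N hN μ.2 g⁻¹⟩
  one_smul μ := by
    apply Subtype.ext
    change Helper81.conjFun N hN (μ : N → ℂ) (1 : G)⁻¹ = _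
    rw [inv_one, Helper81.conjFun_one]
  mul_smul g h μ := by
    apply Subtype.ext
    change Helper81.conjFun N hN (μ : N → ℂ) (g * h)⁻¹ =
      Helper81.conjFun N hN (Helper81.conjFun N hN (μ : N → ℂ) h⁻¹) g⁻¹
    rw [Helper81.conjFun_mul, mul_inv_rev]

theorem irrConjAction_smul_coe (N : Subgroup G) (hN : N.Normal) (g : G) (μ : IrrCharacter N) :
    ((letI := irrConjAction N hN; g • μ : IrrCharacter N) : N → ℂ) =
      Helper81.conjFun N hN (μ : N → ℂ) g⁻¹ := rfl

theorem mem_stabilizer_irrConjAction (N : Subgroup G) (hN : N.Normal) (g : G) (μ : IrrCharacter N) :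
    g ∈ @MulAction.stabilizer G (IrrCharacter N) _ (irrConjAction N hN) μ ↔
      ∀ n n' : N, (n' : G) = g * n * g⁻¹ → (μ : N → ℂ) n' = (μ : N → ℂ) n := by
  let _ := irrConjAction N hN
  rw [MulAction.mem_stabilizer_iff]
  constructor
  · intro h n n' hn'
    have h1 : (g • μ : IrrCharacter N) = μ := h
    have h2 := congrArg (fun ψ : IrrCharacter N => (ψ : N → ℂ) n') h1
    simp only [irrConjAction_smul_coe, Helper81.conjFun_apply] at h2
    rw [← h2]
    apply congrArg
    apply Subtype.ext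
    simp only [hn']
    group
  · intro h
    apply Subtype.ext
    rw [irrConjAction_smul_coe]
    funext m
    rw [Helper81.conjFun_apply]
    symm
    apply h
    simp only
    group

/-- In a finite group whose elements commute, there are as many irreducible characters as
elements. -/
theorem card_irr_of_comm {A : Type u} [Group A] [Finite A] (hA : ∀ a b : A, a * b = b * a) :
    Nat.card (IrrCharacter A) = Nat.card A := by
  rw [card_irr]
  symm
  apply Nat.card_congr
  refine Equiv.ofBijective (ConjClasses.mk) ⟨?_, ConjClasses.mk_surjective⟩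
  intro a b hab
  rw [ConjClasses.mk_eq_mk_iff_isConj, isConj_iff] at hab
  obtain ⟨c, hc⟩ := hab
  rw [← hc, hA c a, mul_assoc, mul_inv_cancel, mul_one]

variable [Finite G]

/-- Every nontrivial irreducible character of `N` is a constituent of `χ|_N`. -/
theorem gagola_constituent (hG : 2 < Nat.card G) (χ : IrrCharacter G)
    (hχ : Nat.card {C : ConjClasses G // ∃ g ∈ C.carrier, (χ : G → ℂ) g ≠ 0} = 2)
    (N : Subgroup G) [Fintype N] (hN : ∀ g : G, g ∈ N ↔ (χ : G → ℂ) g ≠ 0)
    (ν : IrrCharacter N) (hν : ν ≠ trivialIrr N) :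
    classInner (fun n : N => (χ : G → ℂ) n) (ν : N → ℂ) ≠ 0 := by
  classical
  obtain ⟨β, c, hcpos, hcard, hb, hval, hGcard, hcent⟩ := gagola_setup hG χ hχ N hN
  have hsum : ∑ n : N, (ν : N → ℂ) n = 0 := by
    have h := irr_first_orthogonality ν (trivialIrr N)
    rw [if_neg hν] at h
    simpa [trivialIrr_apply] using h
  have hz : ∀ n : N, (χ : G → ℂ) n * conj ((ν : N → ℂ) n) =
      (if n = 1 then ((χ : G → ℂ) 1 - β) * conj ((ν : N → ℂ) 1) else 0) +
        β * conj ((ν : N → ℂ) n) := by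
    intro n
    by_cases hn : n = 1
    · subst hn
      simp
      ring
    · rw [if_neg hn, zero_add, hval (n : G) n.2]
      intro h
      exact hn (Subtype.ext h)
  unfold classInner
  simp only [hz]
  rw [Finset.sum_add_distrib, Finset.sum_ite_eq' Finset.univ (1 : N), if_pos (Finset.mem_univ _),
    ← Finset.mul_sum, ← map_sum, hsum, map_zero, mul_zero, add_zero]
  have hNne : (Nat.card N : ℂ) ≠ 0 := by exact_mod_cast Nat.card_pos.ne'
  have h1 : (χ : G → ℂ) 1 - β ≠ 0 := by
    have hχ1 := irr_one_ne_zero χ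
    have : (χ : G → ℂ) 1 - β = - β * ((c : ℂ) + 1) := by
      have : (χ : G → ℂ) 1 = - (β * c) := by rw [hb]; ring
      rw [this]; ring
    rw [this]
    have hβ0 : β ≠ 0 := by
      intro h
      apply hχ1
      have : (χ : G → ℂ) 1 = - (β * c) := by rw [hb]; ring
      rw [this, h]; ring
    have hc1 : (c : ℂ) + 1 ≠ 0 := by exact_mod_cast (Nat.succ_ne_zero c)
    exact mul_ne_zero (neg_ne_zero.2 hβ0) hc1
  have h2 : conj ((ν : N → ℂ) 1) ≠ 0 := by
    rw [Ne, map_eq_zero]
    exact irr_one_ne_zero ν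
  exact mul_ne_zero (inv_ne_zero hNne) (mul_ne_zero h1 h2)

/-- The inertia group of a nontrivial irreducible character of `N` has order `|G|_p`. -/
theorem gagola_card_stabilizer (hG : 2 < Nat.card G) (χ : IrrCharacter G)
    (hχ : Nat.card {C : ConjClasses G // ∃ g ∈ C.carrier, (χ : G → ℂ) g ≠ 0} = 2)
    (p : ℕ) [Fact p.Prime] (N : Subgroup G) (hNn : N.Normal)
    (hN : ∀ g : G, g ∈ N ↔ (χ : G → ℂ) g ≠ 0)
    (hNp : IsPGroup p N) (hN1 : N ≠ ⊥) (μ : IrrCharacter N)
    (hμ : (μ : N → ℂ) ≠ (fun _ => (1 : ℂ))) :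
    Nat.card (@MulAction.stabilizer G (IrrCharacter N) _ (irrConjAction N hNn) μ) =
      p ^ (Nat.card G).factorization p := by
  classical
  let _ := irrConjAction N hNn
  have := Fintype.ofFinite G
  have : Fintype N := Fintype.ofFinite N
  obtain ⟨β, c, hcpos, hcard, hb, hval, hGcard, hcent⟩ := gagola_setup hG χ hχ N hN
  -- `N` is commutative
  have hNeq : N = gagolaSubgroup χ := by
    ext g
    rw [hN g, gagola_mem_iff hG χ hχ g]
  have hcomm : ∀ a b : N, a * b = b * a := by
    obtain ⟨p', _, hel⟩ := gagola_elementaryAbelian hG χ hχ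
    rw [← hNeq] at hel
    have := hel.1
    exact fun a b => mul_comm' a b
  have hirr : Nat.card (IrrCharacter N) = Nat.card N := card_irr_of_comm hcomm
  -- the orbit of `μ` is the set of nontrivial characters
  have hμ' : μ ≠ trivialIrr N := by
    intro h
    apply hμ
    rw [h]
    rfl
  have horbit : MulAction.orbit G μ = ({trivialIrr N} : Set (IrrCharacter N))ᶜ := by
    ext ν
    simp only [Set.mem_compl_iff, Set.mem_singleton_iff]
    constructor
    · rintro ⟨g, rfl⟩ h
      apply hμ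
      funext m
      have h2 := congrArg (fun ψ : IrrCharacter N => (ψ : N → ℂ)
        ⟨g * m * g⁻¹, hNn.conj_mem m m.2 g⟩) h
      simp only [irrConjAction_smul_coe, Helper81.conjFun_apply, trivialIrr_apply] at h2
      rw [← h2]
      apply congrArg
      apply Subtype.ext
      simp only
      group
    · intro hν
      by_contra hno
      have hnc : ¬ ∃ g : G, (ν : N → ℂ) = Helper81.conjFun N hNn (μ : N → ℂ) g := by
        rintro ⟨g, hg⟩
        apply hno
        refine ⟨g⁻¹, ?_⟩
        apply Subtype.ext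
        change Helper81.conjFun N hNn (μ : N → ℂ) g⁻¹⁻¹ = _
        rw [inv_inv, hg]
      have h0 := Helper81.clifford_not_conj N hNn χ.2 μ.2 ν.2
        (gagola_constituent hG χ hχ N hN μ hμ') hnc
      exact gagola_constituent hG χ hχ N hN ν hν h0
  have hidx : (MulAction.stabilizer G μ).index = c := by
    rw [MulAction.index_stabilizer, horbit]
    have h1 := Set.ncard_add_ncard_compl ({trivialIrr N} : Set (IrrCharacter N))
    rw [Set.ncard_singleton, hirr, ← hcard] at h1
    omega
  have hmul := Subgroup.card_mul_index (MulAction.stabilizer G μ)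
  rw [hidx] at hmul
  -- compare with the centralizer of a nonidentity element of `N`
  obtain ⟨x, hxN, hx1⟩ : ∃ x ∈ N, x ≠ 1 := by
    by_contra hno
    push Not at hno
    exact hN1 ((Subgroup.eq_bot_iff_forall N).2 hno)
  have hC := gagola_card_centralizer hG χ hχ p N hN hNp hN1 x hxN hx1
  have hCc := hcent x hxN hx1
  rw [← hC]
  have : Nat.card (MulAction.stabilizer G μ) * c =
      Nat.card (Subgroup.centralizer ({x} : Set G)) * c := by rw [hmul, hCc]
  exact Nat.eq_of_mul_eq_mul_right hcpos this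

end Stab

end Cfsg.Agent.Helper80
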