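import Mathlib
import Cfsg.Agent.Lib.Helper80.Gagola3
import Cfsg.Agent.Lib.Helper80.ConjIrr
import Cfsg.Agent.Lib.Helper80.BrauerPerm

/-!
# Real characters and real classes of a normal subgroup of odd index (helper80)

For `K ⊴ G` of odd index: the number of `G`-orbits on the real-valued irreducible characters of `K`
equals the number of `G`-orbits on the elements of `K` that are real in `K`.
-/

set_option autoImplicit false

namespace Cfsg.Agent.Helper80

open scoped ComplexConjugate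
open Cfsg

universe u

section Tau

variable {G : Type u} [Group G] (K : Subgroup G) [hK : K.Normal]

/-- `τ_g(k) = g⁻¹ k⁻¹ g`. -/
def tauMap (g : G) : ↥K → ↥K := fun k =>
  ⟨g⁻¹ * (k : G)⁻¹ * g, by
    have := hK.conj_mem (k : G)⁻¹ (K.inv_mem k.2) g⁻¹
    simpa using this⟩

theorem tauMap_coe (g : G) (k : ↥K) : ((tauMap K g k : ↥K) : G) = g⁻¹ * (k : G)⁻¹ * g := rfl

variable [Finite G]

/-- `θ ∘ τ_g` is the complex conjugate of the `g`-conjugate of `θ`. -/
theorem comp_tauMap_eq (g : G) (θ : IrrCharacter ↥K) :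
    (θ : ↥K → ℂ) ∘ tauMap K g =
      (cconjIrr ((letI := irrConjAction K hK; g • θ : IrrCharacter ↥K)) : ↥K → ℂ) := by
  funext k
  rw [Function.comp_apply, cconjIrr_apply, ← irr_inv, irrConjAction_smul_coe,
    Helper81.conjFun_apply]
  apply congrArg
  apply Subtype.ext
  simp [tauMap_coe]

theorem isIrr_comp_tauMap (g : G) (θ : IrrCharacter ↥K) :
    IsIrrCharacter ↥K ((θ : ↥K → ℂ) ∘ tauMap K g) := by
  rw [comp_tauMap_eq]
  exact (cconjIrr _).2

theorem smul_cconjIrr (g : G) (θ : IrrCharacter ↥K) :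
    (letI := irrConjAction K hK; g • cconjIrr θ : IrrCharacter ↥K) =
      cconjIrr (letI := irrConjAction K hK; g • θ : IrrCharacter ↥K) := by
  apply Subtype.ext
  funext k
  rfl

omit [Finite G] in
theorem smul_of_mem (k : G) (hk : k ∈ K) (θ : IrrCharacter ↥K) :
    (letI := irrConjAction K hK; k • θ : IrrCharacter ↥K) = θ := by
  apply Subtype.ext
  funext n
  rw [irrConjAction_smul_coe, Helper81.conjFun_apply]
  have h := irr_conj_class θ n ⟨k⁻¹, K.inv_mem hk⟩
  rw [← h]
  apply congrArg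
  apply Subtype.ext
  simp

/-- The odd-index trick on characters: `θ ∘ τ_g = θ` iff `θ` is real and `g`-invariant. -/
theorem comp_tauMap_eq_self_iff (hodd : Odd K.index) (g : G) (θ : IrrCharacter ↥K) :
    (θ : ↥K → ℂ) ∘ tauMap K g = (θ : ↥K → ℂ) ↔
      (∀ k : ↥K, ((θ : ↥K → ℂ) k).im = 0) ∧
        (letI := irrConjAction K hK; g • θ : IrrCharacter ↥K) = θ := by
  let _ := irrConjAction K hK
  constructor
  · intro h
    have h1 : cconjIrr (g • θ) = θ := by
      apply Subtype.ext
      rw [← comp_tauMap_eq]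
      exact h
    have h2 : g • θ = cconjIrr θ := by
      have h0 := congrArg cconjIrr h1
      rw [cconjIrr_cconjIrr] at h0
      exact h0
    have h3 : (g * g) • θ = θ := by
      rw [mul_smul, h2, smul_cconjIrr, h1]
    have hS2 : g * g ∈ MulAction.stabilizer G θ := h3
    obtain ⟨i, hi⟩ := hodd
    have hm : g ^ (2 * i + 1) ∈ MulAction.stabilizer G θ := by
      rw [← hi]
      rw [MulAction.mem_stabilizer_iff]
      exact smul_of_mem K _ (Subgroup.pow_index_mem K g) θ
    have hg : g ∈ MulAction.stabilizer G θ := by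
      have h4 : g = ((g * g) ^ i)⁻¹ * g ^ (2 * i + 1) := by
        rw [pow_succ, pow_mul, pow_two]
        group
      rw [h4]
      exact Subgroup.mul_mem _ (Subgroup.inv_mem _ (Subgroup.pow_mem _ hS2 i)) hm
    have hg' : g • θ = θ := hg
    refine ⟨?_, hg'⟩
    rw [← cconjIrr_eq_self_iff, ← h2, hg']
  · rintro ⟨hreal, hg⟩
    rw [comp_tauMap_eq, hg, (cconjIrr_eq_self_iff θ).2 hreal]

end Tau

section Count

open Classical in
/-- Counting conjugators. -/
theorem card_conjugators {H : Type u} [Group H] [Finite H] (y x : H) :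
    (if IsConj y x then (Nat.card (Subgroup.centralizer ({y} : Set H)) : ℂ) else 0) =
      (Nat.card {k : H // k * y * k⁻¹ = x} : ℂ) := by
  split_ifs with h
  · obtain ⟨c, hc⟩ := isConj_iff.1 h
    congr 1
    apply Nat.card_congr
    refine ⟨fun k => ⟨c * k.1, ?_⟩, fun k => ⟨c⁻¹ * k.1, ?_⟩, ?_, ?_⟩
    · have hk := (Subgroup.mem_centralizer_iff.1 k.2) y (Set.mem_singleton y)
      rw [← hc]
      calc c * k.1 * y * (c * k.1)⁻¹ = c * (k.1 * y) * k.1⁻¹ * c⁻¹ := by group
        _ = c * (y * k.1) * k.1⁻¹ * c⁻¹ := by rw [hk]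
        _ = c * y * c⁻¹ := by group
    · rw [Subgroup.mem_centralizer_iff]
      intro z hz
      rw [Set.mem_singleton_iff] at hz
      subst hz
      obtain ⟨k, hk⟩ := k
      have h1 : k * z = x * k := by
        have : k * z = (k * z * k⁻¹) * k := by group
        rw [this, hk]
      simp only
      calc z * (c⁻¹ * k) = c⁻¹ * (c * z * c⁻¹) * k := by group
        _ = c⁻¹ * (x * k) := by rw [hc]; group
        _ = c⁻¹ * (k * z) := by rw [h1]
        _ = c⁻¹ * k * z := by group
    · intro k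
      apply Subtype.ext
      simp
    · intro k
      apply Subtype.ext
      simp
  · have : IsEmpty {k : H // k * y * k⁻¹ = x} := by
      constructor
      rintro ⟨k, hk⟩
      exact h (isConj_iff.2 ⟨k, hk⟩)
    simp

/-- If `g` inverts `x` then so does every odd power of `g`. -/
theorem inv_trick {G : Type u} [Group G] (x g : G) (hg : g⁻¹ * x⁻¹ * g = x) (i : ℕ) :
    (g ^ (2 * i + 1))⁻¹ * x⁻¹ * g ^ (2 * i + 1) = x := by
  have hg' : g⁻¹ * x * g = x⁻¹ := by
    have h0 : g⁻¹ * x * g = (g⁻¹ * x⁻¹ * g)⁻¹ := by group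
    rw [h0, hg]
  induction i with
  | zero => simpa using hg
  | succ i ih =>
    have h1 : g ^ (2 * (i + 1) + 1) = g ^ (2 * i + 1) * g * g := by
      rw [show 2 * (i + 1) + 1 = (2 * i + 1) + 1 + 1 by ring, pow_succ, pow_succ]
    rw [h1]
    calc (g ^ (2 * i + 1) * g * g)⁻¹ * x⁻¹ * (g ^ (2 * i + 1) * g * g)
        = g⁻¹ * (g⁻¹ * ((g ^ (2 * i + 1))⁻¹ * x⁻¹ * g ^ (2 * i + 1)) * g) * g := by group
      _ = g⁻¹ * (g⁻¹ * x * g) * g := by rw [ih]
      _ = g⁻¹ * x⁻¹ * g := by rw [hg']
      _ = x := hg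

variable {G : Type u} [Group G] (K : Subgroup G) [hK : K.Normal]

/-- The odd-index trick on classes: an element of `K` inverted by an element of `G` is real
in `K`. -/
theorem real_of_conj_inv (hodd : Odd K.index) (x : ↥K) (g : G)
    (hg : g⁻¹ * (x : G)⁻¹ * g = (x : G)) : IsConj x x⁻¹ := by
  obtain ⟨i, hi⟩ := hodd
  have hkk : g ^ (2 * i + 1) ∈ K := by
    rw [← hi]; exact Subgroup.pow_index_mem K g
  have h3 := inv_trick (x : G) g hg i
  rw [isConj_iff]
  refine ⟨⟨g ^ (2 * i + 1), hkk⟩, ?_⟩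
  apply Subtype.ext
  simp only [Subgroup.coe_mul, Subgroup.coe_inv]
  generalize g ^ (2 * i + 1) = kk at h3
  generalize (x : G) = y at h3
  calc kk * y * kk⁻¹ = kk * (kk⁻¹ * y⁻¹ * kk) * kk⁻¹ := by rw [h3]
    _ = y⁻¹ := by group

open Classical in
/-- Counting the elements of `G` inverting `x ∈ K`. -/
theorem card_inverters [Finite G] (hodd : Odd K.index) (x : ↥K) :
    Nat.card {g : G // g⁻¹ * (x : G)⁻¹ * g = (x : G)} =
      if IsConj x x⁻¹ then Nat.card {g : G // g * (x : G) * g⁻¹ = (x : G)} else 0 := by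
  split_ifs with h
  · obtain ⟨k, hk⟩ := isConj_iff.1 h
    have hk' : (k : G) * (x : G) * (k : G)⁻¹ = (x : G)⁻¹ := by
      have := congrArg Subtype.val hk
      simpa using this
    apply Nat.card_congr
    refine ⟨fun g => ⟨(k : G)⁻¹ * g.1, ?_⟩, fun g => ⟨(k : G) * g.1, ?_⟩, ?_, ?_⟩
    · obtain ⟨g, hg⟩ := g
      simp only
      have h1 : g * (x : G) * g⁻¹ = (x : G)⁻¹ := by
        generalize (x : G) = y at hg
        calc g * y * g⁻¹ = g * (g⁻¹ * y⁻¹ * g) * g⁻¹ := by rw [hg]
          _ = y⁻¹ := by group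
      calc (k : G)⁻¹ * g * (x : G) * ((k : G)⁻¹ * g)⁻¹
          = (k : G)⁻¹ * (g * (x : G) * g⁻¹) * (k : G) := by group
        _ = (k : G)⁻¹ * ((k : G) * (x : G) * (k : G)⁻¹) * (k : G) := by rw [h1, hk']
        _ = (x : G) := by group
    · obtain ⟨g, hg⟩ := g
      simp only
      have hk'' : (k : G)⁻¹ * (x : G)⁻¹ * (k : G) = (x : G) := by
        rw [← hk']; group
      have hg2 : g⁻¹ * (x : G) * g = (x : G) := by
        generalize (x : G) = y at hg
        calc g⁻¹ * y * g = g⁻¹ * (g * y * g⁻¹) * g := by rw [hg]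
          _ = y := by group
      calc ((k : G) * g)⁻¹ * (x : G)⁻¹ * ((k : G) * g)
          = g⁻¹ * ((k : G)⁻¹ * (x : G)⁻¹ * (k : G)) * g := by group
        _ = g⁻¹ * (x : G) * g := by rw [hk'']
        _ = (x : G) := hg2
    · intro g
      apply Subtype.ext
      simp
    · intro g
      apply Subtype.ext
      simp
  · have : IsEmpty {g : G // g⁻¹ * (x : G)⁻¹ * g = (x : G)} := by
      constructor
      rintro ⟨g, hg⟩
      exact h (real_of_conj_inv K hodd x g hg)
    simp

end Count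

section Actions

variable {G : Type u} [Group G] (K : Subgroup G) [hK : K.Normal]

/-- The action of `G` on the real-valued irreducible characters of `K`. -/
@[instance_reducible]
noncomputable def realIrrAction :
    MulAction G {θ : IrrCharacter ↥K // ∀ k : ↥K, ((θ : ↥K → ℂ) k).im = 0} :=
  letI := irrConjAction K hK
  { smul := fun g θ => ⟨g • θ.1, by
      intro k
      rw [irrConjAction_smul_coe, Helper81.conjFun_apply]
      exact θ.2 _⟩
    one_smul := fun θ => Subtype.ext (one_smul G θ.1)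
    mul_smul := fun g h θ => Subtype.ext (mul_smul g h θ.1) }

theorem realIrrAction_smul_coe (g : G)
    (θ : {θ : IrrCharacter ↥K // ∀ k : ↥K, ((θ : ↥K → ℂ) k).im = 0}) :
    ((letI := realIrrAction K; g • θ :
      {θ : IrrCharacter ↥K // ∀ k : ↥K, ((θ : ↥K → ℂ) k).im = 0}) : IrrCharacter ↥K) =
      (letI := irrConjAction K hK; g • θ.1 : IrrCharacter ↥K) := rfl

/-- The conjugation action of `G` on the elements of `K` that are real in `K`. -/
@[instance_reducible]
def realEltAction : MulAction G {x : ↥K // IsConj x x⁻¹} where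
  smul g x := ⟨⟨g * (x.1 : G) * g⁻¹, hK.conj_mem _ x.1.2 g⟩, by
    obtain ⟨c, hc⟩ := isConj_iff.1 x.2
    rw [isConj_iff]
    refine ⟨⟨g * (c : G) * g⁻¹, hK.conj_mem _ c.2 g⟩, ?_⟩
    apply Subtype.ext
    have hc' : (c : G) * (x.1 : G) * (c : G)⁻¹ = (x.1 : G)⁻¹ := by
      have := congrArg Subtype.val hc
      simpa using this
    simp only [Subgroup.coe_mul, Subgroup.coe_inv]
    calc g * (c : G) * g⁻¹ * (g * (x.1 : G) * g⁻¹) * (g * (c : G) * g⁻¹)⁻¹
        = g * ((c : G) * (x.1 : G) * (c : G)⁻¹) * g⁻¹ := by group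
      _ = (g * (x.1 : G) * g⁻¹)⁻¹ := by rw [hc']; group⟩
  one_smul x := by
    apply Subtype.ext
    apply Subtype.ext
    change (1 : G) * (x.1 : G) * (1 : G)⁻¹ = (x.1 : G)
    simp
  mul_smul g h x := by
    apply Subtype.ext
    apply Subtype.ext
    change (g * h) * (x.1 : G) * (g * h)⁻¹ = g * (h * (x.1 : G) * h⁻¹) * g⁻¹
    group

theorem realEltAction_smul_coe (g : G) (x : {x : ↥K // IsConj x x⁻¹}) :
    (((letI := realEltAction K; g • x : {x : ↥K // IsConj x x⁻¹}) : ↥K) : G) =
      g * (x.1 : G) * g⁻¹ := rfl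

end Actions

section Main

variable {G : Type u} [Group G] [Finite G] (K : Subgroup G) [hK : K.Normal]

open Classical in
/-- The key double count: summing over `g` the number of `τ_g`-fixed irreducible characters of `K`
counts the pairs `(g, x)` with `g` inverting `x ∈ K`. -/
theorem sum_card_tau_fixed [Fintype G] [Fintype ↥K] :
    ∑ g : G, (Nat.card {θ : IrrCharacter ↥K // (θ : ↥K → ℂ) ∘ tauMap K g = (θ : ↥K → ℂ)} : ℂ) =
      ∑ x : ↥K, (Nat.card {g : G // g⁻¹ * (x : G)⁻¹ * g = (x : G)} : ℂ) := by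
  have hK0 : (Nat.card ↥K : ℂ) ≠ 0 := by exact_mod_cast Nat.card_pos.ne'
  set F : G → ↥K → ℂ := fun h x => if h⁻¹ * (x : G)⁻¹ * h = (x : G) then 1 else 0 with hF
  have hA : ∀ g : G,
      (Nat.card {θ : IrrCharacter ↥K // (θ : ↥K → ℂ) ∘ tauMap K g = (θ : ↥K → ℂ)} : ℂ) =
        (Nat.card ↥K : ℂ)⁻¹ * ∑ x : ↥K, ∑ k : ↥K, F (g * (k : G)⁻¹) x := by
    intro g
    rw [brauer_count (tauMap K g) (isIrr_comp_tauMap K g)]
    congr 1
    apply Finset.sum_congr rfl
    intro x _
    have h0 := card_conjugators (tauMap K g x) x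
    refine Eq.trans (b := (Nat.card {k : ↥K // k * tauMap K g x * k⁻¹ = x} : ℂ))
      (by convert h0) ?_
    rw [Nat.card_eq_fintype_card, Fintype.card_subtype, Finset.card_filter]
    push_cast
    apply Finset.sum_congr rfl
    intro k _
    rw [hF]
    simp only
    have hiff : (k * tauMap K g x * k⁻¹ = x) ↔
        ((g * (k : G)⁻¹)⁻¹ * (x : G)⁻¹ * (g * (k : G)⁻¹) = (x : G)) := by
      rw [Subtype.ext_iff]
      simp only [Subgroup.coe_mul, Subgroup.coe_inv, tauMap_coe]
      have : (g * (k : G)⁻¹)⁻¹ * (x : G)⁻¹ * (g * (k : G)⁻¹) =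
          (k : G) * (g⁻¹ * (x : G)⁻¹ * g) * (k : G)⁻¹ := by group
      rw [this]
    by_cases h : k * tauMap K g x * k⁻¹ = x
    · rw [if_pos h, if_pos (hiff.1 h)]
    · rw [if_neg h, if_neg (fun h' => h (hiff.2 h'))]
  have hB : ∀ x : ↥K, (Nat.card {g : G // g⁻¹ * (x : G)⁻¹ * g = (x : G)} : ℂ) =
      ∑ h : G, F h x := by
    intro x
    rw [Nat.card_eq_fintype_card, Fintype.card_subtype, Finset.card_filter]
    push_cast
    rfl
  simp only [hA, hB]
  rw [← Finset.mul_sum]
  have hswap : ∑ g : G, ∑ x : ↥K, ∑ k : ↥K, F (g * (k : G)⁻¹) x =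
      ∑ k : ↥K, ∑ x : ↥K, ∑ h : G, F h x := by
    rw [Finset.sum_comm]
    rw [Finset.sum_congr rfl (fun x _ => Finset.sum_comm)]
    rw [Finset.sum_comm]
    apply Finset.sum_congr rfl
    intro k _
    apply Finset.sum_congr rfl
    intro x _
    exact Fintype.sum_equiv (Equiv.mulRight (k : G)⁻¹) _ _ (fun g => rfl)
  rw [hswap, Finset.sum_const, Finset.card_univ, nsmul_eq_mul, ← Nat.card_eq_fintype_card]
  field_simp

/-- For `K ⊴ G` of odd index, `G` has as many orbits on the real irreducible characters of `K` as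
on the elements of `K` real in `K`. -/
theorem card_orbits_real_irr_eq (hodd : Odd K.index) :
    Nat.card (Quotient (@MulAction.orbitRel G _ _ (realIrrAction K))) =
      Nat.card (Quotient (@MulAction.orbitRel G _ _ (realEltAction K))) := by
  classical
  letI a1 := realIrrAction K
  letI a2 := realEltAction K
  have := Fintype.ofFinite G
  have : Fintype ↥K := Fintype.ofFinite _
  have := Fintype.ofFinite (IrrCharacter ↥K)
  have hb1 := MulAction.sum_card_fixedBy_eq_card_orbits_mul_card_group G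
    {θ : IrrCharacter ↥K // ∀ k : ↥K, ((θ : ↥K → ℂ) k).im = 0}
  have hb2 := MulAction.sum_card_fixedBy_eq_card_orbits_mul_card_group G
    {x : ↥K // IsConj x x⁻¹}
  -- fixed points of `g` on real characters
  have h1 : ∀ g : G, Fintype.card (MulAction.fixedBy
      {θ : IrrCharacter ↥K // ∀ k : ↥K, ((θ : ↥K → ℂ) k).im = 0} g) =
      Nat.card {θ : IrrCharacter ↥K // (θ : ↥K → ℂ) ∘ tauMap K g = (θ : ↥K → ℂ)} := by
    intro g
    rw [← Nat.card_eq_fintype_card]
    apply Nat.card_congr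
    refine ⟨fun θ => ⟨θ.1.1, (comp_tauMap_eq_self_iff K hodd g θ.1.1).2
        ⟨θ.1.2, congrArg Subtype.val θ.2⟩⟩,
      fun θ => ⟨⟨θ.1, ((comp_tauMap_eq_self_iff K hodd g θ.1).1 θ.2).1⟩,
        Subtype.ext ((comp_tauMap_eq_self_iff K hodd g θ.1).1 θ.2).2⟩, ?_, ?_⟩
    · intro θ; rfl
    · intro θ; rfl
  -- fixed points of `g` on real elements
  have h2 : ∑ g : G, Fintype.card (MulAction.fixedBy {x : ↥K // IsConj x x⁻¹} g) =
      ∑ x : ↥K, if IsConj x x⁻¹ then Nat.card {g : G // g * (x : G) * g⁻¹ = (x : G)} else 0 := by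
    have h3 : ∀ g : G, Fintype.card (MulAction.fixedBy {x : ↥K // IsConj x x⁻¹} g) =
        ∑ x : {x : ↥K // IsConj x x⁻¹}, if g * (x.1 : G) * g⁻¹ = (x.1 : G) then 1 else 0 := by
      intro g
      rw [← Finset.card_filter, ← Fintype.card_subtype]
      apply Fintype.card_congr
      refine Equiv.subtypeEquivRight (fun x => ?_)
      rw [MulAction.mem_fixedBy]
      constructor
      · intro h
        have := congrArg (fun y : {x : ↥K // IsConj x x⁻¹} => ((y : ↥K) : G)) h
        simpa [realEltAction_smul_coe] using this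
      · intro h
        apply Subtype.ext
        apply Subtype.ext
        rw [realEltAction_smul_coe]
        exact h
    simp only [h3]
    rw [Finset.sum_comm, ← Finset.sum_filter,
      Finset.sum_subtype (Finset.univ.filter (fun x : ↥K => IsConj x x⁻¹))
        (p := fun x : ↥K => IsConj x x⁻¹) (by simp)]
    apply Finset.sum_congr rfl
    intro x _
    rw [Nat.card_eq_fintype_card, Fintype.card_subtype, Finset.card_filter]
  -- assemble
  have h4 : ∑ g : G, Fintype.card (MulAction.fixedBy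
      {θ : IrrCharacter ↥K // ∀ k : ↥K, ((θ : ↥K → ℂ) k).im = 0} g) =
      ∑ g : G, Fintype.card (MulAction.fixedBy {x : ↥K // IsConj x x⁻¹} g) := by
    rw [h2]
    simp only [h1]
    have h5 := sum_card_tau_fixed K
    have h6 : ((∑ g : G, Nat.card {θ : IrrCharacter ↥K //
        (θ : ↥K → ℂ) ∘ tauMap K g = (θ : ↥K → ℂ)} : ℕ) : ℂ) =
        ((∑ x : ↥K, if IsConj x x⁻¹ then Nat.card {g : G // g * (x : G) * g⁻¹ = (x : G)}
          else 0 : ℕ) : ℂ) := by
      push_cast
      rw [h5]
      apply Finset.sum_congr rfl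
      intro x _
      rw [card_inverters K hodd x]
      split_ifs <;> simp
    exact_mod_cast h6
  rw [hb1, hb2] at h4
  have hG0 : 0 < Fintype.card G := Fintype.card_pos
  have h7 := Nat.eq_of_mul_eq_mul_right hG0 h4
  rw [Nat.card_eq_fintype_card, Nat.card_eq_fintype_card]
  exact h7

end Main

end Cfsg.Agent.Helper80
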