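import Mathlib
import Cfsg.Prelude.Def_Characters
import Cfsg.Prelude.Def_Blocks
import Cfsg.Agent.Lib.Helper80.Gagola3
import Cfsg.Agent.Lib.Helper80.FrobSchur

/-!
# S4581 (real McKay for solvable groups, `p = 2`): definitions (helper80, RMK server)
-/

set_option autoImplicit false

namespace Cfsg.Agent.Helper80.RMK

open Cfsg Cfsg.Agent.Helper80
open scoped ComplexConjugate

universe u

/-- the characters counted: odd degree, and real-valued when `r = true` -/
def Good (r : Bool) {A : Type u} [Group A] (χ : IrrCharacter A) : Prop :=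
  (r = true → ∀ a : A, ((χ : A → ℂ) a).im = 0) ∧ Odd (charDegree (χ : A → ℂ))

/-- the number of good characters of `A` -/
noncomputable def cnt (r : Bool) (A : Type u) [Group A] : ℕ :=
  Nat.card {χ : IrrCharacter A // Good r χ}

/-- `ψ` (a character of the subgroup `H`) lies over `θ` (a character of `M ≤ H`) -/
def Over {G : Type u} [Group G] {M H : Subgroup G} (hMH : M ≤ H) (ψ : IrrCharacter ↥H)
    (θ : IrrCharacter ↥M) : Prop :=
  ∑ᶠ m : ↥M, (ψ : ↥H → ℂ) (Subgroup.inclusion hMH m) * conj ((θ : ↥M → ℂ) m) ≠ 0

/-- the number of good characters of `H` lying over `θ` -/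
noncomputable def cntOver (r : Bool) {G : Type u} [Group G] {M H : Subgroup G} (hMH : M ≤ H)
    (θ : IrrCharacter ↥M) : ℕ :=
  Nat.card {ψ : IrrCharacter ↥H // Good r ψ ∧ Over hMH ψ θ}

/-- the stabilizer in `G` of a character of the normal subgroup `M` -/
noncomputable def stab {G : Type u} [Group G] (M : Subgroup G) [hM : M.Normal]
    (θ : IrrCharacter ↥M) : Subgroup G :=
  @MulAction.stabilizer G (IrrCharacter ↥M) _ (irrConjAction M hM) θ

/-- the induction hypothesis / the statement proved by induction: for every solvable group `H`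
of order less than `n` and every Sylow `2`-subgroup `Q` of `H` (self-normalizing when
`r = false`) the good characters of `H` and of `N_H(Q)` are equinumerous -/
def IH (r : Bool) (n : ℕ) : Prop :=
  ∀ (H : Type u) [Group H] [Finite H] [Group.IsSolvable H], Nat.card H < n →
    ∀ Q : Sylow 2 H, (r = false → Subgroup.normalizer ((Q : Subgroup H) : Set H) = (Q : Subgroup H)) →
      cnt r H = cnt r ↥(Subgroup.normalizer ((Q : Subgroup H) : Set H))

end Cfsg.Agent.Helper80.RMK
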