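import Mathlib
import Cfsg.Prelude.Def_Characters
import Cfsg.Prelude.Def_Blocks
import Cfsg.Agent.Lib.Helper80.RMKDefs
import Cfsg.Agent.Lib.Helper80.BrauerOdd

/-!
# S4581: basic facts on the stabilizer (helper80, RMK server)
-/

set_option autoImplicit false
set_option linter.style.haveILetI false

namespace Cfsg.Agent.Helper80.RMK

open Cfsg Cfsg.Agent.Helper80
open scoped ComplexConjugate

universe u

/-- membership in the stabilizer, spelled out -/
theorem mem_stab_iff {G : Type u} [Group G] (M : Subgroup G) [hM : M.Normal]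
    (θ : IrrCharacter ↥M) (g : G) :
    g ∈ stab M θ ↔ ∀ n n' : ↥M, (n' : G) = g * n * g⁻¹ → (θ : ↥M → ℂ) n' = (θ : ↥M → ℂ) n :=
  mem_stabilizer_irrConjAction M hM g θ

/-- a normal subgroup stabilizes its own characters -/
theorem le_stab {G : Type u} [Group G] (M : Subgroup G) [hM : M.Normal]
    (θ : IrrCharacter ↥M) : M ≤ stab M θ := by
  intro k hk
  letI := irrConjAction M hM
  show k ∈ MulAction.stabilizer G θ
  rw [MulAction.mem_stabilizer_iff]
  exact smul_of_mem M k hk θ

/-- everything stabilizes the trivial character -/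
theorem stab_trivial {G : Type u} [Group G] (M : Subgroup G) [hM : M.Normal] :
    stab M (trivialIrr ↥M) = ⊤ := by
  rw [eq_top_iff]
  intro g _
  rw [mem_stab_iff]
  intro n n' _
  rfl

end Cfsg.Agent.Helper80.RMK
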