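import Mathlib
import Cfsg.Agent.Lib.Helper24.ClassTwo

set_option autoImplicit false
set_option linter.deprecated false

/-!
# W4 for helper24 (BG 11.7, rank-2 case): `eigen_normalizes`

`E` nonabelian of order `r^3` and exponent `r`, `B ≤ E` of order `r^2` containing `Z(E)`,
`A` an abelian group of odd prime exponent `p ≠ r` normalizing `E` and `B`, centralizing `Z(E)`,
not centralizing `B`; `h` of odd order normalizing `E` and `A`.  Then `h` normalizes `B`.
-/

namespace Cfsg.Agent.Helper80.EigenNorm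

universe u

section abstract

variable {G : Type u} [Group G]

/-- `[x^k, y^l] = [x,y]^(k l)` when `[x,y]` commutes with `x` and `y`. -/
theorem comm_pow_pow (x y : G) (hcx : Commute (x * y * x⁻¹ * y⁻¹) x)
    (hcy : Commute (x * y * x⁻¹ * y⁻¹) y) (k l : ℕ) :
    x ^ k * y ^ l * (x ^ k)⁻¹ * (y ^ l)⁻¹ = (x * y * x⁻¹ * y⁻¹) ^ (k * l) := by
  have h1 : x ^ k * y * (x ^ k)⁻¹ * y⁻¹ = (x * y * x⁻¹ * y⁻¹) ^ k :=
    Cfsg.Agent.Helper24.commutator_pow_left_of_commute y x hcx k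
  have h2 : y * x ^ k * y⁻¹ * (x ^ k)⁻¹ = ((x * y * x⁻¹ * y⁻¹) ^ k)⁻¹ := by
    rw [← h1]; group
  have h3 : Commute (y * x ^ k * y⁻¹ * (x ^ k)⁻¹) y := by
    rw [h2]; exact (hcy.pow_left k).inv_left
  have h4 := Cfsg.Agent.Helper24.commutator_pow_left_of_commute (x ^ k) y h3 l
  have h5 : x ^ k * y ^ l * (x ^ k)⁻¹ * (y ^ l)⁻¹
      = (y ^ l * x ^ k * (y ^ l)⁻¹ * (x ^ k)⁻¹)⁻¹ := by group
  rw [h5, h4, h2, inv_pow, inv_inv, pow_mul]

/-- Central factors drop out of a commutator. -/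
theorem comm_mul_central (u v z w : G) (hzv : Commute z v) (hzw : Commute z w)
    (hwu : Commute w u) :
    (u * z) * (v * w) * (u * z)⁻¹ * (v * w)⁻¹ = u * v * u⁻¹ * v⁻¹ := by
  have e1 : z * (v * w) = (v * w) * z := (hzv.mul_right hzw).eq
  have e2 : w * u⁻¹ = u⁻¹ * w := (hwu.inv_right).eq
  calc (u * z) * (v * w) * (u * z)⁻¹ * (v * w)⁻¹
      = u * (z * (v * w)) * z⁻¹ * u⁻¹ * w⁻¹ * v⁻¹ := by group
    _ = u * ((v * w) * z) * z⁻¹ * u⁻¹ * w⁻¹ * v⁻¹ := by rw [e1]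
    _ = u * v * (w * u⁻¹) * w⁻¹ * v⁻¹ := by group
    _ = u * v * (u⁻¹ * w) * w⁻¹ * v⁻¹ := by rw [e2]
    _ = u * v * u⁻¹ * v⁻¹ := by group

/-- The centre of a nonabelian group of order `r^3` has order `r`. -/
theorem card_center_eq [Finite G] {r : ℕ} (hr : r.Prime) (hc : Nat.card G = r ^ 3)
    (hna : ¬ ∀ x y : G, x * y = y * x) : Nat.card (Subgroup.center G) = r := by
  have : Fact r.Prime := ⟨hr⟩
  have hP : IsPGroup r G := IsPGroup.of_card hc
  have : Nontrivial G := by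
    rw [← Finite.one_lt_card_iff_nontrivial, hc]
    exact Nat.one_lt_pow (by norm_num) hr.one_lt
  have hnt : Nontrivial (Subgroup.center G) := hP.center_nontrivial
  have hdvd : Nat.card (Subgroup.center G) ∣ r ^ 3 := hc ▸ Subgroup.card_subgroup_dvd_card _
  obtain ⟨j, hj, hjc⟩ := (Nat.dvd_prime_pow hr).1 hdvd
  have hlag := Subgroup.card_eq_card_quotient_mul_card_subgroup (Subgroup.center G)
  rw [hc, hjc] at hlag
  have h1 : 1 < Nat.card (Subgroup.center G) := Finite.one_lt_card_iff_nontrivial.2 hnt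
  have hr2 := hr.two_le
  have hj' : j = 0 ∨ j = 1 ∨ j = 2 ∨ j = 3 := by omega
  rcases hj' with rfl | rfl | rfl | rfl
  · rw [hjc] at h1; simp at h1
  · rw [hjc, pow_one]
  · exfalso
    have hq : Nat.card (G ⧸ Subgroup.center G) = r := by
      have : r * r ^ 2 = Nat.card (G ⧸ Subgroup.center G) * r ^ 2 := by rw [← hlag]; ring
      exact (Nat.eq_of_mul_eq_mul_right (by positivity) this).symm
    have : IsCyclic (G ⧸ Subgroup.center G) := isCyclic_of_prime_card hq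
    exact hna (commutative_of_cyclic_center_quotient (QuotientGroup.mk' (Subgroup.center G))
      (by rw [QuotientGroup.ker_mk']))
  · exfalso
    have htop : Subgroup.center G = ⊤ := by
      rw [← Subgroup.card_eq_iff_eq_top, hjc, hc]
    apply hna
    intro x y
    have hy : y ∈ Subgroup.center G := htop ▸ Subgroup.mem_top y
    exact Subgroup.mem_center_iff.1 hy x

/-- In a nonabelian group of order `r^3` all commutators are central. -/
theorem comm_mem_center [Finite G] {r : ℕ} (hr : r.Prime) (hc : Nat.card G = r ^ 3)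
    (hna : ¬ ∀ x y : G, x * y = y * x) (x y : G) :
    x * y * x⁻¹ * y⁻¹ ∈ Subgroup.center G := by
  have : Fact r.Prime := ⟨hr⟩
  have hcen := card_center_eq hr hc hna
  have hlag := Subgroup.card_eq_card_quotient_mul_card_subgroup (Subgroup.center G)
  rw [hc, hcen] at hlag
  have hq : Nat.card (G ⧸ Subgroup.center G) = r ^ 2 := by
    have : r ^ 2 * r = Nat.card (G ⧸ Subgroup.center G) * r := by rw [← hlag]; ring
    exact (Nat.eq_of_mul_eq_mul_right hr.pos this).symm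
  have hcomm := IsPGroup.commutative_of_card_eq_prime_sq hq
  rw [← QuotientGroup.eq_one_iff]
  have := hcomm (x : G ⧸ Subgroup.center G) (y : G ⧸ Subgroup.center G)
  simp only [QuotientGroup.mk_mul, QuotientGroup.mk_inv]
  rw [this]; group

end abstract

section sub

variable {G : Type u} [Group G]

/-- `Z(E)` written inside `G`. -/
abbrev ZE (E : Subgroup G) : Subgroup G := E ⊓ Subgroup.centralizer (E : Set G)

theorem mem_ZE {E : Subgroup G} {x : G} :
    x ∈ ZE E ↔ x ∈ E ∧ ∀ y ∈ E, y * x = x * y := by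
  rw [ZE, Subgroup.mem_inf, Subgroup.mem_centralizer_iff]; rfl

theorem ZE_commute {E : Subgroup G} {z y : G} (hz : z ∈ ZE E) (hy : y ∈ E) : Commute z y :=
  ((mem_ZE.1 hz).2 y hy).symm

theorem eq_or_eq_of_between [Finite G] {r m : ℕ} (hr : r.Prime) {B H E : Subgroup G}
    (hBc : Nat.card B = r ^ m) (hEc : Nat.card E = r ^ (m + 1)) (hBH : B ≤ H) (hHE : H ≤ E) :
    H = B ∨ H = E := by
  have h1 : Nat.card B ∣ Nat.card H := Subgroup.card_dvd_of_le hBH
  have h2 : Nat.card H ∣ Nat.card E := Subgroup.card_dvd_of_le hHE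
  rw [hEc] at h2
  obtain ⟨j, hj, hjc⟩ := (Nat.dvd_prime_pow hr).1 h2
  rw [hBc, hjc] at h1
  have hj2 : m ≤ j := (Nat.pow_dvd_pow_iff_le_right hr.one_lt).1 h1
  have : j = m ∨ j = m + 1 := by omega
  rcases this with rfl | rfl
  · left
    exact (Subgroup.eq_of_le_of_card_ge hBH (by rw [hBc, hjc])).symm
  · right
    exact Subgroup.eq_of_le_of_card_ge hHE (by rw [hEc, hjc])

theorem center_eq_subgroupOf (E : Subgroup G) :
    Subgroup.center E = (ZE E).subgroupOf E := by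
  ext w
  rw [Subgroup.mem_center_iff, Subgroup.mem_subgroupOf, mem_ZE]
  constructor
  · intro hw
    refine ⟨w.2, fun y hy => ?_⟩
    exact congrArg Subtype.val (hw ⟨y, hy⟩)
  · intro hw g
    exact Subtype.ext (hw.2 g.1 g.2)

theorem not_comm_sub {E : Subgroup G} (hEna : ¬ ∀ x ∈ E, ∀ y ∈ E, x * y = y * x) :
    ¬ ∀ x y : E, x * y = y * x := by
  intro hh
  apply hEna
  intro x hx y hy
  exact congrArg Subtype.val (hh ⟨x, hx⟩ ⟨y, hy⟩)

theorem card_ZE [Finite G] {r : ℕ} (hr : r.Prime) {E : Subgroup G}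
    (hEc : Nat.card E = r ^ 3) (hEna : ¬ ∀ x ∈ E, ∀ y ∈ E, x * y = y * x) :
    Nat.card (ZE E) = r := by
  have h := card_center_eq hr hEc (not_comm_sub hEna)
  rw [center_eq_subgroupOf] at h
  rw [← h]
  exact (Nat.card_congr (Subgroup.subgroupOfEquivOfLe (inf_le_left : ZE E ≤ E)).toEquiv).symm

theorem comm_mem_ZE [Finite G] {r : ℕ} (hr : r.Prime) {E : Subgroup G}
    (hEc : Nat.card E = r ^ 3) (hEna : ¬ ∀ x ∈ E, ∀ y ∈ E, x * y = y * x)
    {x y : G} (hx : x ∈ E) (hy : y ∈ E) : x * y * x⁻¹ * y⁻¹ ∈ ZE E := by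
  have h := comm_mem_center hr hEc (not_comm_sub hEna) ⟨x, hx⟩ ⟨y, hy⟩
  rw [center_eq_subgroupOf, Subgroup.mem_subgroupOf] at h
  simpa using h

/-- The "lines": subgroups of order `r^2` of `E` containing `Z(E)`. -/
structure Line (r : ℕ) (E X : Subgroup G) : Prop where
  le : X ≤ E
  card : Nat.card X = r ^ 2
  z_le : ZE E ≤ X

theorem Line.comm {r : ℕ} (hr : r.Prime) {E X : Subgroup G} (hX : Line r E X)
    {x y : G} (hx : x ∈ X) (hy : y ∈ X) : x * y = y * x := by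
  have : Fact r.Prime := ⟨hr⟩
  exact congrArg Subtype.val
    (IsPGroup.commutative_of_card_eq_prime_sq hX.card (⟨x, hx⟩ : X) ⟨y, hy⟩)

theorem Line.exists_not_mem [Finite G] {r : ℕ} (hr : r.Prime) {E X : Subgroup G}
    (hX : Line r E X) (hZc : Nat.card (ZE E) = r) : ∃ b ∈ X, b ∉ ZE E := by
  by_contra hcon
  push Not at hcon
  have hle : X ≤ ZE E := fun b hb => hcon b hb
  have := Subgroup.card_le_of_le hle
  rw [hX.card, hZc] at this
  have hr2 := hr.two_le
  nlinarith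

/-- Elements of a line are `b^k z`. -/
theorem Line.decomp [Finite G] {r : ℕ} (hr : r.Prime) {E X : Subgroup G} (hX : Line r E X)
    (hexp : ∀ x ∈ E, x ^ r = 1) (hZc : Nat.card (ZE E) = r)
    {b : G} (hb : b ∈ X) (hbZ : b ∉ ZE E) {y : G} (hy : y ∈ X) :
    ∃ k : ℕ, ∃ z ∈ ZE E, y = b ^ k * z := by
  have hbE : b ∈ E := hX.le hb
  let K : Subgroup G :=
    { carrier := {y | ∃ k : ℕ, ∃ z ∈ ZE E, y = b ^ k * z}
      one_mem' := ⟨0, 1, (ZE E).one_mem, by simp⟩
      mul_mem' := by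
        rintro _ _ ⟨k, z, hz, rfl⟩ ⟨l, w, hw, rfl⟩
        refine ⟨k + l, z * w, (ZE E).mul_mem hz hw, ?_⟩
        have hc : z * b ^ l = b ^ l * z := (ZE_commute hz (E.pow_mem hbE l)).eq
        calc b ^ k * z * (b ^ l * w) = b ^ k * (z * b ^ l) * w := by group
          _ = b ^ k * (b ^ l * z) * w := by rw [hc]
          _ = b ^ (k + l) * (z * w) := by rw [pow_add]; group
      inv_mem' := by
        rintro _ ⟨k, z, hz, rfl⟩
        refine ⟨k * (r - 1), z⁻¹, (ZE E).inv_mem hz, ?_⟩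
        have hinv : (b ^ k)⁻¹ = b ^ (k * (r - 1)) := by
          apply inv_eq_of_mul_eq_one_left
          rw [← pow_add]
          have : k * (r - 1) + k = r * k := by
            have := hr.pos
            obtain ⟨s, rfl⟩ : ∃ s, r = s + 1 := ⟨r - 1, by omega⟩
            simp; ring
          rw [this, pow_mul, hexp b hbE, one_pow]
        have hc : z⁻¹ * (b ^ k)⁻¹ = (b ^ k)⁻¹ * z⁻¹ :=
          ((ZE_commute hz (E.pow_mem hbE k)).inv_left.inv_right).eq
        rw [mul_inv_rev, hc, hinv] }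
  have hZK : ZE E ≤ K := fun z hz => ⟨0, z, hz, by simp⟩
  have hKX : K ≤ X := by
    rintro _ ⟨k, z, hz, rfl⟩
    exact X.mul_mem (X.pow_mem hb k) (hX.z_le hz)
  have hbK : b ∈ K := ⟨1, 1, (ZE E).one_mem, by simp⟩
  have hZc' : Nat.card (ZE E) = r ^ 1 := by rw [pow_one]; exact hZc
  rcases eq_or_eq_of_between hr hZc' hX.card hZK hKX with h | h
  · exact absurd (h ▸ hbK) hbZ
  · have : y ∈ K := h ▸ hy
    exact this

/-- The centralizer in `E` of a non-central element of a line is that line. -/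
theorem Line.centralizer [Finite G] {r : ℕ} (hr : r.Prime) {E X : Subgroup G} (hX : Line r E X)
    (hEc : Nat.card E = r ^ 3)
    {b : G} (hb : b ∈ X) (hbZ : b ∉ ZE E) {x : G} (hx : x ∈ E) (hxb : x * b = b * x) :
    x ∈ X := by
  have hbE : b ∈ E := hX.le hb
  let H : Subgroup G := E ⊓ Subgroup.centralizer {b}
  have hXH : X ≤ H := by
    intro y hy
    refine Subgroup.mem_inf.2 ⟨hX.le hy, ?_⟩
    rw [Subgroup.mem_centralizer_singleton_iff]
    exact hX.comm hr hy hb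
  have hHE : H ≤ E := inf_le_left
  rcases eq_or_eq_of_between hr hX.card hEc hXH hHE with h | h
  · have : x ∈ H := by
      refine Subgroup.mem_inf.2 ⟨hx, ?_⟩
      rw [Subgroup.mem_centralizer_singleton_iff]
      exact hxb
    exact h ▸ this
  · exfalso
    apply hbZ
    refine mem_ZE.2 ⟨hbE, fun y hy => ?_⟩
    have : y ∈ H := h ▸ hy
    have := (Subgroup.mem_inf.1 this).2
    rw [Subgroup.mem_centralizer_singleton_iff] at this
    exact this

/-- Non-central elements of distinct lines do not commute. -/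
theorem Line.not_comm [Finite G] {r : ℕ} (hr : r.Prime) {E X Y : Subgroup G}
    (hX : Line r E X) (hY : Line r E Y) (hEc : Nat.card E = r ^ 3) (hne : X ≠ Y)
    {b c : G} (hb : b ∈ X) (hbZ : b ∉ ZE E) (hc : c ∈ Y) (hcZ : c ∉ ZE E) :
    b * c ≠ c * b := by
  intro hbc
  -- `c ∈ X`
  have hcX : c ∈ X := hX.centralizer hr hEc hb hbZ (hY.le hc) hbc.symm
  -- every element of `X` commutes with `c`, hence lies in `Y`
  have hXY : X ≤ Y := fun x hx =>
    hY.centralizer hr hEc hc hcZ (hX.le hx) (hX.comm hr hx hcX)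
  exact hne (Subgroup.eq_of_le_of_card_ge hXY (by rw [hX.card, hY.card]))

end sub

section main

variable {G : Type u} [Group G]

/-- Product of the two "eigenvalues" is `1` mod `r`. -/
theorem eigen_mul [Finite G] {r : ℕ} (hr : r.Prime) {E : Subgroup G}
    (hEc : Nat.card E = r ^ 3) (hEna : ¬ ∀ x ∈ E, ∀ y ∈ E, x * y = y * x)
    (hexp : ∀ x ∈ E, x ^ r = 1)
    {a : G} (haZ : ∀ z ∈ ZE E, a * z * a⁻¹ = z)
    {b1 b2 : G} (hb1 : b1 ∈ E) (hb2 : b2 ∈ E) (hnc : b1 * b2 ≠ b2 * b1)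
    {k1 k2 : ℕ} {z1 z2 : G} (hz1 : z1 ∈ ZE E) (hz2 : z2 ∈ ZE E)
    (e1 : a * b1 * a⁻¹ = b1 ^ k1 * z1) (e2 : a * b2 * a⁻¹ = b2 ^ k2 * z2) :
    k1 * k2 ≡ 1 [MOD r] := by
  have : Fact r.Prime := ⟨hr⟩
  set c := b1 * b2 * b1⁻¹ * b2⁻¹ with hc
  have hcZ : c ∈ ZE E := comm_mem_ZE hr hEc hEna hb1 hb2
  have hc1 : c ≠ 1 := by
    intro h
    apply hnc
    have : b1 * b2 = c * b2 * b1 := by rw [hc]; group
    rw [this, h, one_mul]
  have hcr : c ^ r = 1 := hexp c (mem_ZE.1 hcZ).1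
  have hord : orderOf c = r := orderOf_eq_prime hcr hc1
  have hconj : a * c * a⁻¹
      = (a * b1 * a⁻¹) * (a * b2 * a⁻¹) * (a * b1 * a⁻¹)⁻¹ * (a * b2 * a⁻¹)⁻¹ := by
    rw [hc]; group
  have h1 : a * c * a⁻¹ = c ^ (k1 * k2) := by
    rw [hconj, e1, e2,
      comm_mul_central (b1 ^ k1) (b2 ^ k2) z1 z2 (ZE_commute hz1 (E.pow_mem hb2 k2))
        (ZE_commute hz1 (mem_ZE.1 hz2).1) (ZE_commute hz2 (E.pow_mem hb1 k1))]
    exact comm_pow_pow b1 b2 (ZE_commute hcZ hb1) (ZE_commute hcZ hb2) k1 k2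
  rw [haZ c hcZ] at h1
  have h2 : c ^ (k1 * k2) = c ^ 1 := by rw [pow_one]; exact h1.symm
  have := pow_eq_pow_iff_modEq.1 h2
  rw [hord] at this
  exact this

/-- Main claim: an element `a` of odd order prime to `r` normalizing `E`, centralizing `Z(E)` and
normalizing three distinct lines centralizes (each of) them. -/
theorem centralizes_line [Finite G] {r p : ℕ} (hr : r.Prime) (hpodd : Odd p)
    (hpr : Nat.Coprime p r) {E : Subgroup G}
    (hEc : Nat.card E = r ^ 3) (hEna : ¬ ∀ x ∈ E, ∀ y ∈ E, x * y = y * x)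
    (hexp : ∀ x ∈ E, x ^ r = 1)
    {a : G} (hap : a ^ p = 1) (haZ : ∀ z ∈ ZE E, a * z * a⁻¹ = z)
    {X1 X2 X3 : Subgroup G} (hX1 : Line r E X1) (hX2 : Line r E X2) (hX3 : Line r E X3)
    (h12 : X1 ≠ X2) (h13 : X1 ≠ X3) (h23 : X2 ≠ X3)
    (ha1 : ∀ x ∈ X1, a * x * a⁻¹ ∈ X1) (ha2 : ∀ x ∈ X2, a * x * a⁻¹ ∈ X2)
    (ha3 : ∀ x ∈ X3, a * x * a⁻¹ ∈ X3) :
    ∀ b ∈ X1, a * b * a⁻¹ = b := by
  have : Fact r.Prime := ⟨hr⟩
  have hZc : Nat.card (ZE E) = r := card_ZE hr hEc hEna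
  intro b hb
  by_cases hbZ : b ∈ ZE E
  · exact haZ b hbZ
  obtain ⟨b2, hb2, hb2Z⟩ := hX2.exists_not_mem hr hZc
  obtain ⟨b3, hb3, hb3Z⟩ := hX3.exists_not_mem hr hZc
  obtain ⟨k1, z1, hz1, e1⟩ := hX1.decomp hr hexp hZc hb hbZ (ha1 b hb)
  obtain ⟨k2, z2, hz2, e2⟩ := hX2.decomp hr hexp hZc hb2 hb2Z (ha2 b2 hb2)
  obtain ⟨k3, z3, hz3, e3⟩ := hX3.decomp hr hexp hZc hb3 hb3Z (ha3 b3 hb3)
  have hbE := hX1.le hb
  have hb2E := hX2.le hb2
  have hb3E := hX3.le hb3
  have m12 := eigen_mul hr hEc hEna hexp haZ hbE hb2E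
    (hX1.not_comm hr hX2 hEc h12 hb hbZ hb2 hb2Z) hz1 hz2 e1 e2
  have m13 := eigen_mul hr hEc hEna hexp haZ hbE hb3E
    (hX1.not_comm hr hX3 hEc h13 hb hbZ hb3 hb3Z) hz1 hz3 e1 e3
  have m23 := eigen_mul hr hEc hEna hexp haZ hb2E hb3E
    (hX2.not_comm hr hX3 hEc h23 hb2 hb2Z hb3 hb3Z) hz2 hz3 e2 e3
  -- `k1^2 ≡ 1`
  have hk : k1 * k1 ≡ 1 [MOD r] := by
    rw [← ZMod.natCast_eq_natCast_iff] at m12 m13 m23 ⊢
    push_cast at m12 m13 m23 ⊢
    linear_combination (-(k1 : ZMod r) ^ 2) * m23 + ((k1 : ZMod r) * k3) * m12 + m13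
  have hb1 : b ≠ 1 := fun h => hbZ (h ▸ (ZE E).one_mem)
  have hordb : orderOf b = r := orderOf_eq_prime (hexp b hbE) hb1
  have hbkk : b ^ (k1 * k1) = b := by
    have : b ^ (k1 * k1) = b ^ 1 := by
      rw [pow_eq_pow_iff_modEq, hordb]; exact hk
    rw [this, pow_one]
  -- `t = a * a` sends `b` to `b * z'`
  set z' := z1 ^ k1 * z1 with hz'
  have hz'Z : z' ∈ ZE E := (ZE E).mul_mem ((ZE E).pow_mem hz1 k1) hz1
  have ht : (a * a) * b * (a * a)⁻¹ = b * z' := by
    have hcz : Commute (b ^ k1) z1 := (ZE_commute hz1 (E.pow_mem hbE k1)).symm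
    calc (a * a) * b * (a * a)⁻¹ = a * (a * b * a⁻¹) * a⁻¹ := by group
      _ = a * (b ^ k1 * z1) * a⁻¹ := by rw [e1]
      _ = (a * b ^ k1 * a⁻¹) * (a * z1 * a⁻¹) := by group
      _ = (a * b * a⁻¹) ^ k1 * z1 := by rw [conj_pow, haZ z1 hz1]
      _ = (b ^ k1 * z1) ^ k1 * z1 := by rw [e1]
      _ = (b ^ k1) ^ k1 * z1 ^ k1 * z1 := by rw [hcz.mul_pow]
      _ = b * z' := by rw [← pow_mul, hbkk, hz', mul_assoc]
  have htz : (a * a) * z' * (a * a)⁻¹ = z' := by
    calc (a * a) * z' * (a * a)⁻¹ = a * (a * z' * a⁻¹) * a⁻¹ := by group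
      _ = z' := by rw [haZ z' hz'Z, haZ z' hz'Z]
  -- the commutator `[t, b] = z'`
  have hd : (a * a) * b * (a * a)⁻¹ * b⁻¹ = z' := by
    rw [ht]
    have : b * z' = z' * b := (ZE_commute hz'Z hbE).eq.symm
    rw [this]; group
  have hdt : Commute ((a * a) * b * (a * a)⁻¹ * b⁻¹) (a * a) := by
    rw [hd]
    have : a * a * z' = z' * (a * a) := by
      calc a * a * z' = (a * a * z' * (a * a)⁻¹) * (a * a) := by group
        _ = z' * (a * a) := by rw [htz]
    exact this.symm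
  have hpow := Cfsg.Agent.Helper24.commutator_pow_left_of_commute b (a * a) hdt p
  have htp : (a * a) ^ p = 1 := by
    rw [(Commute.refl a).mul_pow, hap, one_mul]
  rw [htp, hd] at hpow
  have hz'p : z' ^ p = 1 := by rw [← hpow]; group
  have hz'r : z' ^ r = 1 := hexp z' (mem_ZE.1 hz'Z).1
  have hz'1 : z' = 1 := by
    have h1 := orderOf_dvd_of_pow_eq_one hz'p
    have h2 := orderOf_dvd_of_pow_eq_one hz'r
    have h3 : orderOf z' ∣ 1 := by
      have := Nat.dvd_gcd h1 h2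
      rwa [hpr] at this
    exact orderOf_eq_one_iff.1 (Nat.dvd_one.1 h3)
  rw [hz'1, mul_one] at ht
  -- `a` is a power of `a * a`
  obtain ⟨m, hm⟩ := hpodd
  have ha : a = (a * a) ^ (m + 1) := by
    rw [(Commute.refl a).mul_pow, ← pow_add]
    have : m + 1 + (m + 1) = p + 1 := by omega
    rw [this, pow_succ, hap, one_mul]
  have hcomm : Commute (a * a) b := by
    have : a * a * b = b * (a * a) := by
      calc a * a * b = (a * a * b * (a * a)⁻¹) * (a * a) := by group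
        _ = b * (a * a) := by rw [ht]
    exact this
  have hcomm' : Commute a b := by
    rw [ha]; exact hcomm.pow_left (m + 1)
  calc a * b * a⁻¹ = b * a * a⁻¹ := by rw [hcomm'.eq]
    _ = b := by group

end main

section final

variable {G : Type u} [Group G]

/-- The conjugate subgroup `h X h⁻¹`. -/
def cjs (h : G) (X : Subgroup G) : Subgroup G := X.map (MulAut.conj h).toMonoidHom

theorem mem_cjs {h : G} {X : Subgroup G} {y : G} : y ∈ cjs h X ↔ h⁻¹ * y * h ∈ X := by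
  rw [cjs, Subgroup.mem_map_equiv, MulAut.conj_symm_apply]

theorem card_cjs (h : G) (X : Subgroup G) : Nat.card (cjs h X) = Nat.card X :=
  Subgroup.card_map_of_injective (MulAut.conj h).injective

theorem cjs_injective (h : G) : Function.Injective (cjs (G := G) h) :=
  Subgroup.map_injective (MulAut.conj h).injective

theorem mem_normalizer_of_cjs_eq {g : G} {X : Subgroup G} (heq : cjs g X = X) :
    g ∈ Subgroup.normalizer (X : Set G) := by
  rw [Subgroup.mem_normalizer_iff]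
  intro x
  constructor
  · intro hx
    rw [← heq, mem_cjs]
    have : g⁻¹ * (g * x * g⁻¹) * g = x := by group
    rw [this]; exact hx
  · intro hx
    rw [← heq, mem_cjs] at hx
    have : g⁻¹ * (g * x * g⁻¹) * g = x := by group
    rw [this] at hx; exact hx

theorem cjs_cjs (g : G) (X : Subgroup G) : cjs g (cjs g X) = cjs (g * g) X := by
  ext y
  rw [mem_cjs, mem_cjs, mem_cjs]
  have : g⁻¹ * (g⁻¹ * y * g) * g = (g * g)⁻¹ * y * (g * g) := by group
  rw [this]

/-- `N_G(E)` normalizes `Z(E)`. -/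
theorem conj_mem_ZE {E : Subgroup G} {g : G} (hg : g ∈ Subgroup.normalizer (E : Set G))
    {z : G} (hz : z ∈ ZE E) : g * z * g⁻¹ ∈ ZE E := by
  have hgi : g⁻¹ ∈ Subgroup.normalizer (E : Set G) := Subgroup.inv_mem _ hg
  refine mem_ZE.2 ⟨(Subgroup.mem_normalizer_iff.1 hg z).1 (mem_ZE.1 hz).1, fun y hy => ?_⟩
  have hy' : g⁻¹ * y * g⁻¹⁻¹ ∈ E := (Subgroup.mem_normalizer_iff.1 hgi y).1 hy
  have := (mem_ZE.1 hz).2 _ hy'
  calc y * (g * z * g⁻¹) = g * ((g⁻¹ * y * g⁻¹⁻¹) * z) * g⁻¹ := by group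
    _ = g * (z * (g⁻¹ * y * g⁻¹⁻¹)) * g⁻¹ := by rw [this]
    _ = g * z * g⁻¹ * y := by group

/-- The `A`-invariant lines. -/
structure InvLine (r : ℕ) (E A X : Subgroup G) : Prop extends Line r E X where
  norm : A ≤ Subgroup.normalizer (X : Set G)

theorem InvLine.cjs {r : ℕ} {E A X : Subgroup G} (hX : InvLine r E A X) {h : G}
    (hhE : h ∈ Subgroup.normalizer (E : Set G)) (hhA : h ∈ Subgroup.normalizer (A : Set G)) :
    InvLine r E A (cjs h X) := by
  have hiE : h⁻¹ ∈ Subgroup.normalizer (E : Set G) := Subgroup.inv_mem _ hhE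
  have hiA : h⁻¹ ∈ Subgroup.normalizer (A : Set G) := Subgroup.inv_mem _ hhA
  refine ⟨⟨?_, ?_, ?_⟩, ?_⟩
  · intro y hy
    rw [mem_cjs] at hy
    have h1 := (Subgroup.mem_normalizer_iff.1 hhE _).1 (hX.le hy)
    have : h * (h⁻¹ * y * h) * h⁻¹ = y := by group
    rwa [this] at h1
  · rw [card_cjs]; exact hX.card
  · intro z hz
    rw [mem_cjs]
    have := conj_mem_ZE hiE hz
    rw [inv_inv] at this
    exact hX.z_le this
  · intro a ha
    have ha' : h⁻¹ * a * h ∈ A := by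
      have := (Subgroup.mem_normalizer_iff.1 hiA a).1 ha
      rwa [inv_inv] at this
    have hn := Subgroup.mem_normalizer_iff.1 (hX.norm ha')
    rw [Subgroup.mem_normalizer_iff]
    intro y
    rw [mem_cjs, mem_cjs, hn (h⁻¹ * y * h)]
    have : h⁻¹ * a * h * (h⁻¹ * y * h) * (h⁻¹ * a * h)⁻¹ = h⁻¹ * (a * y * a⁻¹) * h := by group
    rw [this]

/-- **W4** (helper24, BG 11.7 rank-2 case). -/
theorem eigen_normalizes {G : Type u} [Group G] [Finite G] {p r : ℕ} (hp : p.Prime) (hr : r.Prime) (hpr : p ≠ r) (hp2 : p ≠ 2) (E B A : Subgroup G) (h : G) (hEc : Nat.card E = r ^ 3) (hEexp : ∀ x ∈ E, x ^ r = 1) (hEna : ¬ ∀ x ∈ E, ∀ y ∈ E, x * y = y * x) (hBE : B ≤ E) (hBc : Nat.card B = r ^ 2) (hZB : E ⊓ Subgroup.centralizer (E : Set G) ≤ B) (hAE : A ≤ Subgroup.normalizer (E : Set G)) (hAB : A ≤ Subgroup.normalizer (B : Set G)) (hAZ : A ≤ Subgroup.centralizer ((E ⊓ Subgroup.centralizer (E : Set G) : Subgroup G) : Set G)) (hAcomm : ∀ a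 ∈ A, ∀ b ∈ A, a * b = b * a) (hAp : ∀ a ∈ A, a ^ p = 1) (hAnc : ¬ A ≤ Subgroup.centralizer (B : Set G)) (hhE : h ∈ Subgroup.normalizer (E : Set G)) (hhA : h ∈ Subgroup.normalizer (A : Set G)) (hodd : Odd (orderOf h)) : h ∈ Subgroup.normalizer (B : Set G) := by
  by_contra hcon
  have hB0 : InvLine r E A B := ⟨⟨hBE, hBc, hZB⟩, hAB⟩
  have hB1 : InvLine r E A (cjs h B) := hB0.cjs hhE hhA
  have hB2 : InvLine r E A (cjs h (cjs h B)) := hB1.cjs hhE hhA
  have h01 : B ≠ cjs h B := fun heq => hcon (mem_normalizer_of_cjs_eq heq.symm)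
  have h12 : cjs h B ≠ cjs h (cjs h B) := fun heq => h01 (cjs_injective h heq)
  have h02 : B ≠ cjs h (cjs h B) := by
    intro heq
    rw [cjs_cjs] at heq
    have hhh : h * h ∈ Subgroup.normalizer (B : Set G) := mem_normalizer_of_cjs_eq heq.symm
    obtain ⟨m, hm⟩ := hodd
    have : h = (h * h) ^ (m + 1) := by
      rw [(Commute.refl h).mul_pow, ← pow_add]
      have : m + 1 + (m + 1) = orderOf h + 1 := by omega
      rw [this, pow_succ, pow_orderOf_eq_one, one_mul]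
    apply hcon
    rw [this]
    exact Subgroup.pow_mem _ hhh _
  -- an element of `A` not centralizing `B`
  obtain ⟨a, haA, haB⟩ : ∃ a ∈ A, a ∉ Subgroup.centralizer (B : Set G) := by
    by_contra hno
    push Not at hno
    exact hAnc hno
  have hpodd : Odd p := hp.odd_of_ne_two hp2
  have hcop : Nat.Coprime p r := (Nat.coprime_primes hp hr).2 hpr
  have haZ : ∀ z ∈ ZE E, a * z * a⁻¹ = z := by
    intro z hz
    have := Subgroup.mem_centralizer_iff.1 (hAZ haA) z hz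
    rw [← this]; group
  have hinv : ∀ X : Subgroup G, InvLine r E A X → ∀ x ∈ X, a * x * a⁻¹ ∈ X :=
    fun X hX x hx => (Subgroup.mem_normalizer_iff.1 (hX.norm haA) x).1 hx
  have hcen := centralizes_line hr hpodd hcop hEc hEna hEexp (hAp a haA) haZ
    hB0.toLine hB1.toLine hB2.toLine h01 h02 h12
    (hinv _ hB0) (hinv _ hB1) (hinv _ hB2)
  apply haB
  rw [Subgroup.mem_centralizer_iff]
  intro b hb
  have := hcen b hb
  calc b * a = (a * b * a⁻¹) * a := by rw [this]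
    _ = a * b := by group

end final

end Cfsg.Agent.Helper80.EigenNorm
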