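import Mathlib
import Cfsg.Prelude.Def_Characters
import Cfsg.Prelude.Def_Blocks

/-!
# S4861 (Isaacs–Navarro): definitions for the lemma server RPD (helper80)

`Hyp p G` : `G` is generated by its `2`-elements, has a solvable normal subgroup of index prime
to `p`, and every real-valued irreducible character of `G` has degree prime to `p`.
-/

set_option autoImplicit false

namespace Cfsg.Agent.Helper80.RPD

open Cfsg

universe u

/-- the hypothesis package of the induction -/
def Hyp (p : ℕ) (G : Type u) [Group G] : Prop :=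
  Subgroup.closure {g : G | ∃ k : ℕ, orderOf g = 2 ^ k} = ⊤ ∧
  (∃ L : Subgroup G, L.Normal ∧ Group.IsSolvable ↥L ∧ ¬ p ∣ L.index) ∧
  (∀ χ : IrrCharacter G, (∀ g : G, ((χ : G → ℂ) g).im = 0) →
    ¬ p ∣ charDegree (χ : G → ℂ))

end Cfsg.Agent.Helper80.RPD
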