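import Mathlib
import Cfsg.Agent.Lib.Helper80.ConjIrr
import Cfsg.Agent.Lib.Helper79.Inflation
import Cfsg.Agent.Lib.Helper81.CharClifford
import Cfsg.Agent.Lib.Helper3.CharDecomp

/-!
# Real characters over a normal subgroup of odd index (helper80)

For `N ⊴ G` of odd index:
* `fs_restrict_sum` : `∑_χ conj ν(χ) ⟨χ|_N, φ⟩ = conj ν(φ)` (square roots of elements of `N` lie in `N`);
* `real_over_unique` : at most one real-valued `χ ∈ Irr(G)` lies over a given `φ ∈ Irr(N)`;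
* `exists_unique_fs_one_over` : an irreducible character of `N` of Frobenius–Schur indicator `1`
  lies under exactly one irreducible character of `G` of indicator `1`.
-/

set_option autoImplicit false

namespace Cfsg.Agent.Helper80

open scoped ComplexConjugate
open Cfsg

universe u

section OddIndex

variable {G : Type u} [Group G] [Finite G] (N : Subgroup G) [hN : N.Normal]

/-- The Frobenius–Schur indicator. -/
noncomputable def fsInd {H : Type u} [Group H] (χ : H → ℂ) : ℂ :=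
  (Nat.card H : ℂ)⁻¹ * ∑ᶠ u : H, χ (u * u)

omit [Finite G] in
/-- Square roots of elements of a normal subgroup of odd index lie in the subgroup. -/
theorem mem_of_sq_mem (hodd : Odd N.index) (u : G) (hu : u * u ∈ N) : u ∈ N := by
  have h1 : (QuotientGroup.mk u : G ⧸ N) ^ 2 = 1 := by
    rw [pow_two, ← QuotientGroup.mk_mul]
    exact (QuotientGroup.eq_one_iff _).2 hu
  have h2 : (QuotientGroup.mk u : G ⧸ N) ^ N.index = 1 := by
    rw [Subgroup.index_eq_card]
    exact pow_card_eq_one'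
  have h3 := pow_gcd_eq_one.2 ⟨h1, h2⟩
  have hcop : Nat.gcd 2 N.index = 1 := (Nat.coprime_two_left).2 hodd
  rw [hcop, pow_one] at h3
  exact (QuotientGroup.eq_one_iff u).1 h3

omit hN in
/-- If two combinations of irreducible characters of `G` and of `N` agree on `N`, the coefficient
of `φ ∈ Irr(N)` is the corresponding combination of multiplicities. -/
theorem inner_of_pointwise [Fintype ↥N] [Fintype (IrrCharacter G)] [Fintype (IrrCharacter ↥N)]
    (cG : IrrCharacter G → ℂ) (cN : IrrCharacter ↥N → ℂ)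
    (hpt : ∀ n : ↥N, ∑ χ : IrrCharacter G, cG χ * (χ : G → ℂ) n =
      ∑ θ : IrrCharacter ↥N, cN θ * (θ : ↥N → ℂ) n) (φ : IrrCharacter ↥N) :
    ∑ χ : IrrCharacter G, cG χ * classInner (fun n : ↥N => (χ : G → ℂ) n) (φ : ↥N → ℂ) =
      cN φ := by
  classical
  have h3 : ∀ χ : IrrCharacter G,
      cG χ * classInner (fun n : ↥N => (χ : G → ℂ) n) (φ : ↥N → ℂ) =
      (Nat.card ↥N : ℂ)⁻¹ * ∑ n : ↥N, (cG χ * (χ : G → ℂ) n) * conj ((φ : ↥N → ℂ) n) := by
    intro χ
    unfold classInner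
    rw [mul_left_comm]
    congr 1
    rw [Finset.mul_sum]
    apply Finset.sum_congr rfl
    intro n _
    ring
  simp only [h3]
  rw [← Finset.mul_sum, Finset.sum_comm]
  simp only [← Finset.sum_mul, hpt]
  simp only [Finset.sum_mul]
  rw [Finset.sum_comm, Finset.mul_sum]
  have h4 : ∀ θ : IrrCharacter ↥N, (Nat.card ↥N : ℂ)⁻¹ * ∑ n : ↥N,
      cN θ * (θ : ↥N → ℂ) n * conj ((φ : ↥N → ℂ) n) = cN θ * (if θ = φ then 1 else 0) := by
    intro θ
    rw [← classInner_irr θ φ]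
    unfold classInner
    rw [mul_left_comm]
    congr 1
    rw [Finset.mul_sum]
    apply Finset.sum_congr rfl
    intro n _
    ring
  simp only [h4]
  simp

/-- `∑_χ conj ν(χ) ⟨χ|_N, φ⟩ = conj ν(φ)` for a normal subgroup of odd index. -/
theorem fs_restrict_sum [Fintype G] [Fintype ↥N] [Fintype (IrrCharacter G)] (hodd : Odd N.index)
    (φ : IrrCharacter ↥N) :
    ∑ χ : IrrCharacter G, conj ((Nat.card G : ℂ)⁻¹ * ∑ u : G, (χ : G → ℂ) (u * u)) *
        classInner (fun n : ↥N => (χ : G → ℂ) n) (φ : ↥N → ℂ) =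
      conj ((Nat.card ↥N : ℂ)⁻¹ * ∑ u : ↥N, (φ : ↥N → ℂ) (u * u)) := by
  classical
  have := Fintype.ofFinite (IrrCharacter ↥N)
  apply inner_of_pointwise N
    (fun χ => conj ((Nat.card G : ℂ)⁻¹ * ∑ u : G, (χ : G → ℂ) (u * u)))
    (fun θ => conj ((Nat.card ↥N : ℂ)⁻¹ * ∑ u : ↥N, (θ : ↥N → ℂ) (u * u)))
  intro n
  have h1 := card_sqrt_eq (n : G)
  have h2 := card_sqrt_eq n
  rw [finsum_eq_sum_of_fintype] at h1 h2
  rw [← h1, ← h2]
  congr 1
  apply Nat.card_congr
  refine ⟨fun u => ⟨⟨u.1, mem_of_sq_mem N hodd u.1 (by rw [u.2]; exact n.2)⟩,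
    Subtype.ext u.2⟩, fun u => ⟨u.1.1, congrArg Subtype.val u.2⟩, ?_, ?_⟩
  · intro u; rfl
  · intro u; rfl

/-- The average of a function over `N` in terms of inner products with the characters of `G/N`. -/
theorem restrict_avg_eq_sum_inflate [Fintype G] [Fintype ↥N] [Fintype (IrrCharacter (G ⧸ N))]
    (F : G → ℂ) :
    (Nat.card ↥N : ℂ)⁻¹ * ∑ n : ↥N, F n =
      ∑ β : IrrCharacter (G ⧸ N), (β : G ⧸ N → ℂ) 1 *
        classInner F (Helper79.inflate N β : G → ℂ) := by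
  classical
  have hG0 : (Nat.card G : ℂ) ≠ 0 := by exact_mod_cast Nat.card_pos.ne'
  have hN0 : (Nat.card ↥N : ℂ) ≠ 0 := by exact_mod_cast Nat.card_pos.ne'
  have hQ0 : (Nat.card (G ⧸ N) : ℂ) ≠ 0 := by exact_mod_cast Nat.card_pos.ne'
  have hcard : (Nat.card G : ℂ) = (Nat.card (G ⧸ N) : ℂ) * (Nat.card ↥N : ℂ) := by
    rw [Subgroup.card_eq_card_quotient_mul_card_subgroup N]; push_cast; rfl
  have horth : ∀ g : G, ∑ β : IrrCharacter (G ⧸ N), (β : G ⧸ N → ℂ) 1 *
      conj ((β : G ⧸ N → ℂ) (g : G ⧸ N)) = if g ∈ N then (Nat.card (G ⧸ N) : ℂ) else 0 := by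
    intro g
    have h := irr_second_orthogonality (1 : G ⧸ N) (g : G ⧸ N)
    rw [finsum_eq_sum_of_fintype] at h
    rw [h]
    by_cases hg : g ∈ N
    · have h1 : (g : G ⧸ N) = 1 := (QuotientGroup.eq_one_iff g).2 hg
      rw [if_pos hg, h1, if_pos (IsConj.refl _)]
      have : Subgroup.centralizer ({(1 : G ⧸ N)} : Set (G ⧸ N)) = ⊤ := by
        ext x
        simp [Subgroup.mem_centralizer_iff]
      rw [this, Subgroup.card_top]
    · rw [if_neg hg, if_neg]
      intro hc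
      apply hg
      have := isConj_one_right.1 hc
      exact (QuotientGroup.eq_one_iff g).1 this
  have hrhs : ∑ β : IrrCharacter (G ⧸ N), (β : G ⧸ N → ℂ) 1 *
      classInner F (Helper79.inflate N β : G → ℂ) =
      (Nat.card G : ℂ)⁻¹ * ∑ g : G, F g * ∑ β : IrrCharacter (G ⧸ N), (β : G ⧸ N → ℂ) 1 *
        conj ((β : G ⧸ N → ℂ) (g : G ⧸ N)) := by
    unfold classInner
    simp only [Finset.mul_sum, Helper79.inflate_apply]
    rw [Finset.sum_comm]
    apply Finset.sum_congr rfl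
    intro g _
    apply Finset.sum_congr rfl
    intro β _
    ring
  rw [hrhs]
  simp only [horth, mul_ite, mul_zero]
  rw [← Finset.sum_filter, Finset.sum_subtype (Finset.univ.filter (fun g : G => g ∈ N))
    (p := fun g : G => g ∈ N) (by simp)]
  rw [← Finset.sum_mul, hcard]
  field_simp

open Classical in
/-- The parity lemma: for real-valued `χ₁, χ₂ ∈ Irr(G)` and `N` of odd index,
`⟨χ₁|_N, χ₂|_N⟩ ≡ ⟨χ₁, χ₂⟩ (mod 2)`. -/
theorem restrict_inner_parity [Fintype G] [Fintype ↥N] (hodd : Odd N.index)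
    (χ₁ χ₂ : IrrCharacter G) (h₁ : ∀ g : G, ((χ₁ : G → ℂ) g).im = 0)
    (h₂ : ∀ g : G, ((χ₂ : G → ℂ) g).im = 0) :
    ∃ a : ℕ, (Nat.card ↥N : ℂ)⁻¹ * ∑ n : ↥N, (χ₁ : G → ℂ) n * (χ₂ : G → ℂ) n = (a : ℂ) ∧
      (a : ZMod 2) = if χ₁ = χ₂ then 1 else 0 := by
  have := Fintype.ofFinite (IrrCharacter (G ⧸ N))
  have hoddQ : Odd (Nat.card (G ⧸ N)) := by rw [← Subgroup.index_eq_card]; exact hodd
  set P : G → ℂ := (χ₁ : G → ℂ) * (χ₂ : G → ℂ) with hP
  have hPch : IsCharacter G P :=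
    Helper3.isCharacter_mul (isCharacter_of_irr χ₁.2) (isCharacter_of_irr χ₂.2)
  have hPreal : ∀ g : G, conj (P g) = P g := by
    intro g
    rw [hP, Pi.mul_apply, map_mul, Complex.conj_eq_iff_im.2 (h₁ g), Complex.conj_eq_iff_im.2 (h₂ g)]
  have hex : ∀ β : IrrCharacter (G ⧸ N), ∃ k : ℕ,
      classInner P (Helper79.inflate N β : G → ℂ) = (k : ℂ) := fun β =>
    Helper81.exists_nat_classInner_char hPch (isCharacter_of_irr (Helper79.inflate N β).2)
  choose m hm using hex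
  -- conjugation invariance of the multiplicities
  have hmconj : ∀ β : IrrCharacter (G ⧸ N), m (cconjIrr β) = m β := by
    intro β
    have h1 : classInner P (Helper79.inflate N (cconjIrr β) : G → ℂ) =
        conj (classInner P (Helper79.inflate N β : G → ℂ)) := by
      unfold classInner
      rw [map_mul, map_inv₀, Complex.conj_natCast, map_sum]
      congr 1
      apply Finset.sum_congr rfl
      intro g _
      rw [map_mul, hPreal g, Helper79.inflate_apply, cconjIrr_apply, Helper79.inflate_apply]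
    rw [hm, hm, Complex.conj_natCast] at h1
    exact_mod_cast h1
  -- the multiplicity of the trivial character
  have hmtriv : m (trivialIrr (G ⧸ N)) = if χ₁ = χ₂ then 1 else 0 := by
    have h1 : classInner P (Helper79.inflate N (trivialIrr (G ⧸ N)) : G → ℂ) =
        classInner (χ₁ : G → ℂ) (χ₂ : G → ℂ) := by
      unfold classInner
      congr 1
      apply Finset.sum_congr rfl
      intro g _
      rw [Helper79.inflate_apply, trivialIrr_apply, map_one, mul_one, hP, Pi.mul_apply,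
        Complex.conj_eq_iff_im.2 (h₂ g)]
    rw [hm, classInner_irr] at h1
    split_ifs at h1 ⊢ with hc
    · exact_mod_cast h1
    · exact_mod_cast h1
  refine ⟨∑ β : IrrCharacter (G ⧸ N), charDegree (β : G ⧸ N → ℂ) * m β, ?_, ?_⟩
  · have h0 := restrict_avg_eq_sum_inflate N P
    simp only [hP, Pi.mul_apply] at h0
    rw [h0]
    push_cast
    apply Finset.sum_congr rfl
    intro β _
    rw [irr_one, ← hm β]
  · push_cast
    rw [← Finset.add_sum_erase Finset.univ _ (Finset.mem_univ (trivialIrr (G ⧸ N)))]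
    have hz : ∑ β ∈ Finset.univ.erase (trivialIrr (G ⧸ N)),
        ((charDegree (β : G ⧸ N → ℂ) : ZMod 2) * (m β : ZMod 2)) = 0 := by
      refine Finset.sum_involution (fun β _ => cconjIrr β) ?_ ?_ ?_ (fun β _ => cconjIrr_cconjIrr β)
      · intro β _
        rw [charDegree_cconjIrr, hmconj]
        exact CharTwo.add_self_eq_zero _
      · intro β hβ _ heq
        have hne := Finset.ne_of_mem_erase hβ
        exact hne (irr_trivial_of_real_of_odd hoddQ β ((cconjIrr_eq_self_iff β).1 heq))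
      · intro β hβ
        have hne := Finset.ne_of_mem_erase hβ
        refine Finset.mem_erase.2 ⟨?_, Finset.mem_univ _⟩
        intro h
        apply hne
        have h2 := congrArg cconjIrr h
        rw [cconjIrr_cconjIrr] at h2
        rw [h2]
        apply Subtype.ext
        funext q
        simp [trivialIrr_apply]
    rw [hz, add_zero, hmtriv]
    have hd1 : charDegree (trivialIrr (G ⧸ N) : G ⧸ N → ℂ) = 1 := by
      unfold charDegree
      simp [trivialIrr_apply]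
    rw [hd1]
    split_ifs <;> simp

/-- For `N` of odd index, at most one real-valued irreducible character of `G` lies over a given
irreducible character of `N`. -/
theorem real_over_unique [Fintype G] [Fintype ↥N] (hodd : Odd N.index) (φ : IrrCharacter ↥N)
    (χ₁ χ₂ : IrrCharacter G) (h₁ : ∀ g : G, ((χ₁ : G → ℂ) g).im = 0)
    (h₂ : ∀ g : G, ((χ₂ : G → ℂ) g).im = 0)
    (hne₁ : classInner (fun n : ↥N => (χ₁ : G → ℂ) n) (φ : ↥N → ℂ) ≠ 0)
    (hne₂ : classInner (fun n : ↥N => (χ₂ : G → ℂ) n) (φ : ↥N → ℂ) ≠ 0) : χ₁ = χ₂ := by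
  classical
  set S : ↥N → ℂ := ∑ᶠ ψ ∈ Helper81.conjSet N hN (φ : ↥N → ℂ), ψ with hS
  have hcl₁ := Helper81.clifford N hN χ₁.2 φ.2 hne₁
  have hcl₂ := Helper81.clifford N hN χ₂.2 φ.2 hne₂
  rw [← hS] at hcl₁ hcl₂
  have hSch : IsCharacter ↥N S := by
    have hfin := Helper81.conjSet_finite N hN (φ : ↥N → ℂ)
    rw [hS, finsum_mem_eq_finite_toFinset_sum _ hfin]
    apply Helper81.isCharacter_sum
    intro ψ hψ
    rw [Set.Finite.mem_toFinset] at hψ
    obtain ⟨g, rfl⟩ := hψ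
    exact isCharacter_of_irr (Helper81.conjFun_isIrrCharacter N hN φ.2 g)
  obtain ⟨c, hc⟩ := Helper81.exists_nat_classInner_char hSch hSch
  obtain ⟨k₁, hk₁⟩ := Helper81.exists_nat_classInner
    (Helper81.isCharacter_restrict N (isCharacter_of_irr χ₁.2)) φ.2
  obtain ⟨k₂, hk₂⟩ := Helper81.exists_nat_classInner
    (Helper81.isCharacter_restrict N (isCharacter_of_irr χ₂.2)) φ.2
  rw [hk₁] at hcl₁
  rw [hk₂] at hcl₂
  -- averages of products over `N`
  have havg : ∀ (ψ₁ ψ₂ : IrrCharacter G) (j₁ j₂ : ℕ)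
      (_ : (fun n : ↥N => (ψ₁ : G → ℂ) n) = (j₁ : ℂ) • S)
      (_ : (fun n : ↥N => (ψ₂ : G → ℂ) n) = (j₂ : ℂ) • S)
      (_ : ∀ g : G, ((ψ₂ : G → ℂ) g).im = 0),
      (Nat.card ↥N : ℂ)⁻¹ * ∑ n : ↥N, (ψ₁ : G → ℂ) n * (ψ₂ : G → ℂ) n =
        ((j₁ * j₂ * c : ℕ) : ℂ) := by
    intro ψ₁ ψ₂ j₁ j₂ e₁ e₂ hr
    have h1 : (Nat.card ↥N : ℂ)⁻¹ * ∑ n : ↥N, (ψ₁ : G → ℂ) n * (ψ₂ : G → ℂ) n =
        classInner (fun n : ↥N => (ψ₁ : G → ℂ) n) (fun n : ↥N => (ψ₂ : G → ℂ) n) := by
      unfold classInner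
      congr 1
      apply Finset.sum_congr rfl
      intro n _
      rw [Complex.conj_eq_iff_im.2 (hr n)]
    rw [h1, e₁, e₂, Helper81.classInner_smul_left, Helper81.classInner_smul_right, hc,
      Complex.conj_natCast]
    push_cast
    ring
  obtain ⟨a₁, ha₁, hp₁⟩ := restrict_inner_parity N hodd χ₁ χ₁ h₁ h₁
  obtain ⟨a₂, ha₂, hp₂⟩ := restrict_inner_parity N hodd χ₂ χ₂ h₂ h₂
  obtain ⟨a₃, ha₃, hp₃⟩ := restrict_inner_parity N hodd χ₁ χ₂ h₁ h₂
  rw [havg χ₁ χ₁ k₁ k₁ hcl₁ hcl₁ h₁] at ha₁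
  rw [havg χ₂ χ₂ k₂ k₂ hcl₂ hcl₂ h₂] at ha₂
  rw [havg χ₁ χ₂ k₁ k₂ hcl₁ hcl₂ h₂] at ha₃
  have e₁ : k₁ * k₁ * c = a₁ := by exact_mod_cast ha₁
  have e₂ : k₂ * k₂ * c = a₂ := by exact_mod_cast ha₂
  have e₃ : k₁ * k₂ * c = a₃ := by exact_mod_cast ha₃
  rw [← e₁, if_pos rfl] at hp₁
  rw [← e₂, if_pos rfl] at hp₂
  rw [← e₃] at hp₃
  by_contra hne
  rw [if_neg hne] at hp₃
  push_cast at hp₁ hp₂ hp₃
  have h5 : ((k₁ : ZMod 2) * k₁ * c) * ((k₂ : ZMod 2) * k₂ * c) =
      ((k₁ : ZMod 2) * k₂ * c) * ((k₁ : ZMod 2) * k₂ * c) := by ring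
  rw [hp₁, hp₂, hp₃] at h5
  simp at h5

/-- For `N ⊴ G` of odd index, an irreducible character of `N` with Frobenius–Schur indicator `1`
lies under exactly one irreducible character of `G` with indicator `1`. -/
theorem exists_unique_fs_one_over [Fintype G] [Fintype ↥N] (hodd : Odd N.index)
    (φ : IrrCharacter ↥N)
    (hφ : (Nat.card ↥N : ℂ)⁻¹ * ∑ u : ↥N, (φ : ↥N → ℂ) (u * u) = 1) :
    ∃! χ : IrrCharacter G, (Nat.card G : ℂ)⁻¹ * ∑ u : G, (χ : G → ℂ) (u * u) = 1 ∧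
      classInner (fun n : ↥N => (χ : G → ℂ) n) (φ : ↥N → ℂ) ≠ 0 := by
  classical
  have := Fintype.ofFinite (IrrCharacter G)
  have hE := fs_restrict_sum N hodd φ
  rw [hφ, map_one] at hE
  have hreal : ∀ χ : IrrCharacter G, (Nat.card G : ℂ)⁻¹ * ∑ u : G, (χ : G → ℂ) (u * u) ≠ 0 →
      ∀ g : G, ((χ : G → ℂ) g).im = 0 := by
    intro χ hν
    by_contra hnr
    push Not at hnr
    exact hν ((irr_fs χ).2.1.2 hnr)
  obtain ⟨χ₁, hχ₁⟩ : ∃ χ : IrrCharacter G,
      conj ((Nat.card G : ℂ)⁻¹ * ∑ u : G, (χ : G → ℂ) (u * u)) *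
        classInner (fun n : ↥N => (χ : G → ℂ) n) (φ : ↥N → ℂ) ≠ 0 := by
    by_contra h
    push Not at h
    rw [Finset.sum_eq_zero (fun χ _ => h χ)] at hE
    exact zero_ne_one hE
  have hν₁ : (Nat.card G : ℂ)⁻¹ * ∑ u : G, (χ₁ : G → ℂ) (u * u) ≠ 0 := by
    intro h
    apply hχ₁
    rw [h, map_zero, zero_mul]
  have he₁ : classInner (fun n : ↥N => (χ₁ : G → ℂ) n) (φ : ↥N → ℂ) ≠ 0 := by
    intro h
    apply hχ₁
    rw [h, mul_zero]
  have huniq : ∀ χ : IrrCharacter G,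
      (Nat.card G : ℂ)⁻¹ * ∑ u : G, (χ : G → ℂ) (u * u) ≠ 0 →
      classInner (fun n : ↥N => (χ : G → ℂ) n) (φ : ↥N → ℂ) ≠ 0 → χ = χ₁ := by
    intro χ hν he
    exact real_over_unique N hodd φ χ χ₁ (hreal χ hν) (hreal χ₁ hν₁) he he₁
  rw [Finset.sum_eq_single χ₁] at hE
  · obtain ⟨k, hk⟩ := Helper81.exists_nat_classInner
      (Helper81.isCharacter_restrict N (isCharacter_of_irr χ₁.2)) φ.2
    have hν1 : (Nat.card G : ℂ)⁻¹ * ∑ u : G, (χ₁ : G → ℂ) (u * u) = 1 := by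
      rcases (irr_fs χ₁).1 with h | h | h
      · exact absurd h hν₁
      · exact h
      · exfalso
        rw [h, hk] at hE
        simp only [map_neg, map_one, neg_mul, one_mul] at hE
        have h2 : ((k + 1 : ℕ) : ℂ) = 0 := by
          push_cast
          rw [← hE]
          ring
        have h3 : k + 1 = 0 := by exact_mod_cast h2
        omega
    refine ⟨χ₁, ⟨hν1, he₁⟩, ?_⟩
    rintro χ ⟨hν, he⟩
    apply huniq χ _ he
    rw [hν]
    exact one_ne_zero
  · intro χ _ hne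
    by_contra hterm
    apply hne
    apply huniq χ
    · intro h
      apply hterm
      rw [h, map_zero, zero_mul]
    · intro h
      apply hterm
      rw [h, mul_zero]
  · intro h
    exact absurd (Finset.mem_univ _) h

end OddIndex

end Cfsg.Agent.Helper80
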