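import Mathlib
import Cfsg.Agent.Lib.Helper79.GroupAux

/-!
# Winter's theorem, part A: arithmetic and the permutation-group lemma

`Good p n`: `n` is divisible by a prime power `q > 1` with `q ≡ -1, 0, 1 (mod p)`.
-/

set_option autoImplicit false

namespace Cfsg.Agent.Helper80.WinterA

/-- the conclusion of Winter's theorem -/
def Good (p n : ℕ) : Prop :=
  ∃ q : ℕ, IsPrimePow q ∧ q ∣ n ∧
    ((q : ℤ) ≡ -1 [ZMOD p] ∨ (q : ℤ) ≡ 0 [ZMOD p] ∨ (q : ℤ) ≡ 1 [ZMOD p])

theorem Good.of_dvd {p m n : ℕ} (h : Good p m) (hmn : m ∣ n) : Good p n := by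
  obtain ⟨q, hq, hqm, hc⟩ := h
  exact ⟨q, hq, hqm.trans hmn, hc⟩

theorem good_self_pow {p i n : ℕ} (hp : p.Prime) (hi : 1 ≤ i) (h : p ^ i ∣ n) : Good p n := by
  refine ⟨p ^ i, ?_, h, Or.inr (Or.inl ?_)⟩
  · exact (hp.isPrimePow).pow (by omega)
  · push_cast
    rw [Int.modEq_zero_iff_dvd]
    exact dvd_pow_self _ (by omega)

theorem good_of_modEq_one {p r i n : ℕ} (hr : r.Prime) (hi : 1 ≤ i) (h1 : r ^ i ≡ 1 [MOD p])
    (h : r ^ i ∣ n) : Good p n := by
  refine ⟨r ^ i, (hr.isPrimePow).pow (by omega), h, Or.inr (Or.inr ?_)⟩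
  have := (Int.natCast_modEq_iff).2 h1
  simpa using this

theorem good_of_pow_modEq {p r b c n : ℕ} (hp : p.Prime) (hr : r.Prime) (hpr : p ≠ r) (hcb : c < b)
    (h : r ^ b ≡ r ^ c [MOD p]) (hd : r ^ b ∣ n) : Good p n := by
  have hb : r ^ b = r ^ c * r ^ (b - c) := by
    rw [← pow_add]; congr 1; omega
  have hcop : Nat.Coprime p (r ^ c) := by
    apply Nat.Coprime.pow_right
    exact (Nat.coprime_primes hp hr).2 hpr
  have h2 : r ^ c * r ^ (b - c) ≡ r ^ c * 1 [MOD p] := by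
    rw [← hb, mul_one]; exact h
  have h3 : r ^ (b - c) ≡ 1 [MOD p] :=
    Nat.ModEq.cancel_left_of_coprime hcop h2
  exact good_of_modEq_one hr (by omega) h3 (dvd_trans ⟨r ^ c, by rw [hb]; ring⟩ hd)

theorem good_of_sq_modEq {p r i n : ℕ} (hp : p.Prime) (hr : r.Prime) (hi : 1 ≤ i)
    (h : r ^ (2 * i) ≡ 1 [MOD p]) (hd : r ^ i ∣ n) : Good p n := by
  refine ⟨r ^ i, (hr.isPrimePow).pow (by omega), hd, ?_⟩
  have h1 : ((r ^ (2 * i) : ℕ) : ℤ) ≡ ((1 : ℕ) : ℤ) [ZMOD p] := (Int.natCast_modEq_iff).2 h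
  have h2 : (p : ℤ) ∣ ((r : ℤ) ^ i - 1) * ((r : ℤ) ^ i + 1) := by
    have := (Int.modEq_iff_dvd.1 h1.symm)
    push_cast at this
    convert this using 1
    ring
  have hp' : Prime (p : ℤ) := Nat.prime_iff_prime_int.1 hp
  rcases hp'.dvd_or_dvd h2 with h3 | h3
  · right; right
    push_cast
    exact (Int.modEq_iff_dvd.2 h3).symm
  · left
    push_cast
    apply Int.ModEq.symm
    rw [Int.modEq_iff_dvd, sub_neg_eq_add]
    exact h3

section Group

variable {X : Type*} [Group X]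

theorem isPGroup_zpowers_of_pow_eq_one {p : ℕ} {x : X} {k : ℕ} (h : x ^ p ^ k = 1) :
    IsPGroup p (Subgroup.zpowers x) := by
  rintro ⟨y, hy⟩
  obtain ⟨m, rfl⟩ := Subgroup.mem_zpowers_iff.1 hy
  refine ⟨k, ?_⟩
  apply Subtype.ext
  simp only [Subgroup.coe_pow, Subgroup.coe_one]
  rw [← zpow_natCast, ← zpow_mul, mul_comm, zpow_mul, zpow_natCast, h, one_zpow]

/-- Conjugation action of a subgroup `N` of the normalizer of `A` on `A`. -/
@[reducible] def conjActOn (A N : Subgroup X) (hN : N ≤ Subgroup.normalizer (A : Set X)) :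
    MulAction N A where
  smul g a := ⟨(g : X) * (a : X) * (g : X)⁻¹, (Subgroup.mem_normalizer_iff.mp (hN g.2) a).mp a.2⟩
  one_smul a := by
    apply Subtype.ext
    show ((1 : N) : X) * (a : X) * ((1 : N) : X)⁻¹ = a
    simp
  mul_smul g g' a := by
    apply Subtype.ext
    show ((g * g' : N) : X) * (a : X) * ((g * g' : N) : X)⁻¹ =
      (g : X) * ((g' : X) * (a : X) * (g' : X)⁻¹) * (g : X)⁻¹
    rw [Subgroup.coe_mul]
    group

/-- A `p`-element `f` normalizing the finite subgroup `A`: `|A| ≡ |C_A(f)| (mod p)`. -/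
theorem card_modEq_card_inf_centralizer (A : Subgroup X) [Finite A] (f : X)
    (hf : f ∈ Subgroup.normalizer (A : Set X)) (p : ℕ) [Fact p.Prime]
    (hp : IsPGroup p (Subgroup.zpowers f)) :
    Nat.card A ≡ Nat.card (A ⊓ Subgroup.centralizer ({f} : Set X) : Subgroup X) [MOD p] := by
  have hN : Subgroup.zpowers f ≤ Subgroup.normalizer (A : Set X) := Subgroup.zpowers_le.mpr hf
  let _ : MulAction (Subgroup.zpowers f) A := conjActOn A (Subgroup.zpowers f) hN
  have h1 := hp.card_modEq_card_fixedPoints (α := A)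
  have hsmul : ∀ (g : Subgroup.zpowers f) (a : A), ((g • a : A) : X) = (g : X) * a * (g : X)⁻¹ :=
    fun g a => rfl
  have e : MulAction.fixedPoints (Subgroup.zpowers f) A ≃
      (A ⊓ Subgroup.centralizer ({f} : Set X) : Subgroup X) :=
    { toFun := fun x => ⟨(x.1 : X), x.1.2, by
        show (x.1 : X) ∈ Subgroup.centralizer ({f} : Set X)
        rw [Subgroup.mem_centralizer_singleton_iff]
        have := x.2 ⟨f, Subgroup.mem_zpowers f⟩
        have h2 := congrArg (fun y : A => (y : X)) this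
        simp only [hsmul] at h2
        calc (x.1 : X) * f = (f * (x.1 : X) * f⁻¹) * f := by rw [h2]
          _ = f * (x.1 : X) := by group⟩
      invFun := fun y => ⟨⟨(y : X), y.2.1⟩, by
        intro g
        apply Subtype.ext
        rw [hsmul]
        have hle : Subgroup.zpowers f ≤ Subgroup.centralizer ({(y : X)} : Set X) := by
          rw [Subgroup.zpowers_le, Subgroup.mem_centralizer_singleton_iff]
          exact (Subgroup.mem_centralizer_singleton_iff.mp y.2.2).symm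
        have := Subgroup.mem_centralizer_singleton_iff.mp (hle g.2)
        show (g : X) * (y : X) * (g : X)⁻¹ = (y : X)
        rw [this]; group⟩
      left_inv := fun x => by apply Subtype.ext; apply Subtype.ext; rfl
      right_inv := fun y => by apply Subtype.ext; rfl }
  rw [Nat.card_congr e] at h1
  exact h1

/-- a `p`-element is conjugate into any subgroup of index prime to `p` -/
theorem exists_conj_mem_of_not_dvd_index [Finite X] {p : ℕ} [Fact p.Prime] (H : Subgroup X)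
    (hH : ¬ p ∣ H.index) (x : X) (hx : IsPGroup p (Subgroup.zpowers x)) :
    ∃ y : X, y⁻¹ * x * y ∈ H := by
  let _ : MulAction (Subgroup.zpowers x) (X ⧸ H) := MulAction.compHom (X ⧸ H) (Subgroup.zpowers x).subtype
  have hne := hx.nonempty_fixed_point_of_prime_not_dvd_card (X ⧸ H)
    (by rwa [← Subgroup.index_eq_card])
  obtain ⟨c, hc⟩ := hne
  obtain ⟨y, rfl⟩ := QuotientGroup.mk_surjective c
  refine ⟨y, ?_⟩
  have h1 := hc ⟨x, Subgroup.mem_zpowers x⟩
  have h2 : ((x * y : X) : X ⧸ H) = (y : X ⧸ H) := h1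
  rw [QuotientGroup.eq] at h2
  have h3 := H.inv_mem h2
  convert h3 using 1
  group

/-- a nontrivial finite solvable group has a nontrivial normal abelian `r`-subgroup -/
theorem exists_normal_abelian_pgroup [Finite X] [Nontrivial X] (hs : Group.IsSolvable X) :
    ∃ (r : ℕ) (A : Subgroup X), r.Prime ∧ A.Normal ∧ A ≠ ⊥ ∧
      (∀ a ∈ A, ∀ b ∈ A, a * b = b * a) ∧ IsPGroup r A := by
  classical
  obtain ⟨A₀, hA₀n, hA₀1, hA₀c⟩ : ∃ A : Subgroup X, A.Normal ∧ A ≠ ⊥ ∧
      ∀ x ∈ A, ∀ y ∈ A, x * y = y * x := by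
    have hex := hs.solvable
    have hmin : ∀ m, m < Nat.find hex → ¬ derivedSeries X m = ⊥ := fun m hm => Nat.find_min hex hm
    have hspec := Nat.find_spec hex
    set n := Nat.find hex with hn
    have hn0 : n ≠ 0 := by
      intro h0
      rw [h0, derivedSeries_zero] at hspec
      exact top_ne_bot hspec
    obtain ⟨m, hm⟩ : ∃ m, n = m + 1 := ⟨n - 1, by omega⟩
    refine ⟨derivedSeries X m, derivedSeries_normal X m, ?_, ?_⟩
    · intro h
      exact hmin m (by omega) h
    · intro x hx y hy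
      rw [hm, derivedSeries_succ, Subgroup.commutator_eq_bot_iff_le_centralizer] at hspec
      have := hspec hx
      rw [Subgroup.mem_centralizer_iff] at this
      exact (this y hy).symm
  have hcard : Nat.card A₀ ≠ 1 := by
    intro h
    exact hA₀1 (Subgroup.card_eq_one.1 h)
  set r := (Nat.card A₀).minFac with hr
  have hrp : r.Prime := Nat.minFac_prime hcard
  have : Fact r.Prime := ⟨hrp⟩
  let A : Subgroup X :=
    { carrier := {a | a ∈ A₀ ∧ ∃ k : ℕ, a ^ r ^ k = 1}
      one_mem' := ⟨A₀.one_mem, 0, by simp⟩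
      mul_mem' := by
        rintro a b ⟨ha, k, hk⟩ ⟨hb, l, hl⟩
        refine ⟨A₀.mul_mem ha hb, k + l, ?_⟩
        have hc : Commute a b := hA₀c a ha b hb
        rw [hc.mul_pow, pow_add, pow_mul, hk, one_pow, mul_comm (r ^ k), pow_mul, hl, one_pow,
          one_mul]
      inv_mem' := by
        rintro a ⟨ha, k, hk⟩
        exact ⟨A₀.inv_mem ha, k, by rw [inv_pow, hk, inv_one]⟩ }
  have hmemA : ∀ a, a ∈ A ↔ a ∈ A₀ ∧ ∃ k : ℕ, a ^ r ^ k = 1 := fun a => Iff.rfl
  refine ⟨r, A, hrp, ?_, ?_, ?_, ?_⟩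
  · constructor
    intro a ha g
    rw [hmemA] at ha ⊢
    obtain ⟨ha, k, hk⟩ := ha
    refine ⟨hA₀n.conj_mem a ha g, k, ?_⟩
    rw [conj_pow, hk, mul_one, mul_inv_cancel]
  · obtain ⟨x, hx⟩ := exists_prime_orderOf_dvd_card' (G := A₀) r (Nat.minFac_dvd _)
    intro hbot
    have hxA : (x : X) ∈ A := by
      rw [hmemA]
      refine ⟨x.2, 1, ?_⟩
      rw [pow_one, ← Subgroup.coe_pow, ← hx, pow_orderOf_eq_one, Subgroup.coe_one]
    rw [hbot, Subgroup.mem_bot] at hxA
    have : x = 1 := Subtype.ext hxA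
    rw [this, orderOf_one] at hx
    exact hrp.one_lt.ne hx
  · intro a ha b hb
    exact hA₀c a ha.1 b hb.1
  · rintro ⟨a, ha⟩
    obtain ⟨k, hk⟩ := ha.2
    exact ⟨k, Subtype.ext hk⟩

end Group

end Cfsg.Agent.Helper80.WinterA
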