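import Mathlib

/-!
# Shult–Gross piece (ORB) for helper31 (S3793): semiregular permutations
-/

set_option autoImplicit false

namespace Cfsg.Agent.Helper80.SG

/-- (ORB) a permutation `σ` with `σ ^ P = 1`, fixing `a₀`, all of whose powers `σ ^ k`, `0 < k < P`,
fix no other point: `P ∣ |α| - 1`. -/
theorem sg_semiregular_dvd {α : Type*} [Finite α] (σ : Equiv.Perm α) (P : ℕ) (hP : 0 < P)
    (hσP : σ ^ P = 1) (a₀ : α) (h₀ : σ a₀ = a₀)
    (hfix : ∀ k, 0 < k → k < P → ∀ a, (σ ^ k) a = a → a = a₀) : P ∣ Nat.card α - 1 := by
  classical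
  have : Fintype α := Fintype.ofFinite α
  have hfin : IsOfFinOrder σ := isOfFinOrder_of_finite σ
  have hnpos : 0 < orderOf σ := hfin.orderOf_pos
  have hnP : orderOf σ ∣ P := orderOf_dvd_of_pow_eq_one hσP
  have hnle : orderOf σ ≤ P := Nat.le_of_dvd hP hnP
  rcases lt_or_eq_of_le hnle with hlt | heq
  · -- every point is fixed by `σ ^ orderOf σ = 1`
    have hall : ∀ a : α, a = a₀ := by
      intro a
      apply hfix (orderOf σ) hnpos hlt a
      rw [pow_orderOf_eq_one]
      rfl
    have hsub : Subsingleton α := ⟨fun a b => (hall a).trans (hall b).symm⟩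
    have hne : Nonempty α := ⟨a₀⟩
    have : Nat.card α = 1 := Nat.card_eq_one_iff_unique.2 ⟨hsub, hne⟩
    rw [this]
    exact dvd_zero P
  · have : Fintype (Subgroup.zpowers σ) := Fintype.ofFinite _
    have : Fintype (MulAction.orbitRel.Quotient (Subgroup.zpowers σ) α) := Fintype.ofFinite _
    have hcard : Fintype.card (Subgroup.zpowers σ) = P := by
      rw [← Nat.card_eq_fintype_card, Nat.card_zpowers, heq]
    have hB := MulAction.sum_card_fixedBy_eq_card_orbits_mul_card_group (Subgroup.zpowers σ) α
    rw [hcard] at hB
    have hterm : ∀ τ : Subgroup.zpowers σ, Fintype.card (MulAction.fixedBy α τ) =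
        if τ = 1 then Fintype.card α else 1 := by
      intro τ
      split_ifs with hτ
      · subst hτ
        have : MulAction.fixedBy α (1 : Subgroup.zpowers σ) = Set.univ :=
          MulAction.fixedBy_one_eq_univ _ _
        rw [Fintype.card_congr (Equiv.setCongr this)]
        exact Fintype.card_congr (Equiv.Set.univ α)
      · rw [Fintype.card_eq_one_iff]
        have hx₀ : ∀ τ' : Subgroup.zpowers σ, τ' • a₀ = a₀ := by
          intro τ'
          have hle : Subgroup.zpowers σ ≤ MulAction.stabilizer (Equiv.Perm α) a₀ := by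
            rw [Subgroup.zpowers_le]
            exact h₀
          exact hle τ'.2
        refine ⟨⟨a₀, hx₀ τ⟩, ?_⟩
        rintro ⟨x, hx⟩
        apply Subtype.ext
        show x = a₀
        obtain ⟨τ, hτmem⟩ := τ
        rw [mem_zpowers_iff_mem_range_orderOf, Finset.mem_image] at hτmem
        obtain ⟨k, hk, hkτ⟩ := hτmem
        rw [Finset.mem_range, heq] at hk
        have hk0 : 0 < k := by
          rcases Nat.eq_zero_or_pos k with h0 | h0
          · exfalso
            apply hτ
            apply Subtype.ext
            show τ = 1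
            rw [← hkτ, h0, pow_zero]
          · exact h0
        apply hfix k hk0 hk x
        have hx' : τ x = x := hx
        rw [← hkτ] at hx'
        exact hx'
    simp only [hterm] at hB
    rw [Finset.sum_ite, Finset.sum_const, Finset.sum_const] at hB
    have h1 : (Finset.univ.filter (fun τ : Subgroup.zpowers σ => τ = 1)).card = 1 := by
      rw [Finset.card_eq_one]
      exact ⟨1, by ext τ; simp⟩
    have h2 : (Finset.univ.filter (fun τ : Subgroup.zpowers σ => ¬ τ = 1)).card = P - 1 := by
      have := Finset.card_filter_add_card_filter_not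
        (s := (Finset.univ : Finset (Subgroup.zpowers σ)))
        (fun τ : Subgroup.zpowers σ => τ = 1)
      rw [h1, Finset.card_univ, hcard] at this
      omega
    rw [h1, h2] at hB
    simp only [smul_eq_mul, one_mul, mul_one] at hB
    rw [Nat.card_eq_fintype_card]
    have hpos : 0 < Fintype.card α := Fintype.card_pos_iff.2 ⟨a₀⟩
    set X := Fintype.card (MulAction.orbitRel.Quotient (Subgroup.zpowers σ) α) with hX
    have h3 : Fintype.card α - 1 = X * P - P := by omega
    rw [h3]
    exact Nat.dvd_sub (Dvd.intro_left X rfl) (dvd_refl P)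

end Cfsg.Agent.Helper80.SG
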