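import Mathlib
import Cfsg.Prelude.Def_Characters
import Cfsg.Agent.Lib.Helper80.CharBasic

/-!
# A multiplicity count for characters vanishing on `2`-elements (helper80)

`sum_mult_eq` : if `φ` is a function on `N ≤ G` vanishing on all nonidentity elements of `N` that
are `G`-conjugate into the subgroup `Q`, then
`∑_χ ⟨χ|_N, φ⟩ · conj ⟨χ|_Q, 1⟩ = |G| conj φ(1) / (|N| |Q|)` (second orthogonality).
-/

set_option autoImplicit false

namespace Cfsg.Agent.Helper80

open Cfsg
open scoped ComplexConjugate

universe u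

section Count

variable {G : Type u} [Group G] [Fintype G]

theorem sum_mult_eq (N : Subgroup G) [Fintype N] (Q : Subgroup G) [Fintype Q]
    [Fintype (IrrCharacter G)] (φ : N → ℂ)
    (hvan : ∀ (n : N) (x : Q), IsConj (n : G) (x : G) → (n : G) ≠ 1 → φ n = 0) :
    ∑ χ : IrrCharacter G, classInner (fun n : N => (χ : G → ℂ) n) φ *
        conj ((Nat.card Q : ℂ)⁻¹ * ∑ x : Q, (χ : G → ℂ) x) =
      (Nat.card N : ℂ)⁻¹ * (Nat.card Q : ℂ)⁻¹ * ((Nat.card G : ℂ) * conj (φ 1)) := by
  classical
  have h2 : ∀ (g h : G), ∑ χ : IrrCharacter G, (χ : G → ℂ) g * conj ((χ : G → ℂ) h) =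
      if IsConj g h then (Nat.card (Subgroup.centralizer ({g} : Set G)) : ℂ) else 0 := by
    intro g h
    rw [← finsum_eq_sum_of_fintype]
    convert irr_second_orthogonality g h
  have hterm : ∀ χ : IrrCharacter G,
      classInner (fun n : N => (χ : G → ℂ) n) φ *
        conj ((Nat.card Q : ℂ)⁻¹ * ∑ x : Q, (χ : G → ℂ) x) =
      (Nat.card N : ℂ)⁻¹ * (Nat.card Q : ℂ)⁻¹ * ∑ n : N, ∑ x : Q,
        conj (φ n) * ((χ : G → ℂ) n * conj ((χ : G → ℂ) x)) := by
    intro χ
    unfold classInner
    rw [map_mul, map_inv₀, Complex.conj_natCast, map_sum, mul_mul_mul_comm]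
    congr 1
    rw [Finset.sum_mul_sum]
    apply Finset.sum_congr rfl
    intro n _
    apply Finset.sum_congr rfl
    intro x _
    ring
  simp only [hterm]
  rw [← Finset.mul_sum]
  congr 1
  rw [Finset.sum_comm]
  have hinner : ∀ n : N, ∑ χ : IrrCharacter G, ∑ x : Q,
      conj (φ n) * ((χ : G → ℂ) n * conj ((χ : G → ℂ) x)) =
      if n = 1 then (Nat.card G : ℂ) * conj (φ 1) else 0 := by
    intro n
    rw [Finset.sum_comm]
    have hx : ∀ x : Q, ∑ χ : IrrCharacter G,
        conj (φ n) * ((χ : G → ℂ) n * conj ((χ : G → ℂ) x)) =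
        if n = 1 ∧ x = 1 then (Nat.card G : ℂ) * conj (φ 1) else 0 := by
      intro x
      rw [← Finset.mul_sum, h2]
      by_cases hc : IsConj (n : G) (x : G)
      · rw [if_pos hc]
        by_cases hn : n = 1
        · have hx1 : x = 1 := by
            rw [hn, Subgroup.coe_one] at hc
            have := isConj_one_right.1 hc
            exact Subtype.ext this
          rw [if_pos ⟨hn, hx1⟩, hn, Subgroup.coe_one]
          have : Subgroup.centralizer ({(1 : G)} : Set G) = ⊤ := by
            rw [Subgroup.centralizer_eq_top_iff_subset]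
            intro y hy
            rw [Set.mem_singleton_iff] at hy
            rw [hy]
            exact Subgroup.one_mem _
          rw [this, Subgroup.card_top, mul_comm]
        · have hn' : (n : G) ≠ 1 := fun h => hn (Subtype.ext h)
          rw [hvan n x hc hn', map_zero, zero_mul, if_neg (fun h => hn h.1)]
      · rw [if_neg hc, mul_zero]
        rw [if_neg]
        rintro ⟨hn, hx1⟩
        apply hc
        rw [hn, hx1]
        exact IsConj.refl _
    simp only [hx]
    by_cases hn : n = 1
    · simp [hn]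
    · simp [hn]
  simp only [hinner]
  simp

end Count

end Cfsg.Agent.Helper80
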