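import Mathlib
import Cfsg.Prelude.Def_Characters
import Cfsg.Agent.Lib.Helper80.DefZeroB
import Cfsg.Agent.Lib.Helper80.ConjIrr
import Cfsg.Agent.Lib.Helper81.CharClifford

/-!
# The parity lemma (helper80, RPD server, S4861)

`exists_real_over_of_count_odd` : `N ⊴ G`, `Q ≤ G` with `N ∩ Q = 1` and `|G| / (|N| |Q|)` odd,
`φ` a linear character of `N` which is `G`-conjugate to its complex conjugate. Then some
real-valued `χ ∈ Irr(G)` lies over `φ`.
-/

set_option autoImplicit false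

namespace Cfsg.Agent.Helper80.RPD

open Cfsg Cfsg.Agent.Helper80
open scoped ComplexConjugate

universe u

/-- (PAR) the parity lemma -/
theorem exists_real_over_of_count_odd {G : Type u} [Group G] [Finite G] (N : Subgroup G)
    [hN : N.Normal] (Q : Subgroup G) (φ : IrrCharacter ↥N) (hNQ : N ⊓ Q = ⊥)
    (hcount : ∃ m : ℕ, Odd m ∧ Nat.card G = m * (Nat.card ↥N * Nat.card ↥Q))
    (hφ1 : (φ : ↥N → ℂ) 1 = 1)
    (hconj : ∃ g : G, ∀ n n' : ↥N, (n' : G) = g * (n : G) * g⁻¹ →
      (φ : ↥N → ℂ) n' = conj ((φ : ↥N → ℂ) n)) :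
    ∃ χ : IrrCharacter G, (∀ g : G, ((χ : G → ℂ) g).im = 0) ∧
      (∑ᶠ n : ↥N, (χ : G → ℂ) n * conj ((φ : ↥N → ℂ) n)) ≠ 0 := by
  classical
  haveI : Fintype G := Fintype.ofFinite G
  haveI : Fintype ↥N := Fintype.ofFinite _
  haveI : Fintype (IrrCharacter G) := @Fintype.ofFinite _ Helper81.irr_finite
  haveI : Fintype ↥Q := Fintype.ofFinite _
  have hvan : ∀ (n : ↥N) (x : ↥Q), IsConj (n : G) (x : G) → (n : G) ≠ 1 →
      (φ : ↥N → ℂ) n = 0 := by
    intro n x hc hn1
    exfalso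
    apply hn1
    obtain ⟨c, hc'⟩ := isConj_iff.1 hc
    have hxN : (x : G) ∈ N := by
      rw [← hc']
      exact hN.conj_mem n n.2 c
    have hx1 : (x : G) = 1 := by
      have : (x : G) ∈ N ⊓ Q := ⟨hxN, x.2⟩
      rw [hNQ] at this
      exact (Subgroup.mem_bot).1 this
    rw [hx1] at hc'
    have h4 : (n : G) = c⁻¹ * 1 * c := by
      rw [← hc']
      group
    rw [h4]
    group
  have hcount' := sum_mult_eq N Q (φ : ↥N → ℂ) hvan
  obtain ⟨m, hmodd, hm⟩ := hcount
  have hN0 : (Nat.card ↥N : ℂ) ≠ 0 := by exact_mod_cast (Nat.card_pos (α := ↥N)).ne'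
  have hQ0 : (Nat.card ↥Q : ℂ) ≠ 0 := by exact_mod_cast (Nat.card_pos (α := ↥Q)).ne'
  have hval : (Nat.card ↥N : ℂ)⁻¹ * (Nat.card ↥Q : ℂ)⁻¹ *
      ((Nat.card G : ℂ) * conj ((φ : ↥N → ℂ) 1)) = (m : ℂ) := by
    rw [hφ1, map_one, hm]
    push_cast
    field_simp
  rw [hval] at hcount'
  -- multiplicities
  have hex : ∀ χ : IrrCharacter G, ∃ k : ℕ,
      classInner (fun n : ↥N => (χ : G → ℂ) n) (φ : ↥N → ℂ) = (k : ℂ) := fun χ =>
    Helper81.exists_nat_classInner (Helper81.isCharacter_restrict N (isCharacter_of_irr χ.2)) φ.2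
  choose e he using hex
  have hax : ∀ χ : IrrCharacter G, ∃ k : ℕ,
      (Nat.card ↥Q : ℂ)⁻¹ * ∑ x : ↥Q, (χ : G → ℂ) x = (k : ℂ) := by
    intro χ
    obtain ⟨k, hk⟩ := Helper81.exists_nat_classInner
      (Helper81.isCharacter_restrict Q (isCharacter_of_irr χ.2))
      (isIrrCharacter_one (G := ↥Q))
    refine ⟨k, ?_⟩
    rw [← hk]
    unfold classInner
    simp
  choose a ha using hax
  have hsumN : ∑ χ : IrrCharacter G, e χ * a χ = m := by
    have : ((∑ χ : IrrCharacter G, e χ * a χ : ℕ) : ℂ) = (m : ℂ) := by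
      rw [← hcount']
      push_cast
      apply Finset.sum_congr rfl
      intro χ _
      rw [he χ, ha χ, Complex.conj_natCast]
    exact_mod_cast this
  obtain ⟨g₀, hg₀⟩ := hconj
  have hea : ∀ χ : IrrCharacter G, e (cconjIrr χ) = e χ := by
    intro χ
    have h1 : classInner (fun n : ↥N => (cconjIrr χ : G → ℂ) n) (φ : ↥N → ℂ) =
        conj (classInner (fun n : ↥N => (χ : G → ℂ) n) (φ : ↥N → ℂ)) := by
      unfold classInner
      rw [map_mul, map_inv₀, Complex.conj_natCast, map_sum]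
      congr 1
      let σ : ↥N ≃ ↥N :=
        { toFun := fun n => ⟨g₀ * n * g₀⁻¹, hN.conj_mem n n.2 g₀⟩
          invFun := fun n => ⟨g₀⁻¹ * n * g₀, by
            have := hN.conj_mem n n.2 g₀⁻¹
            simpa using this⟩
          left_inv := fun n => by
            apply Subtype.ext
            simp [mul_assoc]
          right_inv := fun n => by
            apply Subtype.ext
            simp [mul_assoc] }
      refine Fintype.sum_equiv σ _ _ fun n => ?_
      beta_reduce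
      rw [cconjIrr_apply, map_mul, Complex.conj_conj]
      have h3 : (φ : ↥N → ℂ) (σ n) = conj ((φ : ↥N → ℂ) n) := hg₀ n (σ n) rfl
      have h4 : (χ : G → ℂ) ((σ n : ↥N) : G) = (χ : G → ℂ) (n : G) := irr_conj_class χ (n : G) g₀
      rw [h3, h4]
    rw [he, he, Complex.conj_natCast] at h1
    exact_mod_cast h1
  have haa : ∀ χ : IrrCharacter G, a (cconjIrr χ) = a χ := by
    intro χ
    have h1 : (Nat.card ↥Q : ℂ)⁻¹ * ∑ x : ↥Q, (cconjIrr χ : G → ℂ) x =
        conj ((Nat.card ↥Q : ℂ)⁻¹ * ∑ x : ↥Q, (χ : G → ℂ) x) := by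
      rw [map_mul, map_inv₀, Complex.conj_natCast, map_sum]
      rfl
    rw [ha, ha, Complex.conj_natCast] at h1
    exact_mod_cast h1
  obtain ⟨χ, hχreal, hχodd⟩ : ∃ χ : IrrCharacter G, cconjIrr χ = χ ∧ Odd (e χ * a χ) := by
    by_contra hcon
    push Not at hcon
    have hz : ∑ χ : IrrCharacter G, ((e χ * a χ : ℕ) : ZMod 2) = 0 := by
      refine Finset.sum_involution (fun χ _ => cconjIrr χ) ?_ ?_ ?_
        (fun χ _ => cconjIrr_cconjIrr χ)
      · intro χ _
        rw [hea, haa]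
        exact CharTwo.add_self_eq_zero _
      · intro χ _ hne heq
        apply hne
        have := hcon χ heq
        rw [Nat.not_odd_iff_even] at this
        exact (ZMod.natCast_eq_zero_iff_even).2 this
      · intro χ _
        exact Finset.mem_univ _
    rw [← Nat.cast_sum, hsumN] at hz
    have := (ZMod.natCast_eq_zero_iff_even).1 hz
    exact (Nat.not_even_iff_odd.2 hmodd) this
  obtain ⟨heodd, -⟩ := Nat.odd_mul.1 hχodd
  refine ⟨χ, (cconjIrr_eq_self_iff χ).1 hχreal, ?_⟩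
  rw [finsum_eq_sum_of_fintype]
  have h5 := he χ
  unfold classInner at h5
  intro h0
  rw [h0, mul_zero] at h5
  have : e χ = 0 := by exact_mod_cast h5.symm
  rw [this] at heodd
  exact (Nat.not_odd_iff_even.2 (Even.zero)) heodd

end Cfsg.Agent.Helper80.RPD
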