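import Mathlib
import Cfsg.Agent.Lib.Helper79.Scalar
import Cfsg.Agent.Lib.Helper79.LinearDeg
import Cfsg.Agent.Lib.Helper79.LinearChars
import Cfsg.Agent.Lib.Helper79.Inflation
import Cfsg.Agent.Lib.Helper79.Restrict

set_option autoImplicit false
set_option linter.unusedSectionVars false
set_option linter.unusedVariables false
set_option linter.style.haveILetI false
set_option linter.deprecated false

namespace Cfsg.Agent.Helper80.GalDeg

open Cfsg Cfsg.Agent.Helper79

universe u

/-- same-degree nonlinear irreducible characters are Galois conjugate (power-map form) -/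
def Hyp (P : Type u) [Group P] [Finite P] : Prop :=
  ∀ χ ψ : IrrCharacter P, charDegree (χ : P → ℂ) ≠ 1 →
    charDegree (χ : P → ℂ) = charDegree (ψ : P → ℂ) →
    ∃ k : ℕ, Nat.Coprime k (Nat.card P) ∧ ∀ g : P, (ψ : P → ℂ) g = (χ : P → ℂ) (g ^ k)

variable {P : Type u} [Group P] [Finite P]

theorem irrKer_eq_of_conj (χ ψ : IrrCharacter P) (k : ℕ) (hk : Nat.Coprime k (Nat.card P))
    (h : ∀ g : P, (ψ : P → ℂ) g = (χ : P → ℂ) (g ^ k)) : irrKer ψ = irrKer χ := by
  have h1 : (ψ : P → ℂ) 1 = (χ : P → ℂ) 1 := by rw [h 1, one_pow]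
  ext g
  rw [mem_irrKer, mem_irrKer, h g, h1]
  constructor
  · intro hg
    have hgk : g ^ k ∈ irrKer χ := hg
    have hcop : Nat.Coprime k (orderOf g) := hk.coprime_dvd_right (orderOf_dvd_natCard g)
    obtain ⟨m, hm⟩ := exists_pow_eq_self_of_coprime hcop
    have h2 : g ∈ irrKer χ := by
      rw [← hm]
      exact Subgroup.pow_mem _ hgk m
    exact h2
  · intro hg
    have h2 : g ∈ irrKer χ := hg
    exact Subgroup.pow_mem _ h2 k

theorem Hyp.same_ker (h : Hyp P) (χ ψ : IrrCharacter P) (h1 : charDegree (χ : P → ℂ) ≠ 1)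
    (h2 : charDegree (χ : P → ℂ) = charDegree (ψ : P → ℂ)) : irrKer ψ = irrKer χ := by
  obtain ⟨k, hk, hkk⟩ := h χ ψ h1 h2
  exact irrKer_eq_of_conj χ ψ k hk hkk

theorem Hyp.quotient (h : Hyp P) (N : Subgroup P) [N.Normal] : Hyp (P ⧸ N) := by
  intro χ ψ hχ hdeg
  obtain ⟨k, hk, hkk⟩ := h (inflate N χ) (inflate N ψ) (by rwa [charDegree_inflate])
    (by rw [charDegree_inflate, charDegree_inflate]; exact hdeg)
  refine ⟨k, ?_, ?_⟩
  · exact hk.coprime_dvd_right (Subgroup.card_quotient_dvd_card N)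
  · intro x
    obtain ⟨g, rfl⟩ := QuotientGroup.mk_surjective x
    have h3 := hkk g
    rw [inflate_apply, inflate_apply] at h3
    rw [h3]
    rfl

/-- vanishing from a central commutator outside the kernel -/
theorem irr_eq_zero_of_comm (χ : IrrCharacter P) (g x c : P) (hc : c ∈ Subgroup.center P)
    (hgx : x⁻¹ * g * x = c * g) (hck : c ∉ irrKer χ) : (χ : P → ℂ) g = 0 := by
  have h1 := irr_central_mul χ c hc g
  have h2 : (χ : P → ℂ) (c * g) = (χ : P → ℂ) g := by
    rw [← hgx]
    have := irr_class χ g x⁻¹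
    rwa [inv_inv] at this
  rw [h2] at h1
  have h3 : ((χ : P → ℂ) 1 - (χ : P → ℂ) c) * (χ : P → ℂ) g = 0 := by
    linear_combination h1
  rcases mul_eq_zero.1 h3 with h | h
  · exfalso
    apply hck
    rw [mem_irrKer]
    exact (sub_eq_zero.1 h).symm
  · exact h

/-- the preimage of the centre of `P ⧸ M` -/
def relZ (M : Subgroup P) [M.Normal] : Subgroup P :=
  (Subgroup.center (P ⧸ M)).comap (QuotientGroup.mk' M)

theorem mem_relZ (M : Subgroup P) [M.Normal] (g : P) :
    g ∈ relZ M ↔ ∀ x : P, g * x * g⁻¹ * x⁻¹ ∈ M := by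
  unfold relZ
  rw [Subgroup.mem_comap, Subgroup.mem_center_iff]
  constructor
  · intro h x
    have h1 := h (QuotientGroup.mk' M x)
    rw [← QuotientGroup.eq_one_iff]
    have h2 : ((g * x * g⁻¹ * x⁻¹ : P) : P ⧸ M) =
        (QuotientGroup.mk' M g) * (QuotientGroup.mk' M x) * (QuotientGroup.mk' M g)⁻¹ *
          (QuotientGroup.mk' M x)⁻¹ := by
      simp
    rw [h2, ← h1]
    group
  · intro h y
    obtain ⟨x, rfl⟩ := QuotientGroup.mk'_surjective M y
    have h1 := h x
    rw [← QuotientGroup.eq_one_iff] at h1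
    have h2 : ((g * x * g⁻¹ * x⁻¹ : P) : P ⧸ M) =
        (QuotientGroup.mk' M g) * (QuotientGroup.mk' M x) * (QuotientGroup.mk' M g)⁻¹ *
          (QuotientGroup.mk' M x)⁻¹ := by
      simp
    rw [h2] at h1
    have h3 : (QuotientGroup.mk' M g) * (QuotientGroup.mk' M x) * (QuotientGroup.mk' M g)⁻¹
        = QuotientGroup.mk' M x := by
      rw [mul_inv_eq_one] at h1
      exact h1
    rw [mul_inv_eq_iff_eq_mul] at h3
    exact h3.symm

instance relZ_normal (M : Subgroup P) [M.Normal] : (relZ M).Normal := by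
  unfold relZ
  infer_instance

theorem center_le_relZ (M : Subgroup P) [M.Normal] : Subgroup.center P ≤ relZ M := by
  intro g hg
  rw [mem_relZ]
  intro x
  rw [Subgroup.mem_center_iff] at hg
  have : g * x * g⁻¹ * x⁻¹ = 1 := by
    rw [← hg x]; group
  rw [this]
  exact M.one_mem

theorem relZ_bot_eq : relZ (⊥ : Subgroup P) = Subgroup.center P := by
  apply le_antisymm
  · intro g hg
    rw [mem_relZ] at hg
    rw [Subgroup.mem_center_iff]
    intro x
    have h1 := hg x
    rw [Subgroup.mem_bot] at h1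
    have h2 : g * x * g⁻¹ = x := by
      rw [mul_inv_eq_one] at h1; exact h1
    rw [mul_inv_eq_iff_eq_mul] at h2
    exact h2.symm
  · exact center_le_relZ ⊥

/-- degree formula when the derived subgroup is central -/
theorem sq_mul_card_relZ (χ : IrrCharacter P) (hcl : commutator P ≤ Subgroup.center P)
    (M : Subgroup P) [M.Normal] (hM1 : M ≤ irrKer χ)
    (hM2 : ∀ c ∈ commutator P, c ∈ irrKer χ → c ∈ M) :
    (charDegree (χ : P → ℂ)) ^ 2 * Nat.card (relZ M) = Nat.card P := by
  classical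
  have := Fintype.ofFinite P
  have h1 := irr_sum_normSq χ
  have hin : ∀ g : P, g ∈ relZ M →
      Complex.normSq ((χ : P → ℂ) g) = ((charDegree (χ : P → ℂ) : ℕ) : ℝ) ^ 2 := by
    intro g hg
    rw [mem_relZ] at hg
    exact irr_normSq_of_commutators χ (M : Set P) (fun b hb => hM1 hb) g hg
  have hout : ∀ g : P, g ∉ relZ M → Complex.normSq ((χ : P → ℂ) g) = 0 := by
    intro g hg
    rw [mem_relZ] at hg
    push Not at hg
    obtain ⟨x, hx⟩ := hg
    set c := g * x * g⁻¹ * x⁻¹ with hc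
    have hcc : c ∈ commutator P := by
      rw [commutator_def, hc, ← commutatorElement_def]
      exact Subgroup.commutator_mem_commutator (Subgroup.mem_top g) (Subgroup.mem_top x)
    have hcz : c ∈ Subgroup.center P := hcl hcc
    have hck : c ∉ irrKer χ := fun h => hx (hM2 c hcc h)
    have hcz' : c⁻¹ ∈ Subgroup.center P := Subgroup.inv_mem _ hcz
    have hck' : c⁻¹ ∉ irrKer χ := fun h => hck (by simpa using Subgroup.inv_mem _ h)
    have h3 : (x⁻¹)⁻¹ * g * x⁻¹ = c⁻¹ * g := by
      rw [hc]; group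
    rw [irr_eq_zero_of_comm χ g x⁻¹ c⁻¹ hcz' h3 hck']
    simp
  have h2 : ∑ g : P, Complex.normSq ((χ : P → ℂ) g)
      = ∑ g ∈ Finset.univ.filter (fun g : P => g ∈ relZ M), Complex.normSq ((χ : P → ℂ) g) := by
    rw [Finset.sum_filter]
    apply Finset.sum_congr rfl
    intro g _
    by_cases hg : g ∈ relZ M
    · rw [if_pos hg]
    · rw [if_neg hg, hout g hg]
  have h3 : ∑ g ∈ Finset.univ.filter (fun g : P => g ∈ relZ M), Complex.normSq ((χ : P → ℂ) g)
      = (Nat.card (relZ M) : ℝ) * ((charDegree (χ : P → ℂ) : ℕ) : ℝ) ^ 2 := by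
    rw [Finset.sum_congr rfl (fun g hg => hin g (Finset.mem_filter.1 hg).2),
      Finset.sum_const, nsmul_eq_mul]
    congr 2
    rw [Nat.card_eq_fintype_card, Fintype.card_subtype]
  rw [h2, h3] at h1
  have h4 : (((charDegree (χ : P → ℂ)) ^ 2 * Nat.card (relZ M) : ℕ) : ℝ) = (Nat.card P : ℝ) := by
    rw [← h1]; push_cast; ring
  exact_mod_cast h4

end Cfsg.Agent.Helper80.GalDeg
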