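import Mathlib
import Cfsg.Agent.Lib.Helper80.GalDegA
import Cfsg.Agent.Lib.Helper79.NilpAux
import Cfsg.Agent.Lib.Helper79.Linear

set_option autoImplicit false
set_option linter.unusedSectionVars false
set_option linter.unusedVariables false
set_option linter.style.haveILetI false
set_option linter.deprecated false

namespace Cfsg.Agent.Helper80.GalDeg

open Cfsg Cfsg.Agent.Helper79

universe u

variable {P : Type u} [Group P] [Finite P]

theorem le_center_of_card_prime (p : ℕ) [hp : Fact p.Prime] (hP : IsPGroup p P)
    (N : Subgroup P) [N.Normal] (hN : Nat.card N = p) : N ≤ Subgroup.center P := by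
  haveI : Group.IsNilpotent P := hP.isNilpotent
  have hN1 : N ≠ ⊥ := by
    intro h
    rw [h, Subgroup.card_bot] at hN
    exact hp.out.one_lt.ne hN
  have h1 := Cfsg.Agent.S0015.normal_inf_center_ne_bot N hN1
  have h2 : Nat.card (N ⊓ Subgroup.center P : Subgroup P) ∣ p := by
    rw [← hN]
    exact Subgroup.card_dvd_of_le inf_le_left
  rcases (Nat.dvd_prime hp.out).1 h2 with h | h
  · exact absurd (Subgroup.card_eq_one.1 h) h1
  · have h3 : N ⊓ Subgroup.center P = N :=
      Subgroup.eq_of_le_of_card_ge inf_le_left (by rw [h, hN])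
    rw [← h3]
    exact inf_le_right

/-- if all commutators `[z, x]` are central of exponent `p` then `z ^ p` is central -/
theorem pow_mem_center_of_comm (p : ℕ) (z : P)
    (h1 : ∀ x : P, z * x * z⁻¹ * x⁻¹ ∈ Subgroup.center P)
    (h2 : ∀ x : P, (z * x * z⁻¹ * x⁻¹) ^ p = 1) : z ^ p ∈ Subgroup.center P := by
  rw [Subgroup.mem_center_iff]
  intro x
  set c := z * x * z⁻¹ * x⁻¹ with hc
  have hcz := h1 x
  rw [← hc, Subgroup.mem_center_iff] at hcz
  have hzx : z * x = c * x * z := by rw [hc]; group
  have key : ∀ k : ℕ, z ^ k * x = c ^ k * x * z ^ k := by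
    intro k
    induction k with
    | zero => simp
    | succ k ih =>
      have hck : ∀ y : P, y * c ^ k = c ^ k * y := by
        intro y
        have : Commute y c := hcz y
        exact (this.pow_right k).eq
      calc z ^ (k + 1) * x = z * (z ^ k * x) := by rw [pow_succ']; group
        _ = z * (c ^ k * x * z ^ k) := by rw [ih]
        _ = (z * c ^ k) * x * z ^ k := by group
        _ = c ^ k * (z * x) * z ^ k := by rw [hck z]; group
        _ = c ^ k * (c * x * z) * z ^ k := by rw [hzx]
        _ = c ^ (k + 1) * x * z ^ (k + 1) := by rw [pow_succ, pow_succ']; group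
  have h3 := key p
  rw [h2 x, one_mul] at h3
  exact h3.symm

theorem isCyclic_center_of_faithful (χ : IrrCharacter P) (h : irrKer χ = ⊥) :
    IsCyclic (Subgroup.center P) := by
  have h1 : (χ : P → ℂ) 1 ≠ 0 := irr_one_ne_zero χ
  let f : Subgroup.center P →* ℂ :=
    { toFun := fun z => (χ : P → ℂ) (z : P) / (χ : P → ℂ) 1
      map_one' := by
        simp only [Subgroup.coe_one]
        exact div_self h1
      map_mul' := by
        intro a b
        have h2 := irr_central_mul χ (a : P) a.2 (b : P)
        simp only [Subgroup.coe_mul]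
        field_simp
        linear_combination h2 }
  have hinj : Function.Injective f := by
    rw [injective_iff_map_eq_one]
    intro a ha
    have h2 : (χ : P → ℂ) (a : P) / (χ : P → ℂ) 1 = 1 := ha
    rw [div_eq_one_iff_eq h1] at h2
    have h3 : (a : P) ∈ irrKer χ := h2
    rw [h, Subgroup.mem_bot] at h3
    exact Subtype.ext h3
  exact isCyclic_of_subgroup_isDomain f hinj

theorem exists_not_le_irrKer (N : Subgroup P) [N.Normal] (hN : N ≠ ⊥) :
    ∃ χ : IrrCharacter P, ¬ N ≤ irrKer χ := by
  classical
  by_contra hcon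
  push Not at hcon
  have h1 := sum_sq_degree_of_not_le_ker N
  have h2 : Finset.univ.filter (fun χ : IrrCharacter P => ¬ N ≤ irrKer χ) = ∅ := by
    apply Finset.filter_eq_empty_iff.2
    intro χ _
    exact not_not.2 (hcon χ)
  rw [h2, Finset.sum_empty] at h1
  have h3 := Subgroup.card_mul_index N
  have h4 : 1 < Nat.card N := by
    rcases Nat.lt_or_ge 1 (Nat.card N) with h | h
    · exact h
    · exfalso
      apply hN
      have : Nat.card N = 1 := by
        have := Nat.card_pos (α := N)
        omega
      exact Subgroup.card_eq_one.1 this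
  have h5 : 0 < N.index := Nat.pos_of_ne_zero Subgroup.index_ne_zero_of_finite
  have h6 : N.index < Nat.card P := by
    rw [← h3]
    nlinarith
  omega

/-- a nonlinear character with `N` in its kernel, when `N` is properly inside the derived group -/
theorem exists_nonlinear_over (N : Subgroup P) [N.Normal] (hN : N < commutator P) :
    ∃ χ : IrrCharacter P, N ≤ irrKer χ ∧ charDegree (χ : P → ℂ) ≠ 1 := by
  classical
  by_contra hcon
  push Not at hcon
  have h1 := sum_sq_degree_of_le_ker N
  have h2 := sum_sq_degree_of_le_ker (commutator P)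
  have h3 : Finset.univ.filter (fun χ : IrrCharacter P => N ≤ irrKer χ)
      = Finset.univ.filter (fun χ : IrrCharacter P => commutator P ≤ irrKer χ) := by
    ext χ
    simp only [Finset.mem_filter, Finset.mem_univ, true_and]
    constructor
    · intro h
      exact (degree_one_iff χ).1 (hcon χ h)
    · intro h
      exact hN.le.trans h
  rw [h3, h2] at h1
  have h4 := Subgroup.card_mul_index N
  have h5 := Subgroup.card_mul_index (commutator P)
  have h6 : Nat.card N < Nat.card (commutator P) := by
    have hle : Nat.card N ≤ Nat.card (commutator P) := Subgroup.card_le_of_le hN.le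
    rcases Nat.lt_or_ge (Nat.card N) (Nat.card (commutator P)) with h | h
    · exact h
    · exfalso
      have := Subgroup.eq_of_le_of_card_ge hN.le h
      exact hN.ne this
  have h7 : 0 < N.index := Nat.pos_of_ne_zero Subgroup.index_ne_zero_of_finite
  rw [h1] at h5
  have : Nat.card N * N.index < Nat.card (commutator P) * N.index :=
    Nat.mul_lt_mul_of_pos_right h6 h7
  omega

theorem isCyclic_center_of_card_commutator (p : ℕ) [hp : Fact p.Prime] (hP : IsPGroup p P)
    (hc : Nat.card (commutator P) = p) (h : Hyp P) : IsCyclic (Subgroup.center P) := by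
  classical
  have hcen : commutator P ≤ Subgroup.center P := le_center_of_card_prime p hP _ hc
  have hc1 : commutator P ≠ ⊥ := by
    intro h0
    rw [h0, Subgroup.card_bot] at hc
    exact hp.out.one_lt.ne hc
  obtain ⟨χ0, hχ0⟩ := exists_not_le_irrKer (commutator P) hc1
  have hdeg0 : charDegree (χ0 : P → ℂ) ≠ 1 := fun h1 => hχ0 ((degree_one_iff χ0).1 h1)
  -- kernels of nonlinear characters meet the derived group trivially
  have hker : ∀ χ : IrrCharacter P, charDegree (χ : P → ℂ) ≠ 1 →
      ∀ c ∈ commutator P, c ∈ irrKer χ → c ∈ (⊥ : Subgroup P) := by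
    intro χ hχ c hc1 hc2
    by_contra hcb
    rw [Subgroup.mem_bot] at hcb
    apply hχ
    rw [degree_one_iff]
    have h1 : Nat.card (irrKer χ ⊓ commutator P : Subgroup P) ∣ p := by
      rw [← hc]
      exact Subgroup.card_dvd_of_le inf_le_right
    rcases (Nat.dvd_prime hp.out).1 h1 with h2 | h2
    · exfalso
      have h3 := Subgroup.card_eq_one.1 h2
      have h4 : c ∈ irrKer χ ⊓ commutator P := ⟨hc2, hc1⟩
      rw [h3, Subgroup.mem_bot] at h4
      exact hcb h4
    · have h3 : irrKer χ ⊓ commutator P = commutator P :=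
        Subgroup.eq_of_le_of_card_ge inf_le_right (by rw [h2, hc])
      rw [← h3]
      exact inf_le_left
  have hform : ∀ χ : IrrCharacter P, charDegree (χ : P → ℂ) ≠ 1 →
      (charDegree (χ : P → ℂ)) ^ 2 * Nat.card (Subgroup.center P) = Nat.card P := by
    intro χ hχ
    have := sq_mul_card_relZ χ hcen ⊥ bot_le (hker χ hχ)
    rwa [relZ_bot_eq] at this
  have hsame : ∀ χ : IrrCharacter P, charDegree (χ : P → ℂ) ≠ 1 →
      charDegree (χ0 : P → ℂ) = charDegree (χ : P → ℂ) := by
    intro χ hχ
    have h1 := hform χ hχ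
    have h2 := hform χ0 hdeg0
    have hZ : 0 < Nat.card (Subgroup.center P) := Nat.card_pos
    have h3 : (charDegree (χ0 : P → ℂ)) ^ 2 = (charDegree (χ : P → ℂ)) ^ 2 := by
      apply Nat.eq_of_mul_eq_mul_right hZ
      rw [h1, h2]
    exact Nat.pow_left_injective (by norm_num : 2 ≠ 0) h3
  -- the kernel of χ0 is trivial
  have hk0 : irrKer χ0 = ⊥ := by
    rw [Subgroup.eq_bot_iff_forall]
    intro g hg
    by_contra hg1
    have hgc : g ∉ commutator P := by
      intro hgc
      exact hg1 ((Subgroup.mem_bot).1 (hker χ0 hdeg0 g hgc hg))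
    have ha : (Abelianization.of g : Abelianization P) ≠ 1 := by
      intro h1
      apply hgc
      have : (QuotientGroup.mk g : P ⧸ commutator P) = 1 := h1
      exact (QuotientGroup.eq_one_iff _).1 this
    have : NeZero (Monoid.exponent (Abelianization P)) := ⟨Monoid.exponent_ne_zero_of_finite⟩
    obtain ⟨φ, hφ⟩ := CommGroup.exists_apply_ne_one_of_hasEnoughRootsOfUnity
      (Abelianization P) ℂ ha
    let l : P →* ℂˣ := φ.comp Abelianization.of
    set μ := linChar l with hμ
    have hμ1 : charDegree (μ : P → ℂ) = 1 := charDegree_linChar l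
    set ψ := mulLinear μ χ0 hμ1 with hψ
    have hψdeg : charDegree (ψ : P → ℂ) = charDegree (χ0 : P → ℂ) := charDegree_mulLinear μ χ0 hμ1
    have hkk := h.same_ker χ0 ψ hdeg0 hψdeg.symm
    have hgψ : g ∈ irrKer ψ := by rw [hkk]; exact hg
    rw [mem_irrKer, mulLinear_apply, mulLinear_apply] at hgψ
    rw [mem_irrKer] at hg
    rw [hg, linChar_apply, linChar_apply, map_one] at hgψ
    have h1 : (χ0 : P → ℂ) 1 ≠ 0 := irr_one_ne_zero χ0
    have h2 : ((l g : ℂˣ) : ℂ) = 1 := by
      have := mul_right_cancel₀ h1 hgψ
      simpa using this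
    apply hφ
    have h3 : l g = 1 := Units.ext h2
    exact h3
  exact isCyclic_center_of_faithful χ0 hk0

end Cfsg.Agent.Helper80.GalDeg
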