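import Mathlib
import Cfsg.Agent.Lib.Helper80.FrobSchur2
import Cfsg.Agent.Lib.Helper81.CharCorr
import Cfsg.Agent.Lib.Helper74.LinChar

/-!
# A light version of Gallagher's theorem (helper80)

* `rep_irreducible_of_norm_one` : a representation whose character has norm one is irreducible.
* `exists_trace_ne_zero` : if `ρ` restricted along `ι : N →* I` is irreducible then every coset
  `ι(N) x` contains an element with nonzero character value.
* `hom_eq_one_of_mul_eq` : Gallagher uniqueness for linear characters.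
-/

set_option autoImplicit false

namespace Cfsg.Agent.Helper80

open scoped ComplexConjugate
open Cfsg

universe u v

section NormOne

variable {H : Type u} [Group H] [Fintype H] {V : Type v} [AddCommGroup V] [Module ℂ V]
  [FiniteDimensional ℂ V]

/-- If `⟨χ, χ⟩ = 0` for a class function `χ` then `χ 1 = 0`. -/
theorem apply_one_eq_zero_of_classInner_self {χ : H → ℂ} (h : classInner χ χ = 0) : χ 1 = 0 := by
  have hfin : Finite H := Finite.of_fintype H
  have hne : (Nat.card H : ℂ) ≠ 0 := by exact_mod_cast Nat.card_pos.ne'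
  unfold classInner at h
  rcases mul_eq_zero.1 h with h | h
  · exact absurd (inv_eq_zero.1 h) hne
  · have h1 : ∑ g : H, Complex.normSq (χ g) = 0 := by
      have : ((∑ g : H, Complex.normSq (χ g) : ℝ) : ℂ) = 0 := by
        rw [← h]
        push_cast
        apply Finset.sum_congr rfl
        intro g _
        rw [Complex.mul_conj]
      exact_mod_cast this
    have h2 := (Finset.sum_eq_zero_iff_of_nonneg (fun g _ => Complex.normSq_nonneg (χ g))).1 h1 1
      (Finset.mem_univ _)
    exact Complex.normSq_eq_zero.1 h2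

/-- A representation whose character has norm one is irreducible. -/
theorem rep_irreducible_of_norm_one (σ : Representation ℂ H V)
    (h : classInner σ.character σ.character = 1) : σ.IsIrreducible := by
  classical
  have hfin : Finite H := Finite.of_fintype H
  have hnt : Nontrivial V := by
    by_contra hV
    rw [not_nontrivial_iff_subsingleton] at hV
    have h0 : σ.character = 0 := by
      funext g
      exact Helper81.character_eq_zero_of_finrank_eq_zero σ (Module.finrank_zero_of_subsingleton) g
    rw [h0] at h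
    simp [classInner] at h
  obtain ⟨W, W', hc, hW⟩ := Helper81.exists_irreducible_compl σ
  have hadd : σ.character = W.toRepresentation.character + W'.toRepresentation.character := by
    funext g
    exact Helper81.character_eq_add_of_isCompl hc g
  haveI := Helper81.isIrreducible_of_isAtom W hW
  have hWirr : IsIrrCharacter H W.toRepresentation.character :=
    Helper81.isIrrCharacter_of_rep W.toRepresentation
  have hW'ch : IsCharacter H W'.toRepresentation.character :=
    Helper81.isCharacter_of_rep W'.toRepresentation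
  obtain ⟨k, hk⟩ := Helper81.exists_nat_classInner hW'ch hWirr
  obtain ⟨m, hm⟩ := Helper81.exists_nat_classInner_char hW'ch hW'ch
  have h11 : classInner W.toRepresentation.character W.toRepresentation.character = 1 := by
    rw [Helper81.irr_orthonormal hWirr hWirr, if_pos rfl]
  have hk' : classInner W.toRepresentation.character W'.toRepresentation.character = (k : ℂ) := by
    rw [Helper81.classInner_conj_symm, hk, Complex.conj_natCast]
  rw [hadd, Helper81.classInner_add_left, Helper81.classInner_add_right,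
    Helper81.classInner_add_right, h11, hk, hk', hm] at h
  have hm0 : m = 0 := by
    have : ((1 + k + (k + m) : ℕ) : ℂ) = ((1 : ℕ) : ℂ) := by push_cast; exact h
    have := Nat.cast_injective this
    omega
  rw [hm0, Nat.cast_zero] at hm
  have hdim : Module.finrank ℂ W'.toSubmodule = 0 := by
    have h1 := apply_one_eq_zero_of_classInner_self hm
    rw [Representation.char_one] at h1
    exact_mod_cast h1
  have hW'bot : W' = ⊥ := by
    apply Subrepresentation.toSubmodule_injective
    exact Submodule.finrank_eq_zero.1 hdim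
  have hWtop : W = ⊤ := by
    rw [hW'bot] at hc
    exact eq_top_of_isCompl_bot hc
  refine { exists_pair_ne := ⟨⊥, ⊤, ?_⟩, eq_bot_or_eq_top := ?_ }
  · rw [← hWtop]
    exact hW.1.symm
  · intro U
    by_cases hU : U = ⊤
    · exact Or.inr hU
    · left
      apply hW.2
      rw [hWtop]
      exact lt_top_iff_ne_top.2 hU

end NormOne

section Coset

theorem mul_single_mul_apply {d : ℕ} (A C : Matrix (Fin d) (Fin d) ℂ) (k l a b : Fin d) :
    (A * Matrix.single k l (1 : ℂ) * C) a b = A a k * C l b := by
  rw [Matrix.mul_apply, Finset.sum_eq_single l]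
  · rw [Matrix.mul_single_apply_same, mul_one]
  · intro j _ hj
    rw [Matrix.mul_single_apply_of_ne _ _ _ _ _ hj, zero_mul]
  · intro h; exact absurd (Finset.mem_univ _) h

variable {N I : Type u} [Group N] [Fintype N] [Group I]

/-- If the restriction of `ρ` along `ι : N →* I` is irreducible, then every coset `ι(N) x`
contains an element on which the character of `ρ` does not vanish. -/
theorem exists_trace_ne_zero (ι : N →* I) {d : ℕ} (ρ : Representation ℂ I (Fin d → ℂ))
    (hirr : Representation.IsIrreducible (MonoidHom.comp ρ ι : Representation ℂ N (Fin d → ℂ)))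
    (x : I) : ∃ n : N, ρ.character (ι n * x) ≠ 0 := by
  classical
  by_contra hall
  push Not at hall
  have hfin : Finite N := Finite.of_fintype N
  have hNne : (Nat.card N : ℂ) ≠ 0 := by exact_mod_cast Nat.card_pos.ne'
  let M : I → Matrix (Fin d) (Fin d) ℂ := fun y => LinearMap.toMatrix' (ρ y)
  have hM1 : M 1 = 1 := by simp [M]
  have hMmul : ∀ y z, M (y * z) = M y * M z := by
    intro y z
    simp only [M, map_mul]
    exact LinearMap.toMatrix'_mul _ _
  have htr : ∀ y, ρ.character y = (M y).trace := by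
    intro y
    simp only [Representation.character, M]
    rw [← Matrix.trace_toLin'_eq, Matrix.toLin'_toMatrix']
  have hd : d ≠ 0 := by
    have := finrank_ne_zero_of_isIrreducible
      (MonoidHom.comp ρ ι : Representation ℂ N (Fin d → ℂ)) hirr
    simpa using this
  have hdne : (d : ℂ) ≠ 0 := by exact_mod_cast hd
  -- the averaging operator
  let T : Matrix (Fin d) (Fin d) ℂ → Matrix (Fin d) (Fin d) ℂ :=
    fun X => ∑ n : N, M (ι n) * X * M (ι n⁻¹)
  have hTcomm : ∀ (X : Matrix (Fin d) (Fin d) ℂ) (h : N),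
      T X * M (ι h) = M (ι h) * T X := by
    intro X h
    simp only [T, Finset.mul_sum, Finset.sum_mul]
    refine Fintype.sum_equiv (Equiv.mulLeft h⁻¹) _ _ fun n => ?_
    simp only [Equiv.coe_mulLeft]
    have e1 : M (ι h) * M (ι (h⁻¹ * n)) = M (ι n) := by
      rw [← hMmul, ← map_mul, mul_inv_cancel_left]
    have e2 : M (ι (h⁻¹ * n)⁻¹) = M (ι n⁻¹) * M (ι h) := by
      rw [← hMmul, ← map_mul]
      congr 2
      group
    rw [e2, ← Matrix.mul_assoc, ← Matrix.mul_assoc, ← Matrix.mul_assoc, e1]
  have hTscalar : ∀ X : Matrix (Fin d) (Fin d) ℂ,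
      T X = ((Nat.card N : ℂ) * X.trace / d) • (1 : Matrix (Fin d) (Fin d) ℂ) := by
    intro X
    obtain ⟨c, hc⟩ := schur_matrix (MonoidHom.comp ρ ι : Representation ℂ N (Fin d → ℂ)) hirr
      (T X) (fun h => hTcomm X h)
    have h1 : (T X).trace = (Nat.card N : ℂ) * X.trace := by
      simp only [T, Matrix.trace_sum]
      have : ∀ n : N, (M (ι n) * X * M (ι n⁻¹)).trace = X.trace := by
        intro n
        rw [Matrix.trace_mul_comm, ← Matrix.mul_assoc, ← hMmul, ← map_mul, inv_mul_cancel,
          map_one, hM1, Matrix.one_mul]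
      simp only [this, Finset.sum_const, Finset.card_univ, nsmul_eq_mul,
        Nat.card_eq_fintype_card]
    have h2 : (T X).trace = c * d := by
      rw [hc, Matrix.trace_smul, Matrix.trace_one]
      simp
    rw [hc]
    congr 1
    rw [eq_div_iff hdne, ← h2, h1]
  -- the matrix of `x` vanishes
  have hB : M x = 0 := by
    ext l b
    have h1 : ∑ n : N, (M (ι n) * M x).trace * M (ι n⁻¹) l b = 0 := by
      apply Finset.sum_eq_zero
      intro n _
      rw [← hMmul, ← htr, hall n, zero_mul]
    have h2 : ∑ n : N, (M (ι n) * M x).trace * M (ι n⁻¹) l b =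
        ∑ a : Fin d, ∑ k : Fin d, M x k a * T (Matrix.single k l (1 : ℂ)) a b := by
      have hTentry : ∀ (k : Fin d) (a : Fin d), T (Matrix.single k l (1 : ℂ)) a b =
          ∑ n : N, M (ι n) a k * M (ι n⁻¹) l b := by
        intro k a
        simp only [T, Matrix.sum_apply, mul_single_mul_apply]
      simp only [hTentry, Matrix.trace, Matrix.diag_apply,
        Matrix.mul_apply, Finset.sum_mul, Finset.mul_sum]
      rw [Finset.sum_comm]
      apply Finset.sum_congr rfl
      intro a _
      rw [Finset.sum_comm]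
      apply Finset.sum_congr rfl
      intro k _
      apply Finset.sum_congr rfl
      intro n _
      ring
    rw [h2] at h1
    simp only [hTscalar, Matrix.smul_apply, Matrix.one_apply, smul_eq_mul] at h1
    have h3 : ∑ a : Fin d, ∑ k : Fin d, M x k a *
        ((Nat.card N : ℂ) * (Matrix.single k l (1 : ℂ)).trace / d * if a = b then 1 else 0) =
        M x l b * ((Nat.card N : ℂ) / d) := by
      rw [Finset.sum_eq_single b]
      · rw [Finset.sum_eq_single l]
        · rw [Matrix.trace_single_eq_same]
          simp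
        · intro k _ hk
          rw [Matrix.trace_single_eq_of_ne _ _ _ hk]
          simp
        · intro h; exact absurd (Finset.mem_univ _) h
      · intro a _ ha
        apply Finset.sum_eq_zero
        intro k _
        rw [if_neg ha]
        simp
      · intro h; exact absurd (Finset.mem_univ _) h
    rw [h3] at h1
    rcases mul_eq_zero.1 h1 with h | h
    · simpa using h
    · exfalso
      exact div_ne_zero hNne hdne h
  have h1 : M x * M x⁻¹ = 1 := by rw [← hMmul, mul_inv_cancel, hM1]
  rw [hB, Matrix.zero_mul] at h1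
  have h2 := congrArg Matrix.trace h1
  rw [Matrix.trace_zero, Matrix.trace_one] at h2
  simp at h2
  exact hdne h2.symm

/-- Gallagher uniqueness for linear characters: if `ψ ∈ Irr(I)` restricts irreducibly along
`ι : N →* I`, and `ν` is a linear character of `I` trivial on `ι(N)` with `ν ψ = ψ`, then
`ν = 1`. -/
theorem hom_eq_one_of_mul_eq (ι : N →* I) (ψ : IrrCharacter I)
    (hφ : IsIrrCharacter N (fun n => (ψ : I → ℂ) (ι n))) (ν : I →* ℂˣ)
    (hν : ∀ n : N, ν (ι n) = 1)
    (h : ∀ y : I, ((ν y : ℂˣ) : ℂ) * (ψ : I → ℂ) y = (ψ : I → ℂ) y) : ν = 1 := by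
  obtain ⟨d, ρ, hρ, hψ⟩ := ψ.2
  let σ : Representation ℂ N (Fin d → ℂ) := MonoidHom.comp ρ ι
  have hchar : σ.character = fun n => (ψ : I → ℂ) (ι n) := by
    funext n
    rw [← hψ]
    rfl
  have hnorm : classInner σ.character σ.character = 1 := by
    rw [hchar, Helper81.irr_orthonormal hφ hφ, if_pos rfl]
  have hirr : σ.IsIrreducible := rep_irreducible_of_norm_one σ hnorm
  ext y
  obtain ⟨n, hn⟩ := exists_trace_ne_zero ι ρ hirr y
  rw [hψ] at hn
  have h1 := h (ι n * y)
  have h2 : ((ν (ι n * y) : ℂˣ) : ℂ) = 1 := by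
    have : (((ν (ι n * y) : ℂˣ) : ℂ) - 1) * (ψ : I → ℂ) (ι n * y) = 0 := by
      rw [sub_mul, h1, one_mul, sub_self]
    rcases mul_eq_zero.1 this with h3 | h3
    · exact sub_eq_zero.1 h3
    · exact absurd h3 hn
  rw [map_mul, hν, one_mul] at h2
  simpa using h2

end Coset

section Perfect

variable {G : Type u} [Group G]

open scoped commutatorElement in
/-- A non-abelian minimal normal subgroup lies in the kernel of every linear character. -/
theorem hom_trivial_on_minimal_normal (N : Subgroup G) (hN : N.Normal)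
    (hmin : ∀ M : Subgroup G, M.Normal → M ≤ N → M = ⊥ ∨ M = N) (hna : ¬ IsMulCommutative ↥N)
    (μ : G →* ℂˣ) : ∀ n ∈ N, μ n = 1 := by
  haveI := hN
  have hc : ⁅N, N⁆ = N := by
    rcases hmin ⁅N, N⁆ (Subgroup.commutator_normal N N) (Subgroup.commutator_le_right N N)
      with h | h
    · exfalso
      apply hna
      rw [Subgroup.commutator_eq_bot_iff_le_centralizer] at h
      constructor
      constructor
      intro a b
      apply Subtype.ext
      have := (Subgroup.mem_centralizer_iff.1 (h b.2)) a a.2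
      simpa using this
    · exact h
  have hle : ⁅N, N⁆ ≤ μ.ker := by
    rw [Subgroup.commutator_le]
    intro a _ b _
    rw [MonoidHom.mem_ker, map_commutatorElement, commutatorElement_eq_one_iff_mul_comm]
    exact mul_comm _ _
  intro n hn
  rw [← hc] at hn
  exact hle hn

end Perfect

section HomCount

variable {G : Type u} [Group G] [Finite G]

instance hom_units_finite : Finite (G →* ℂˣ) := by
  apply Nat.finite_of_card_ne_zero
  rw [Helper74.Lin.card_hom]
  exact Subgroup.index_ne_zero_of_finite

/-- At most `[G : I]` linear characters of `G` are trivial on `I`. -/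
theorem card_hom_trivial_on_le (I : Subgroup G) :
    Nat.card {μ : G →* ℂˣ // ∀ i ∈ I, μ i = 1} ≤ I.index := by
  set J := Subgroup.normalClosure (I : Set G) with hJ
  have hJn : J.Normal := Subgroup.normalClosure_normal
  have hIJ : I ≤ J := Subgroup.le_normalClosure
  have hker : ∀ μ : {μ : G →* ℂˣ // ∀ i ∈ I, μ i = 1}, J ≤ μ.1.ker := by
    intro μ
    apply Subgroup.normalClosure_le_normal
    intro i hi
    exact MonoidHom.mem_ker.2 (μ.2 i hi)
  have h1 : Nat.card {μ : G →* ℂˣ // ∀ i ∈ I, μ i = 1} ≤ Nat.card ((G ⧸ J) →* ℂˣ) := by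
    apply Nat.card_le_card_of_injective (fun μ => QuotientGroup.lift J μ.1 (hker μ))
    intro μ μ' h
    apply Subtype.ext
    ext g
    have := DFunLike.congr_fun h (QuotientGroup.mk g)
    simp only [QuotientGroup.lift_mk] at this
    rw [this]
  have h2 : Nat.card ((G ⧸ J) →* ℂˣ) ≤ Nat.card (G ⧸ J) := by
    rw [Helper74.Lin.card_hom]
    exact Nat.le_of_dvd Nat.card_pos (Subgroup.index_dvd_card _)
  have h3 : Nat.card (G ⧸ J) ≤ I.index := by
    rw [← Subgroup.index_eq_card]
    exact Nat.le_of_dvd (Nat.pos_of_ne_zero Subgroup.index_ne_zero_of_finite)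
      (Subgroup.index_dvd_of_le hIJ)
  exact h1.trans (h2.trans h3)

end HomCount

section Main

variable {G : Type u} [Group G] [Finite G]

/-- Twisting an induced function by a linear character of `G`. -/
theorem indFun_twist [Fintype G] (I : Subgroup G) (ψ : ↥I → ℂ) (μ : G →* ℂˣ) (g : G) :
    indFun I (fun i : ↥I => ((μ (i : G) : ℂˣ) : ℂ) * ψ i) g = ((μ g : ℂˣ) : ℂ) * indFun I ψ g := by
  rw [Helper81.indFun_apply, Helper81.indFun_apply, mul_left_comm]
  congr 1
  rw [Finset.mul_sum]
  apply Finset.sum_congr rfl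
  intro x _
  have hμ : μ (x⁻¹ * g * x) = μ g := by
    rw [map_mul, map_mul, map_inv]
    rw [mul_comm, ← mul_assoc, mul_inv_cancel, one_mul]
  by_cases hx : x⁻¹ * g * x ∈ I
  · rw [Helper81.extendByZero_apply_mem I _ hx, Helper81.extendByZero_apply_mem I _ hx]
    simp only
    rw [hμ]
  · rw [Helper81.extendByZero_apply_not_mem I _ hx, Helper81.extendByZero_apply_not_mem I _ hx,
      mul_zero]

/-- Linear characters versus characters of degree `φ(1) [G : I]`, for `φ` an irreducible character
of a non-abelian minimal normal subgroup that extends to its inertia group `I`. -/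
theorem card_linear_le (N : Subgroup G) (hN : N.Normal)
    (hmin : ∀ M : Subgroup G, M.Normal → M ≤ N → M = ⊥ ∨ M = N) (hna : ¬ IsMulCommutative ↥N)
    (φ : IrrCharacter ↥N) (I : Subgroup G)
    (hI : ∀ g : G, g ∈ I ↔ ∀ n n' : ↥N, (n' : G) = g * (n : G) * g⁻¹ →
      (φ : ↥N → ℂ) n' = (φ : ↥N → ℂ) n)
    (hNI : N ≤ I) (ψ : IrrCharacter ↥I)
    (hψ : ∀ n : ↥N, (ψ : ↥I → ℂ) (Subgroup.inclusion hNI n) = (φ : ↥N → ℂ) n) :
    Nat.card {χ : IrrCharacter G // charDegree (χ : G → ℂ) = 1} ≤
      I.index * Nat.card {χ : IrrCharacter G //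
        charDegree (χ : G → ℂ) = charDegree (φ : ↥N → ℂ) * I.index} := by
  classical
  have := Fintype.ofFinite G
  have : Fintype ↥N := Fintype.ofFinite _
  have : Fintype ↥I := Fintype.ofFinite _
  have hT : ∀ g : G, g ∈ I ↔ Helper81.conjFun N hN (φ : ↥N → ℂ) g = (φ : ↥N → ℂ) := by
    intro g
    rw [hI g]
    constructor
    · intro h
      funext n
      rw [Helper81.conjFun_apply]
      exact h n _ rfl
    · intro h n n' hn'
      have h1 := congrFun h n
      rw [Helper81.conjFun_apply] at h1
      rw [← h1]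
      apply congrArg
      exact Subtype.ext hn'
  have hres : Helper81.resTo hNI (ψ : ↥I → ℂ) = (φ : ↥N → ℂ) := by
    funext n
    exact hψ n
  have hφφ : classInner (φ : ↥N → ℂ) (φ : ↥N → ℂ) ≠ 0 := by
    rw [Helper81.irr_orthonormal φ.2 φ.2, if_pos rfl]
    exact one_ne_zero
  have hne : classInner (Helper81.resTo hNI (ψ : ↥I → ℂ)) (φ : ↥N → ℂ) ≠ 0 := by
    rw [hres]; exact hφφ
  obtain ⟨hirr0, -⟩ := Helper81.clifford_corr_irr N I hN hNI φ.2 hT ψ.2 hne
  set χ₀ : IrrCharacter G := ⟨indFun I (ψ : ↥I → ℂ), hirr0⟩ with hχ₀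
  -- the stabilizer of `χ₀` consists of characters trivial on `I`
  have hstab : ∀ μ : G →* ℂˣ, μ • χ₀ = χ₀ → ∀ i ∈ I, μ i = 1 := by
    intro μ hμ
    set ν : ↥I →* ℂˣ := μ.comp I.subtype with hν
    have hμN : ∀ n ∈ N, μ n = 1 := hom_trivial_on_minimal_normal N hN hmin hna μ
    have hind : indFun I ((ν • ψ : IrrCharacter ↥I) : ↥I → ℂ) = indFun I (ψ : ↥I → ℂ) := by
      have h1 : ((μ • χ₀ : IrrCharacter G) : G → ℂ) = (χ₀ : G → ℂ) := by rw [hμ]
      funext g
      have h2 := congrFun h1 g
      rw [Helper74.Lin.smul_apply] at h2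
      have h3 := indFun_twist I (ψ : ↥I → ℂ) μ g
      have h4 : (χ₀ : G → ℂ) g = indFun I (ψ : ↥I → ℂ) g := rfl
      rw [h4] at h2
      rw [h2] at h3
      exact h3
    have hres' : Helper81.resTo hNI ((ν • ψ : IrrCharacter ↥I) : ↥I → ℂ) = (φ : ↥N → ℂ) := by
      funext n
      change ((ν ⟨(n : G), hNI n.2⟩ : ℂˣ) : ℂ) * (ψ : ↥I → ℂ) ⟨(n : G), hNI n.2⟩ = _
      have : ν ⟨(n : G), hNI n.2⟩ = 1 := hμN n n.2
      rw [this]
      simp only [Units.val_one, one_mul]
      exact hψ n
    have hne' : classInner (Helper81.resTo hNI ((ν • ψ : IrrCharacter ↥I) : ↥I → ℂ))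
        (φ : ↥N → ℂ) ≠ 0 := by
      rw [hres']; exact hφφ
    have heq := Helper81.clifford_corr_inj N I hN hNI φ.2 hT (ν • ψ : IrrCharacter ↥I).2 ψ.2
      hne' hne hind
    have hν1 : ν = 1 := by
      apply hom_eq_one_of_mul_eq (Subgroup.inclusion hNI) ψ
      · have : (fun n : ↥N => (ψ : ↥I → ℂ) (Subgroup.inclusion hNI n)) = (φ : ↥N → ℂ) :=
          funext hψ
        rw [this]
        exact φ.2
      · intro n
        exact hμN n n.2
      · intro y
        have := congrFun heq y
        rw [Helper74.Lin.smul_apply] at this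
        exact this
    intro i hi
    have := DFunLike.congr_fun hν1 ⟨i, hi⟩
    simpa [hν] using this
  -- the degree of `χ₀`
  have hdeg0 : charDegree (χ₀ : G → ℂ) = charDegree (φ : ↥N → ℂ) * I.index := by
    have h1 : (χ₀ : G → ℂ) 1 = ((charDegree (φ : ↥N → ℂ) * I.index : ℕ) : ℂ) := by
      change indFun I (ψ : ↥I → ℂ) 1 = _
      rw [Helper81.indFun_apply]
      have hx : ∀ x : G, extendByZero I (ψ : ↥I → ℂ) (x⁻¹ * 1 * x) = (ψ : ↥I → ℂ) 1 := by
        intro x
        have hx : x⁻¹ * 1 * x ∈ I := by simp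
        rw [Helper81.extendByZero_apply_mem I _ hx]
        apply congrArg
        apply Subtype.ext
        simp
      simp only [hx, Finset.sum_const, Finset.card_univ, nsmul_eq_mul]
      have hψ1 : (ψ : ↥I → ℂ) 1 = (charDegree (φ : ↥N → ℂ) : ℂ) := by
        have := hψ 1
        rw [map_one] at this
        rw [this, irr_one]
      rw [hψ1]
      have hcard : Nat.card G = Nat.card ↥I * I.index := (Subgroup.card_mul_index I).symm
      have hI0 : (Nat.card ↥I : ℂ) ≠ 0 := by exact_mod_cast Nat.card_pos.ne'
      rw [← Nat.card_eq_fintype_card, hcard]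
      push_cast
      field_simp
    have h2 : charDegree (χ₀ : G → ℂ) = ⌊((χ₀ : G → ℂ) 1).re⌋₊ := rfl
    rw [h2, h1, Complex.natCast_re, Nat.floor_natCast]
  have hdeg : ∀ μ : G →* ℂˣ, charDegree ((μ • χ₀ : IrrCharacter G) : G → ℂ) =
      charDegree (χ₀ : G → ℂ) := by
    intro μ
    unfold charDegree
    rw [Helper74.Lin.smul_apply, map_one]
    simp
  -- counting
  have hidx : (MulAction.stabilizer (G →* ℂˣ) χ₀).index =
      (MulAction.orbit (G →* ℂˣ) χ₀).ncard := MulAction.index_stabilizer _ _
  have hmul := Subgroup.card_mul_index (MulAction.stabilizer (G →* ℂˣ) χ₀)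
  have hstabcard : Nat.card (MulAction.stabilizer (G →* ℂˣ) χ₀) ≤ I.index := by
    refine le_trans ?_ (card_hom_trivial_on_le I)
    apply Nat.card_le_card_of_injective
      (fun μ : MulAction.stabilizer (G →* ℂˣ) χ₀ =>
        (⟨μ.1, hstab μ.1 μ.2⟩ : {μ : G →* ℂˣ // ∀ i ∈ I, μ i = 1}))
    intro a b h
    have h' : a.1 = b.1 :=
      congrArg (fun z : {μ : G →* ℂˣ // ∀ i ∈ I, μ i = 1} => z.1) h
    exact Subtype.ext h'
  have horb : (MulAction.orbit (G →* ℂˣ) χ₀).ncard ≤ Nat.card {χ : IrrCharacter G //
      charDegree (χ : G → ℂ) = charDegree (φ : ↥N → ℂ) * I.index} := by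
    rw [← Nat.card_coe_set_eq]
    apply Nat.card_le_card_of_injective
      (fun x : MulAction.orbit (G →* ℂˣ) χ₀ =>
        (⟨x.1, by
          obtain ⟨μ, hμ⟩ := x.2
          rw [← hμ]
          change charDegree ((μ • χ₀ : IrrCharacter G) : G → ℂ) = _
          rw [hdeg μ, hdeg0]⟩ : {χ : IrrCharacter G //
            charDegree (χ : G → ℂ) = charDegree (φ : ↥N → ℂ) * I.index}))
    intro a b h
    have h' : a.1 = b.1 :=
      congrArg (fun z : {χ : IrrCharacter G //
        charDegree (χ : G → ℂ) = charDegree (φ : ↥N → ℂ) * I.index} => z.1) h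
    exact Subtype.ext h'
  have hlin : Nat.card {χ : IrrCharacter G // charDegree (χ : G → ℂ) = 1} =
      Nat.card (G →* ℂˣ) := by
    apply Nat.card_congr
    refine (Equiv.subtypeEquivRight (fun χ => ?_)).trans Helper74.Lin.linEquiv
    rw [irr_one]
    constructor
    · intro h; rw [h]; simp
    · intro h; exact_mod_cast h
  rw [hlin, ← hmul, hidx]
  exact Nat.mul_le_mul hstabcard horb

end Main

end Cfsg.Agent.Helper80
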