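import Mathlib
import Cfsg.Prelude.Def_Characters
import Cfsg.Agent.Lib.Helper74.LinChar

/-!
# `N ⋊ P` with `N` the unique minimal normal subgroup: group-theoretic setup
-/

set_option autoImplicit false

open Cfsg

namespace Cfsg.Agent.Helper80.AvgDegA

universe u

variable {G : Type u} [Group G]

/-- A retraction of `G = N ⋊ P` onto `P`. -/
theorem exists_retraction (N P : Subgroup G) (hN : N.Normal) (hdisj : N ⊓ P = ⊥)
    (hprod : N ⊔ P = ⊤) :
    ∃ r : G →* G, (∀ g, r g ∈ P) ∧ (∀ p ∈ P, r p = p) ∧ (∀ g, g * (r g)⁻¹ ∈ N) ∧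
      (∀ n ∈ N, r n = 1) := by
  have := hN
  have hc : P.IsComplement' N := by
    apply Subgroup.isComplement'_of_disjoint_and_mul_eq_univ
    · rw [disjoint_iff, inf_comm]; exact hdisj
    · rw [← Subgroup.mul_normal, sup_comm, hprod]; rfl
  let e : G ⧸ N ≃* ↥P := hc.QuotientMulEquiv
  let r : G →* G := P.subtype.comp (e.toMonoidHom.comp (QuotientGroup.mk' N))
  have hrP : ∀ p : ↥P, e (QuotientGroup.mk (p : G)) = p := by
    intro p
    have : e.symm p = QuotientGroup.mk (p : G) := rfl
    rw [← this, MulEquiv.apply_symm_apply]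
  have hrN : ∀ n ∈ N, r n = 1 := by
    intro n hn
    have h1 : (QuotientGroup.mk n : G ⧸ N) = 1 := (QuotientGroup.eq_one_iff n).2 hn
    change ((e (QuotientGroup.mk n) : ↥P) : G) = 1
    rw [h1, map_one]; rfl
  have hrp : ∀ p ∈ P, r p = p := by
    intro p hp
    change ((e (QuotientGroup.mk p) : ↥P) : G) = p
    rw [hrP ⟨p, hp⟩]
  have hrmem : ∀ g, r g ∈ P := fun g => (e (QuotientGroup.mk g)).2
  refine ⟨r, hrmem, hrp, ?_, hrN⟩
  intro g
  have h1 : r (g * (r g)⁻¹) = 1 := by
    rw [map_mul, map_inv, hrp _ (hrmem g), mul_inv_cancel]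
  have h2 : (e (QuotientGroup.mk (g * (r g)⁻¹)) : ↥P) = 1 := by
    apply Subtype.ext
    exact h1
  have h3 : (QuotientGroup.mk (g * (r g)⁻¹) : G ⧸ N) = 1 := by
    have := congrArg e.symm h2
    rwa [MulEquiv.symm_apply_apply, map_one] at this
  exact (QuotientGroup.eq_one_iff _).1 h3

/-- A central involution of `P` inverting `N`. -/
theorem exists_inverting_involution [Finite G] (N P : Subgroup G) (hN : N.Normal)
    (hcomm : ∀ a ∈ N, ∀ b ∈ N, a * b = b * a) (hP : IsPGroup 2 ↥P) (hP1 : P ≠ ⊥)
    (hdisj : N ⊓ P = ⊥) (hprod : N ⊔ P = ⊤) (hN1 : N ≠ ⊥)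
    (hmin : ∀ M : Subgroup G, M.Normal → M ≠ ⊥ → N ≤ M) :
    ∃ z ∈ P, z * z = 1 ∧ (∀ p ∈ P, z * p = p * z) ∧ ∀ n ∈ N, z * n * z⁻¹ = n⁻¹ := by
  have : Fact (Nat.Prime 2) := ⟨Nat.prime_two⟩
  have hPnt : Nontrivial ↥P := (Subgroup.nontrivial_iff_ne_bot P).2 hP1
  have hZnt : Nontrivial (Subgroup.center ↥P) := hP.center_nontrivial
  have h2dvd : 2 ∣ Nat.card (Subgroup.center ↥P) := by
    have hZp : IsPGroup 2 (Subgroup.center ↥P) := hP.to_subgroup _
    obtain ⟨k, hk⟩ := hZp.exists_card_eq
    rw [hk]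
    have hk0 : k ≠ 0 := by
      intro h0
      rw [h0, pow_zero] at hk
      have := Finite.one_lt_card_iff_nontrivial.2 hZnt
      omega
    exact dvd_pow_self 2 hk0
  obtain ⟨z₀, hz₀⟩ := exists_prime_orderOf_dvd_card' 2 h2dvd
  set z : G := ((z₀ : ↥P) : G) with hz
  have hzP : z ∈ P := (z₀ : ↥P).2
  have hzz : z * z = 1 := by
    have h1 : z₀ ^ 2 = 1 := by rw [← hz₀]; exact pow_orderOf_eq_one z₀
    have h2 : ((z₀ ^ 2 : Subgroup.center ↥P) : ↥P) = 1 := by rw [h1]; rfl
    have h3 : (((z₀ ^ 2 : Subgroup.center ↥P) : ↥P) : G) = 1 := by rw [h2]; rfl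
    simpa [pow_two] using h3
  have hz1 : z ≠ 1 := by
    intro h1
    have h2 : z₀ = 1 := by
      apply Subtype.ext
      apply Subtype.ext
      exact h1
    rw [h2, orderOf_one] at hz₀
    omega
  have hzc : ∀ p ∈ P, z * p = p * z := by
    intro p hp
    have h1 := (Subgroup.mem_center_iff.1 z₀.2) ⟨p, hp⟩
    have h2 := congrArg (fun x : ↥P => (x : G)) h1
    simpa using h2.symm
  have hzinv : z⁻¹ = z := inv_eq_of_mul_eq_one_right hzz
  -- the centralizer of `z` in `N` is normal
  set M : Subgroup G := N ⊓ Subgroup.centralizer {z} with hM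
  have hMn : M.Normal := by
    rw [← Subgroup.normalizer_eq_top_iff, eq_top_iff, ← hprod]
    apply sup_le
    · intro n hn
      rw [Subgroup.mem_normalizer_iff]
      intro h
      constructor
      · intro hh
        have hhN : h ∈ N := hh.1
        have : n * h * n⁻¹ = h := by rw [hcomm n hn h hhN, mul_assoc, mul_inv_cancel, mul_one]
        rw [this]; exact hh
      · intro hh
        have hhN : h ∈ N := by
          have := hN.conj_mem _ hh.1 n⁻¹
          simpa [mul_assoc] using this
        have : n * h * n⁻¹ = h := by rw [hcomm n hn h hhN, mul_assoc, mul_inv_cancel, mul_one]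
        rw [this] at hh; exact hh
    · intro p hp
      rw [Subgroup.mem_normalizer_iff]
      have key : ∀ q ∈ P, ∀ h ∈ M, q * h * q⁻¹ ∈ M := by
        intro q hq h hh
        refine ⟨hN.conj_mem _ hh.1 q, ?_⟩
        change q * h * q⁻¹ ∈ Subgroup.centralizer {z}
        rw [Subgroup.mem_centralizer_singleton_iff]
        have h1 : h * z = z * h := Subgroup.mem_centralizer_singleton_iff.1 hh.2
        have h2 : z * q = q * z := hzc q hq
        have h3 : z * q⁻¹ = q⁻¹ * z := hzc q⁻¹ (P.inv_mem hq)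
        calc q * h * q⁻¹ * z = q * h * (q⁻¹ * z) := by group
          _ = q * h * (z * q⁻¹) := by rw [h3]
          _ = q * (h * z) * q⁻¹ := by group
          _ = q * (z * h) * q⁻¹ := by rw [h1]
          _ = (q * z) * h * q⁻¹ := by group
          _ = (z * q) * h * q⁻¹ := by rw [h2]
          _ = z * (q * h * q⁻¹) := by group
      intro h
      constructor
      · exact key p hp h
      · intro hh
        have := key p⁻¹ (P.inv_mem hp) _ hh
        simpa [mul_assoc] using this
  have hMbot : M = ⊥ := by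
    by_contra hne
    have hNM : N ≤ M := hmin M hMn hne
    -- then `z` is central in `G`
    have hcen : ∀ g : G, g * z = z * g := by
      have : (⊤ : Subgroup G) ≤ Subgroup.centralizer {z} := by
        rw [← hprod]
        apply sup_le
        · exact hNM.trans inf_le_right
        · intro p hp
          rw [Subgroup.mem_centralizer_singleton_iff]
          exact (hzc p hp).symm
      intro g
      exact Subgroup.mem_centralizer_singleton_iff.1 (this (Subgroup.mem_top g))
    have hZn : (Subgroup.zpowers z).Normal := by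
      refine ⟨fun x hx g => ?_⟩
      have hxc : g * x = x * g := by
        obtain ⟨k, rfl⟩ := Subgroup.mem_zpowers_iff.1 hx
        exact ((Commute.zpow_right (hcen g) k))
      rw [hxc, mul_assoc, mul_inv_cancel, mul_one]
      exact hx
    have hZne : Subgroup.zpowers z ≠ ⊥ := by
      rw [Ne, Subgroup.zpowers_eq_bot]
      exact hz1
    have h1 : N ≤ Subgroup.zpowers z := hmin _ hZn hZne
    have h2 : Subgroup.zpowers z ≤ P := (Subgroup.zpowers_le).2 hzP
    apply hN1
    rw [eq_bot_iff, ← hdisj]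
    exact le_inf le_rfl (h1.trans h2)
  refine ⟨z, hzP, hzz, hzc, ?_⟩
  intro n hn
  set w : G := n * (z * n * z⁻¹) with hw
  have hznN : z * n * z⁻¹ ∈ N := hN.conj_mem n hn z
  have hwN : w ∈ N := N.mul_mem hn hznN
  have hwc : w ∈ Subgroup.centralizer {z} := by
    rw [Subgroup.mem_centralizer_singleton_iff]
    have h1 : z * (z * n * z⁻¹) * z⁻¹ = n := by
      rw [hzinv]
      calc z * (z * n * z) * z = (z * z) * n * (z * z) := by group
        _ = n := by rw [hzz]; group
    calc w * z = n * (z * n * z⁻¹) * z := rfl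
      _ = (z * n * z⁻¹) * n * z := by rw [hcomm n hn _ hznN]
      _ = z * (n * (z⁻¹ * n * z)) := by group
      _ = z * (n * (z * n * z⁻¹)) := by rw [hzinv]
      _ = z * w := rfl
  have hw1 : w = 1 := by
    have : w ∈ M := ⟨hwN, hwc⟩
    rw [hMbot] at this
    exact Subgroup.mem_bot.1 this
  exact (eq_inv_of_mul_eq_one_right hw1)

/-- A nontrivial linear character of a nontrivial abelian group. -/
theorem exists_hom_ne_one {A : Type u} [Group A] [Finite A] [Nontrivial A]
    (hcomm : ∀ a b : A, a * b = b * a) : ∃ l : A →* ℂˣ, l ≠ 1 := by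
  by_contra hcon
  push Not at hcon
  have h1 : Nat.card (A →* ℂˣ) = (commutator A).index := Helper74.Lin.card_hom
  have h2 : commutator A = ⊥ := by
    rw [commutator_def, Subgroup.commutator_eq_bot_iff_le_centralizer]
    intro a _
    rw [Subgroup.mem_centralizer_iff]
    intro b _
    exact hcomm b a
  rw [h2, Subgroup.index_bot] at h1
  have h3 : Nat.card (A →* ℂˣ) ≤ 1 := by
    have : Subsingleton (A →* ℂˣ) := ⟨fun a b => by rw [hcon a, hcon b]⟩
    exact Finite.card_le_one_iff_subsingleton.2 this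
  have h4 : 1 < Nat.card A := Finite.one_lt_card_iff_nontrivial.2 inferInstance
  omega

/-- The index of the normal complement is the order of `P`. -/
theorem index_eq_card (N P : Subgroup G) (hN : N.Normal) (hdisj : N ⊓ P = ⊥)
    (hprod : N ⊔ P = ⊤) : N.index = Nat.card ↥P := by
  have := hN
  have hc : P.IsComplement' N := by
    apply Subgroup.isComplement'_of_disjoint_and_mul_eq_univ
    · rw [disjoint_iff, inf_comm]; exact hdisj
    · rw [← Subgroup.mul_normal, sup_comm, hprod]; rfl
  exact hc.index_eq_card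

end Cfsg.Agent.Helper80.AvgDegA
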