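import Mathlib
import Cfsg.Prelude.Def_Characters
import Cfsg.Agent.Lib.Helper74.LinChar
import Cfsg.Agent.Lib.Helper81.CharCorr

/-!
# The canonical extension of a linear character of `N` to its inertia group in `N ⋊ P`
-/

set_option autoImplicit false

open Cfsg

namespace Cfsg.Agent.Helper80.AvgDegB

universe u

variable {G : Type u} [Group G]

/-- The inertia group of a function on a normal subgroup. -/
def inertia (N : Subgroup G) (hN : N.Normal) (θ : ↥N → ℂ) : Subgroup G where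
  carrier := {g | Helper81.conjFun N hN θ g = θ}
  mul_mem' := by
    intro a b ha hb
    simp only [Set.mem_ofPred_eq] at ha hb ⊢
    rw [← Helper81.conjFun_mul, ha, hb]
  one_mem' := Helper81.conjFun_one N hN θ
  inv_mem' := by
    intro a ha
    simp only [Set.mem_ofPred_eq] at ha ⊢
    have h1 := Helper81.conjFun_mul N hN θ a a⁻¹
    rw [ha, mul_inv_cancel, Helper81.conjFun_one] at h1
    exact h1

theorem mem_inertia (N : Subgroup G) (hN : N.Normal) (θ : ↥N → ℂ) (g : G) :
    g ∈ inertia N hN θ ↔ Helper81.conjFun N hN θ g = θ := Iff.rfl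

/-- The data: an abelian normal subgroup with a retraction of `G` killing it, and a linear
character of it. -/
structure Data (N : Subgroup G) where
  hN : N.Normal
  comm : ∀ a ∈ N, ∀ b ∈ N, a * b = b * a
  r : G →* G
  hr : ∀ g, g * (r g)⁻¹ ∈ N
  hrN : ∀ n ∈ N, r n = 1
  l : ↥N →* ℂˣ

namespace Data

variable {N : Subgroup G} (D : Data N)

/-- The linear character as a complex function. -/
noncomputable def theta : ↥N → ℂ := fun n => ((D.l n : ℂˣ) : ℂ)

theorem theta_isIrr : IsIrrCharacter ↥N D.theta := (Helper74.Lin.ofHom D.l).2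

/-- The inertia group of the linear character. -/
noncomputable def T : Subgroup G := inertia N D.hN D.theta

theorem mem_T_iff (g : G) :
    g ∈ D.T ↔ ∀ n : ↥N, D.l ⟨g * n * g⁻¹, D.hN.conj_mem n n.2 g⟩ = D.l n := by
  change Helper81.conjFun N D.hN D.theta g = D.theta ↔ _
  constructor
  · intro h n
    have := congrFun h n
    rw [Helper81.conjFun_apply] at this
    exact Units.ext this
  · intro h
    funext n
    rw [Helper81.conjFun_apply]
    change ((D.l _ : ℂˣ) : ℂ) = ((D.l n : ℂˣ) : ℂ)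
    rw [h n]

theorem N_le_T : N ≤ D.T := by
  intro a ha
  rw [mem_T_iff]
  intro n
  congr 1
  apply Subtype.ext
  change a * n * a⁻¹ = n
  rw [D.comm a ha n n.2, mul_assoc, mul_inv_cancel, mul_one]

theorem r_mem_T {t : G} (ht : t ∈ D.T) : D.r t ∈ D.T := by
  have h1 : (t * (D.r t)⁻¹)⁻¹ ∈ D.T := D.T.inv_mem (D.N_le_T (D.hr t))
  have h2 := D.T.mul_mem h1 ht
  have h3 : (t * (D.r t)⁻¹)⁻¹ * t = D.r t := by group
  rwa [h3] at h2

/-- The extension, as a function on `G`. -/
noncomputable def lhatFun (g : G) : ℂˣ := D.l ⟨g * (D.r g)⁻¹, D.hr g⟩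

theorem lhatFun_mul {t : G} (ht : t ∈ D.T) (g : G) :
    D.lhatFun (t * g) = D.lhatFun t * D.lhatFun g := by
  unfold lhatFun
  have hrt := (D.mem_T_iff (D.r t)).1 (D.r_mem_T ht) ⟨g * (D.r g)⁻¹, D.hr g⟩
  rw [← hrt, ← map_mul]
  congr 1
  apply Subtype.ext
  simp only [map_mul, Subgroup.coe_mul]
  group

theorem lhatFun_of_mem {n : G} (hn : n ∈ N) : D.lhatFun n = D.l ⟨n, hn⟩ := by
  unfold lhatFun
  congr 1
  apply Subtype.ext
  simp only [D.hrN n hn, inv_one, mul_one]

/-- The canonical extension of `l` to its inertia group. -/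
noncomputable def lhat : ↥D.T →* ℂˣ where
  toFun t := D.lhatFun (t : G)
  map_one' := by
    rw [Subgroup.coe_one, D.lhatFun_of_mem N.one_mem]
    exact map_one D.l
  map_mul' a b := by
    rw [Subgroup.coe_mul, D.lhatFun_mul a.2]

theorem lhat_apply (t : ↥D.T) : D.lhat t = D.lhatFun (t : G) := rfl

/-- The extension as a complex function on the inertia group. -/
noncomputable def psi : ↥D.T → ℂ := fun t => ((D.lhat t : ℂˣ) : ℂ)

theorem psi_isIrr : IsIrrCharacter ↥D.T D.psi := (Helper74.Lin.ofHom D.lhat).2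

theorem resTo_psi : Helper81.resTo D.N_le_T D.psi = D.theta := by
  funext n
  change ((D.lhatFun (n : G) : ℂˣ) : ℂ) = ((D.l n : ℂˣ) : ℂ)
  rw [D.lhatFun_of_mem n.2]

/-- If `g` inverts `l` then `g * g` lies in the inertia group and `lhat` is trivial on it. -/
theorem lhatFun_sq_of_inverts {g : G}
    (hg : ∀ n : ↥N, D.l ⟨g * n * g⁻¹, D.hN.conj_mem n n.2 g⟩ = (D.l n)⁻¹) :
    g * g ∈ D.T ∧ D.lhatFun (g * g) = 1 := by
  constructor
  · rw [mem_T_iff]
    intro n
    have h1 := hg ⟨g * n * g⁻¹, D.hN.conj_mem n n.2 g⟩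
    rw [hg n, inv_inv] at h1
    rw [← h1]
    congr 1
    apply Subtype.ext
    simp only
    group
  · have haN : g * (D.r g)⁻¹ ∈ N := D.hr g
    set a : G := g * (D.r g)⁻¹ with ha
    have hbN : g * a * g⁻¹ ∈ N := D.hN.conj_mem a haN g
    have hcomm : a⁻¹ * (g * a * g⁻¹) = (g * a * g⁻¹) * a⁻¹ :=
      D.comm _ (N.inv_mem haN) _ hbN
    have hel : g * g * (D.r (g * g))⁻¹ = a * (g * a * g⁻¹) := by
      rw [map_mul]
      calc g * g * (D.r g * D.r g)⁻¹ = a * (a⁻¹ * (g * a * g⁻¹) * a) := by rw [ha]; group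
        _ = a * (g * a * g⁻¹) := by rw [hcomm]; group
    have h1 := hg ⟨a, haN⟩
    unfold lhatFun
    have h2 : (⟨g * g * (D.r (g * g))⁻¹, D.hr (g * g)⟩ : ↥N) =
        ⟨a, haN⟩ * ⟨g * a * g⁻¹, hbN⟩ := Subtype.ext hel
    rw [h2, map_mul, h1, mul_inv_cancel]

end Data

end Cfsg.Agent.Helper80.AvgDegB
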