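import Mathlib
import Cfsg.Prelude.Def_Characters
import Cfsg.Agent.Lib.Helper80.AvgDegB

/-!
# The Frobenius–Schur sum of the character induced from the canonical extension
-/

set_option autoImplicit false

open Cfsg

namespace Cfsg.Agent.Helper80.AvgDegB

universe u

variable {G : Type u} [Group G]

namespace Data

variable {N : Subgroup G} (D : Data N)

/-- `g` inverts the linear character `l`. -/
def Inverts (g : G) : Prop :=
  ∀ n : ↥N, D.l ⟨g * n * g⁻¹, D.hN.conj_mem n n.2 g⟩ = (D.l n)⁻¹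

theorem inverts_inv {z : G} (hz : D.Inverts z) : D.Inverts z⁻¹ := by
  intro n
  have h1 := hz ⟨z⁻¹ * n * z⁻¹⁻¹, D.hN.conj_mem n n.2 z⁻¹⟩
  have h2 : (⟨z * (⟨z⁻¹ * n * z⁻¹⁻¹, D.hN.conj_mem n n.2 z⁻¹⟩ : ↥N) * z⁻¹,
      D.hN.conj_mem _ (D.hN.conj_mem n n.2 z⁻¹) z⟩ : ↥N) = n := by
    apply Subtype.ext
    simp only
    group
  rw [h2] at h1
  exact (inv_eq_iff_eq_inv.1 h1.symm)

theorem inverts_mul {t z : G} (ht : t ∈ D.T) (hz : D.Inverts z) : D.Inverts (t * z) := by
  intro n
  have h1 := (D.mem_T_iff t).1 ht ⟨z * n * z⁻¹, D.hN.conj_mem n n.2 z⟩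
  rw [hz n] at h1
  rw [← h1]
  congr 1
  apply Subtype.ext
  simp only
  group

theorem mem_T_of_inverts {g z : G} (hg : D.Inverts g) (hz : D.Inverts z) : g * z⁻¹ ∈ D.T := by
  rw [mem_T_iff]
  intro n
  have h0 := D.inverts_inv hz n
  have h1 := hg ⟨z⁻¹ * n * z⁻¹⁻¹, D.hN.conj_mem n n.2 z⁻¹⟩
  have h3 := h1.trans (by rw [h0, inv_inv (D.l n)])
  rw [← h3]
  congr 1
  apply Subtype.ext
  simp only
  group

/-- The elements inverting `l` form a coset of the inertia group. -/
theorem card_inverts [Finite G] {z : G} (hz : D.Inverts z) :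
    Nat.card {g : G // D.Inverts g} = Nat.card ↥D.T := by
  symm
  apply Nat.card_congr
  refine ⟨fun t => ⟨t.1 * z, D.inverts_mul t.2 hz⟩,
    fun g => ⟨g.1 * z⁻¹, D.mem_T_of_inverts g.2 hz⟩, ?_, ?_⟩
  · intro t
    apply Subtype.ext
    simp
  · intro g
    apply Subtype.ext
    simp

open Classical in
/-- The sum over an `N`-coset. -/
theorem sum_coset [Fintype ↥N] (g : G) :
    ∑ n : ↥N, extendByZero D.T D.psi (((n : G) * g) * ((n : G) * g)) =
      if D.Inverts g then (Fintype.card ↥N : ℂ) else 0 := by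
  -- the product character
  let cg : ↥N →* ↥N :=
    { toFun := fun n => ⟨g * n * g⁻¹, D.hN.conj_mem n n.2 g⟩
      map_one' := by apply Subtype.ext; simp
      map_mul' := by intro a b; apply Subtype.ext; simp only [Subgroup.coe_mul]; group }
  let m : ↥N →* ℂˣ := D.l * D.l.comp cg
  have hm : ∀ n, m n = D.l n * D.l ⟨g * n * g⁻¹, D.hN.conj_mem n n.2 g⟩ := fun n => rfl
  have hminv : m = 1 ↔ D.Inverts g := by
    constructor
    · intro h n
      have := DFunLike.congr_fun h n
      rw [hm] at this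
      exact (eq_inv_of_mul_eq_one_right this)
    · intro h
      ext n
      rw [hm, h n]
      simp
  have hsq : ∀ n : ↥N, ((n : G) * g) * ((n : G) * g) = ((n : G) * (g * n * g⁻¹)) * (g * g) := by
    intro n; group
  have hnT : ∀ n : ↥N, (n : G) * (g * n * g⁻¹) ∈ D.T := fun n =>
    D.N_le_T (N.mul_mem n.2 (D.hN.conj_mem n n.2 g))
  by_cases hgg : g * g ∈ D.T
  · have hterm : ∀ n : ↥N, extendByZero D.T D.psi (((n : G) * g) * ((n : G) * g)) =
        ((m n : ℂˣ) : ℂ) * ((D.lhatFun (g * g) : ℂˣ) : ℂ) := by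
      intro n
      have hmem : ((n : G) * g) * ((n : G) * g) ∈ D.T := by
        rw [hsq]; exact D.T.mul_mem (hnT n) hgg
      rw [Helper81.extendByZero_apply_mem D.T _ hmem]
      change ((D.lhatFun (((n : G) * g) * ((n : G) * g)) : ℂˣ) : ℂ) = _
      rw [hsq, D.lhatFun_mul (hnT n),
        D.lhatFun_of_mem (N.mul_mem n.2 (D.hN.conj_mem n n.2 g)), hm]
      have : (⟨(n : G) * (g * n * g⁻¹), N.mul_mem n.2 (D.hN.conj_mem n n.2 g)⟩ : ↥N) =
          n * ⟨g * n * g⁻¹, D.hN.conj_mem n n.2 g⟩ := rfl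
      rw [this, map_mul]
      push_cast
      ring
    simp only [hterm]
    rw [← Finset.sum_mul]
    have hsum := sum_hom_units ((Units.coeHom ℂ).comp m)
    have h1 : (∑ n : ↥N, ((m n : ℂˣ) : ℂ)) = ∑ n : ↥N, ((Units.coeHom ℂ).comp m) n := rfl
    rw [h1, hsum]
    have h2 : ((Units.coeHom ℂ).comp m = 1) ↔ m = 1 := by
      constructor
      · intro h
        ext n
        have := DFunLike.congr_fun h n
        simpa using this
      · intro h; rw [h]; rfl
    by_cases hinv : D.Inverts g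
    · rw [if_pos (h2.2 (hminv.2 hinv)), if_pos hinv, (D.lhatFun_sq_of_inverts hinv).2]
      simp
    · rw [if_neg (fun h => hinv (hminv.1 (h2.1 h))), if_neg hinv]
      simp
  · have hterm : ∀ n : ↥N, extendByZero D.T D.psi (((n : G) * g) * ((n : G) * g)) = 0 := by
      intro n
      apply Helper81.extendByZero_apply_not_mem
      intro hmem
      apply hgg
      rw [hsq] at hmem
      have := D.T.mul_mem (D.T.inv_mem (hnT n)) hmem
      rwa [inv_mul_cancel_left] at this
    simp only [hterm, Finset.sum_const_zero]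
    rw [if_neg]
    intro hinv
    exact hgg (D.lhatFun_sq_of_inverts hinv).1

/-- The Frobenius–Schur sum of the extension by zero of the canonical extension. -/
theorem sum_extend_sq [Fintype G] {z : G} (hz : D.Inverts z) :
    ∑ g : G, extendByZero D.T D.psi (g * g) = (Nat.card ↥D.T : ℂ) := by
  classical
  have : Fintype ↥N := Fintype.ofFinite _
  have hNne : (Fintype.card ↥N : ℂ) ≠ 0 := by exact_mod_cast Fintype.card_ne_zero
  have h1 : ∀ n : ↥N, ∑ g : G, extendByZero D.T D.psi (((n : G) * g) * ((n : G) * g)) =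
      ∑ g : G, extendByZero D.T D.psi (g * g) := by
    intro n
    exact Fintype.sum_equiv (Equiv.mulLeft (n : G)) _ _ (fun g => rfl)
  have h2 : (Fintype.card ↥N : ℂ) * ∑ g : G, extendByZero D.T D.psi (g * g) =
      ∑ g : G, ∑ n : ↥N, extendByZero D.T D.psi (((n : G) * g) * ((n : G) * g)) := by
    rw [Finset.sum_comm]
    simp only [h1, Finset.sum_const, Finset.card_univ, nsmul_eq_mul]
  simp only [D.sum_coset] at h2
  rw [← Finset.sum_filter, Finset.sum_const, nsmul_eq_mul] at h2
  have h3 : (Finset.univ.filter fun g : G => D.Inverts g).card = Nat.card ↥D.T := by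
    rw [← D.card_inverts hz, Nat.card_eq_fintype_card, Fintype.card_subtype]
  rw [h3, mul_comm] at h2
  exact mul_right_cancel₀ hNne h2

end Data

end Cfsg.Agent.Helper80.AvgDegB
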