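import Mathlib
import Cfsg.Agent.Lib.Helper80.Gallagher

/-!
# The Frobenius–Schur indicator of a Clifford-induced character (helper80)

* `idem_trace_zero` : an idempotent complex matrix of trace zero vanishes.
* `sum_mul_eq_zero_of_trace` : Schur orthogonality of matrix coefficients in the form
  `∑ n, A n * B n = 0` for two matrix representations with `∑ n, tr (A n) * tr (B n) = 0`.
* `fs_indFun` : `|G|⁻¹ ∑ g, (ind θ) (g²) = |I|⁻¹ ∑ g, θ° (g²)`.
* `sum_extend_sq` : if `I` is the stabilizer of the real-valued irreducible `φ = ψ|_N`, then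
  `∑ g : G, ψ° (g²) = ∑ i : I, ψ (i²)`.
-/

set_option autoImplicit false

namespace Cfsg.Agent.Helper80

open scoped ComplexConjugate Kronecker
open Cfsg

universe u

section LinAlg

/-- An idempotent complex matrix of trace zero vanishes. -/
theorem idem_trace_zero {ι : Type*} [Fintype ι] [DecidableEq ι] (e : Matrix ι ι ℂ)
    (he : e * e = e) (htr : e.trace = 0) : e = 0 := by
  set f : (ι → ℂ) →ₗ[ℂ] (ι → ℂ) := Matrix.toLin' e with hf
  have hidem : IsIdempotentElem f := by
    show f * f = f
    rw [hf, Module.End.mul_eq_comp, ← Matrix.toLin'_mul, he]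
  have htrf : LinearMap.trace ℂ (ι → ℂ) f = 0 := by
    rw [hf, Matrix.trace_toLin'_eq, htr]
  have h0 : f = 0 := (LinearMap.IsIdempotentElem.trace_eq_zero_iff hidem).1 htrf
  have h2 : Matrix.toLin' e = Matrix.toLin' 0 := by rw [← hf, h0, map_zero]
  exact Matrix.toLin'.injective h2

variable {N : Type u} [Group N] [Fintype N]

/-- Two matrix representations whose characters are "orthogonal without conjugation" have
vanishing Kronecker sum. -/
theorem sum_kronecker_eq_zero {d : ℕ} (A B : N → Matrix (Fin d) (Fin d) ℂ)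
    (hA : ∀ n m, A (n * m) = A n * A m) (hB : ∀ n m, B (n * m) = B n * B m)
    (h : ∑ n : N, (A n).trace * (B n).trace = 0) : ∑ n : N, (A n) ⊗ₖ (B n) = 0 := by
  classical
  have hfin : Finite N := Finite.of_fintype N
  have hNne : (Nat.card N : ℂ) ≠ 0 := by exact_mod_cast Nat.card_pos.ne'
  set Q : Matrix (Fin d × Fin d) (Fin d × Fin d) ℂ := ∑ n : N, (A n) ⊗ₖ (B n) with hQ
  have hQQ : Q * Q = (Nat.card N : ℂ) • Q := by
    have h1 : Q * Q = ∑ n : N, ∑ m : N, (A (n * m)) ⊗ₖ (B (n * m)) := by
      rw [hQ, Finset.sum_mul]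
      apply Finset.sum_congr rfl
      intro n _
      rw [Finset.mul_sum]
      apply Finset.sum_congr rfl
      intro m _
      rw [← Matrix.mul_kronecker_mul, hA, hB]
    have h2 : ∀ n : N, ∑ m : N, (A (n * m)) ⊗ₖ (B (n * m)) = Q := by
      intro n
      rw [hQ]
      exact Fintype.sum_equiv (Equiv.mulLeft n) _ _ (fun m => rfl)
    rw [h1]
    simp only [h2, Finset.sum_const, Finset.card_univ, Nat.card_eq_fintype_card]
    rw [← Nat.cast_smul_eq_nsmul ℂ]
  have htr : Q.trace = 0 := by
    rw [hQ, Matrix.trace_sum]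
    simp only [Matrix.trace_kronecker]
    exact h
  set e : Matrix (Fin d × Fin d) (Fin d × Fin d) ℂ := (Nat.card N : ℂ)⁻¹ • Q with he
  have hee : e * e = e := by
    rw [he, Matrix.smul_mul, Matrix.mul_smul, hQQ, smul_smul, smul_smul]
    congr 1
    field_simp
  have hetr : e.trace = 0 := by
    rw [he, Matrix.trace_smul, htr, smul_zero]
  have h0 := idem_trace_zero e hee hetr
  rw [he] at h0
  have := congrArg (fun X => (Nat.card N : ℂ) • X) h0
  simp only [smul_smul, smul_zero] at this
  rwa [mul_inv_cancel₀ hNne, one_smul] at this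

/-- Schur orthogonality in product form. -/
theorem sum_mul_eq_zero_of_trace {d : ℕ} (A B : N → Matrix (Fin d) (Fin d) ℂ)
    (hA : ∀ n m, A (n * m) = A n * A m) (hB : ∀ n m, B (n * m) = B n * B m)
    (h : ∑ n : N, (A n).trace * (B n).trace = 0) : ∑ n : N, A n * B n = 0 := by
  have hK := sum_kronecker_eq_zero A B hA hB h
  ext i j
  rw [Matrix.sum_apply, Matrix.zero_apply]
  simp only [Matrix.mul_apply]
  rw [Finset.sum_comm]
  apply Finset.sum_eq_zero
  intro k _
  have := congrFun (congrFun hK (i, k)) (k, j)
  rw [Matrix.sum_apply, Matrix.zero_apply] at this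
  simpa only [Matrix.kronecker_apply] using this

end LinAlg

section Ind

variable {G : Type u} [Group G] [Fintype G]

/-- The Frobenius–Schur sum of an induced function. -/
theorem fs_indFun (I : Subgroup G) (θ : ↥I → ℂ) :
    (Nat.card G : ℂ)⁻¹ * ∑ g : G, indFun I θ (g * g) =
      (Nat.card ↥I : ℂ)⁻¹ * ∑ g : G, extendByZero I θ (g * g) := by
  have hfin : Finite G := Finite.of_fintype G
  have hGne : (Nat.card G : ℂ) ≠ 0 := by exact_mod_cast Nat.card_pos.ne'
  have h1 : ∀ x : G, ∑ g : G, extendByZero I θ (x⁻¹ * (g * g) * x) =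
      ∑ g : G, extendByZero I θ (g * g) := by
    intro x
    refine Fintype.sum_equiv (MulAut.conj x⁻¹).toEquiv _ _ (fun g => ?_)
    congr 1
    simp only [MulEquiv.toEquiv_eq_coe, MulEquiv.coe_toEquiv, MulAut.conj_apply, inv_inv]
    group
  simp only [Helper81.indFun_apply]
  rw [← Finset.mul_sum, Finset.sum_comm]
  simp only [h1, Finset.sum_const, Finset.card_univ, nsmul_eq_mul, Nat.card_eq_fintype_card]
  rw [Nat.card_eq_fintype_card] at hGne
  field_simp

end Ind

section Main

variable {G : Type u} [Group G] [Fintype G]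

/-- If `I` is the stabilizer of the real-valued irreducible character `φ = ψ|_N`, then
`ψ°(g²)` summed over `G ∖ I` vanishes. -/
theorem sum_extend_sq (N I : Subgroup G) [Fintype ↥N] [Fintype ↥I] (hN : N.Normal) (hNI : N ≤ I)
    {d : ℕ} (ρ : Representation ℂ ↥I (Fin d → ℂ)) {φ : ↥N → ℂ} (hφ : IsIrrCharacter ↥N φ)
    (hres : ∀ n : ↥N, ρ.character (Subgroup.inclusion hNI n) = φ n)
    (hreal : ∀ n : ↥N, conj (φ n) = φ n)
    (hT : ∀ g : G, g ∈ I ↔ Helper81.conjFun N hN φ g = φ) :
    ∑ g : G, extendByZero I ρ.character (g * g) = ∑ i : ↥I, ρ.character (i * i) := by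
  classical
  have hfinN : Finite ↥N := Finite.of_fintype _
  have hNne : (Nat.card ↥N : ℂ) ≠ 0 := by exact_mod_cast Nat.card_pos.ne'
  let M : ↥I → Matrix (Fin d) (Fin d) ℂ := fun y => LinearMap.toMatrix' (ρ y)
  have hMmul : ∀ y z, M (y * z) = M y * M z := by
    intro y z
    simp only [M, map_mul]
    exact LinearMap.toMatrix'_mul _ _
  have htr : ∀ y, ρ.character y = (M y).trace := by
    intro y
    simp only [Representation.character, M]
    rw [← Matrix.trace_toLin'_eq, Matrix.toLin'_toMatrix']
  -- key vanishing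
  have hkey : ∀ g : G, g ∉ I →
      ∑ n : ↥N, extendByZero I ρ.character (((n : G) * g) * ((n : G) * g)) = 0 := by
    intro g hg
    by_cases hgg : g * g ∈ I
    · -- matrices
      let A : ↥N → Matrix (Fin d) (Fin d) ℂ := fun n => M (Subgroup.inclusion hNI n)
      let B : ↥N → Matrix (Fin d) (Fin d) ℂ :=
        fun n => M ⟨g * n * g⁻¹, hNI (hN.conj_mem n n.2 g)⟩
      have hA : ∀ n m, A (n * m) = A n * A m := by
        intro n m
        simp only [A, map_mul, hMmul]
      have hB : ∀ n m, B (n * m) = B n * B m := by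
        intro n m
        simp only [B]
        rw [← hMmul]
        congr 1
        apply Subtype.ext
        simp only [Subgroup.coe_mul]
        group
      have htrace : ∑ n : ↥N, (A n).trace * (B n).trace = 0 := by
        have hne : Helper81.conjFun N hN φ g ≠ φ := fun h => hg ((hT g).2 h)
        have horth : classInner φ (Helper81.conjFun N hN φ g) = 0 := by
          rw [Helper81.irr_orthonormal hφ (Helper81.conjFun_isIrrCharacter N hN hφ g),
            if_neg (Ne.symm hne)]
        unfold classInner at horth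
        rcases mul_eq_zero.1 horth with h | h
        · exact absurd (inv_eq_zero.1 h) hNne
        · rw [← h]
          apply Finset.sum_congr rfl
          intro n _
          simp only [A, B]
          rw [← htr, ← htr, hres, Helper81.conjFun_apply, hreal]
          congr 1
          exact hres ⟨g * n * g⁻¹, hN.conj_mem n n.2 g⟩
      have hzero := sum_mul_eq_zero_of_trace A B hA hB htrace
      have hterm : ∀ n : ↥N, extendByZero I ρ.character (((n : G) * g) * ((n : G) * g)) =
          ((A n * B n) * M ⟨g * g, hgg⟩).trace := by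
        intro n
        have hmem : ((n : G) * g) * ((n : G) * g) ∈ I := by
          have : ((n : G) * g) * ((n : G) * g) = (n : G) * (g * n * g⁻¹) * (g * g) := by group
          rw [this]
          exact I.mul_mem (I.mul_mem (hNI n.2) (hNI (hN.conj_mem n n.2 g))) hgg
        rw [Helper81.extendByZero_apply_mem I _ hmem, htr]
        simp only [A, B]
        rw [← hMmul, ← hMmul]
        congr 2
        apply Subtype.ext
        simp only [Subgroup.coe_mul, Subgroup.coe_inclusion]
        group
      simp only [hterm]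
      rw [← Matrix.trace_sum, ← Finset.sum_mul, hzero, Matrix.zero_mul, Matrix.trace_zero]
    · apply Finset.sum_eq_zero
      intro n _
      apply Helper81.extendByZero_apply_not_mem
      intro hmem
      apply hgg
      have : g * g = (g * n * g⁻¹)⁻¹ * ((n : G)⁻¹ * (((n : G) * g) * ((n : G) * g))) := by group
      rw [this]
      exact I.mul_mem (I.inv_mem (hNI (hN.conj_mem n n.2 g)))
        (I.mul_mem (I.inv_mem (hNI n.2)) hmem)
  -- split
  set F₀ : G → ℂ := fun g => if g ∈ I then 0 else extendByZero I ρ.character (g * g) with hF₀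
  have hsplit : ∀ g : G, extendByZero I ρ.character (g * g) =
      extendByZero I (fun i : ↥I => ρ.character (i * i)) g * 1 + F₀ g := by
    intro g
    by_cases hg : g ∈ I
    · rw [Helper81.extendByZero_apply_mem I _ hg,
        Helper81.extendByZero_apply_mem I _ (I.mul_mem hg hg)]
      simp only [hF₀, if_pos hg, add_zero, mul_one]
      rfl
    · rw [Helper81.extendByZero_apply_not_mem I _ hg]
      simp only [hF₀, if_neg hg, zero_mul, zero_add]
  have hF₀sum : ∑ g : G, F₀ g = 0 := by
    have h1 : ∀ n : ↥N, ∑ g : G, F₀ ((n : G) * g) = ∑ g : G, F₀ g := by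
      intro n
      exact Fintype.sum_equiv (Equiv.mulLeft (n : G)) _ _ (fun g => rfl)
    have h2 : (Nat.card ↥N : ℂ) * ∑ g : G, F₀ g = ∑ n : ↥N, ∑ g : G, F₀ ((n : G) * g) := by
      simp only [h1, Finset.sum_const, Finset.card_univ, nsmul_eq_mul, Nat.card_eq_fintype_card]
    have h3 : ∑ n : ↥N, ∑ g : G, F₀ ((n : G) * g) = 0 := by
      rw [Finset.sum_comm]
      apply Finset.sum_eq_zero
      intro g _
      by_cases hg : g ∈ I
      · apply Finset.sum_eq_zero
        intro n _
        simp only [hF₀]
        rw [if_pos (I.mul_mem (hNI n.2) hg)]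
      · have hng : ∀ n : ↥N, (n : G) * g ∉ I := by
          intro n hmem
          apply hg
          have : g = (n : G)⁻¹ * ((n : G) * g) := by group
          rw [this]
          exact I.mul_mem (I.inv_mem (hNI n.2)) hmem
        simp only [hF₀, if_neg (hng _)]
        exact hkey g hg
    rw [h3] at h2
    rcases mul_eq_zero.1 h2 with h | h
    · exact absurd h hNne
    · exact h
  simp only [hsplit]
  rw [Finset.sum_add_distrib, hF₀sum, add_zero, Helper81.sum_extendByZero_mul]
  simp

end Main

end Cfsg.Agent.Helper80
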