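import Mathlib
import Cfsg.Prelude.Def_Characters
import Cfsg.Prelude.Def_Blocks
import Cfsg.Agent.Lib.Helper80.AvgDegC
import Cfsg.Agent.Lib.Helper80.FSInduced
import Cfsg.Agent.Lib.Helper80.Gallagher

/-!
# The induced character: irreducible, of degree the index of the inertia group, indicator `+1`
-/

set_option autoImplicit false

open Cfsg

namespace Cfsg.Agent.Helper80.AvgDegB

universe u

variable {G : Type u} [Group G]

namespace Data

variable {N : Subgroup G} (D : Data N)

/-- The induced character. -/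
noncomputable def chi0 [Fintype G] : G → ℂ := indFun D.T D.psi

theorem chi0_isIrr [Fintype G] : IsIrrCharacter G D.chi0 := by
  classical
  have : Fintype ↥N := Fintype.ofFinite _
  have : Fintype ↥D.T := Fintype.ofFinite _
  have hne : classInner (Helper81.resTo D.N_le_T D.psi) D.theta ≠ 0 := by
    rw [D.resTo_psi, Helper81.irr_orthonormal D.theta_isIrr D.theta_isIrr, if_pos rfl]
    exact one_ne_zero
  exact (Helper81.clifford_corr_irr N D.T D.hN D.N_le_T D.theta_isIrr (fun g => Iff.rfl)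
    D.psi_isIrr hne).1

theorem chi0_one [Fintype G] : D.chi0 1 = (D.T.index : ℂ) := by
  have hfin : Finite G := Finite.of_fintype G
  change indFun D.T D.psi 1 = _
  rw [Helper81.indFun_apply]
  have hx : ∀ x : G, extendByZero D.T D.psi (x⁻¹ * 1 * x) = 1 := by
    intro x
    have hx : x⁻¹ * 1 * x ∈ D.T := by simp
    rw [Helper81.extendByZero_apply_mem D.T _ hx]
    have : (⟨x⁻¹ * 1 * x, hx⟩ : ↥D.T) = 1 := by
      apply Subtype.ext
      simp
    rw [this]
    change ((D.lhat 1 : ℂˣ) : ℂ) = 1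
    rw [map_one]; rfl
  simp only [hx, Finset.sum_const, Finset.card_univ, nsmul_eq_mul]
  rw [mul_one]
  have hcard : Nat.card G = Nat.card ↥D.T * D.T.index := (Subgroup.card_mul_index D.T).symm
  have hI0 : (Nat.card ↥D.T : ℂ) ≠ 0 := by exact_mod_cast Nat.card_pos.ne'
  rw [← Nat.card_eq_fintype_card, hcard]
  push_cast
  field_simp

theorem charDegree_chi0 [Fintype G] : charDegree D.chi0 = D.T.index := by
  unfold charDegree
  rw [D.chi0_one, Complex.natCast_re, Nat.floor_natCast]

theorem fs_chi0 [Fintype G] {z : G} (hz : D.Inverts z) :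
    (Nat.card G : ℂ)⁻¹ * ∑ g : G, D.chi0 (g * g) = 1 := by
  have hfin : Finite G := Finite.of_fintype G
  change (Nat.card G : ℂ)⁻¹ * ∑ g : G, indFun D.T D.psi (g * g) = 1
  rw [fs_indFun, D.sum_extend_sq hz]
  have hI0 : (Nat.card ↥D.T : ℂ) ≠ 0 := by exact_mod_cast Nat.card_pos.ne'
  field_simp

/-- A linear character of `G` fixing `chi0` under twisting is trivial on the inertia group. -/
theorem stab_trivial [Fintype G] (μ : G →* ℂˣ) (hμN : ∀ n ∈ N, μ n = 1)
    (h : ∀ g, ((μ g : ℂˣ) : ℂ) * D.chi0 g = D.chi0 g) : ∀ t ∈ D.T, μ t = 1 := by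
  classical
  have : Fintype ↥N := Fintype.ofFinite _
  have : Fintype ↥D.T := Fintype.ofFinite _
  set ν : ↥D.T →* ℂˣ := μ.comp D.T.subtype with hν
  have hind : indFun D.T (fun t : ↥D.T => ((μ (t : G) : ℂˣ) : ℂ) * D.psi t) =
      indFun D.T D.psi := by
    funext g
    rw [indFun_twist]
    exact h g
  have hfun : (fun t : ↥D.T => ((μ (t : G) : ℂˣ) : ℂ) * D.psi t) =
      fun t => (((ν * D.lhat) t : ℂˣ) : ℂ) := by
    funext t
    simp [hν, psi]
  have hirr' : IsIrrCharacter ↥D.T (fun t : ↥D.T => ((μ (t : G) : ℂˣ) : ℂ) * D.psi t) := by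
    rw [hfun]
    exact (Helper74.Lin.ofHom (ν * D.lhat)).2
  have hθθ : classInner D.theta D.theta ≠ 0 := by
    rw [Helper81.irr_orthonormal D.theta_isIrr D.theta_isIrr, if_pos rfl]
    exact one_ne_zero
  have hres' : Helper81.resTo D.N_le_T (fun t : ↥D.T => ((μ (t : G) : ℂˣ) : ℂ) * D.psi t) =
      D.theta := by
    funext n
    change ((μ (n : G) : ℂˣ) : ℂ) * Helper81.resTo D.N_le_T D.psi n = _
    rw [D.resTo_psi, hμN n n.2]
    simp
  have hne' : classInner (Helper81.resTo D.N_le_T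
      (fun t : ↥D.T => ((μ (t : G) : ℂˣ) : ℂ) * D.psi t)) D.theta ≠ 0 := by
    rw [hres']; exact hθθ
  have hne : classInner (Helper81.resTo D.N_le_T D.psi) D.theta ≠ 0 := by
    rw [D.resTo_psi]; exact hθθ
  have heq := Helper81.clifford_corr_inj N D.T D.hN D.N_le_T D.theta_isIrr (fun g => Iff.rfl)
    hirr' D.psi_isIrr hne' hne hind
  intro t ht
  have h1 := congrFun heq ⟨t, ht⟩
  simp only [psi] at h1
  have h2 : ((D.lhat ⟨t, ht⟩ : ℂˣ) : ℂ) ≠ 0 := Units.ne_zero _
  have h3 : ((μ t : ℂˣ) : ℂ) = 1 := by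
    have := mul_right_cancel₀ h2 (h1.trans (one_mul _).symm)
    exact this
  exact Units.ext h3

end Data

end Cfsg.Agent.Helper80.AvgDegB
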