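import Mathlib
import Cfsg.Prelude.Def_Characters
import Cfsg.Prelude.Def_Blocks
import Cfsg.Agent.Lib.Helper80.AvgDegD

/-!
# Counting real linear characters against the orbit of the induced character
-/

set_option autoImplicit false

open Cfsg

namespace Cfsg.Agent.Helper80.AvgDegB

universe u

variable {G : Type u} [Group G]

/-- The Frobenius–Schur sum, in the form of the statement. -/
noncomputable def fsum (χ : G → ℂ) : ℂ := (Nat.card G : ℂ)⁻¹ * ∑ᶠ g : G, χ (g * g)

/-- The linear characters of order at most two. -/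
def realLin (G : Type u) [Group G] : Subgroup (G →* ℂˣ) :=
  (powMonoidHom 2 : (G →* ℂˣ) →* (G →* ℂˣ)).ker

theorem mem_realLin (μ : G →* ℂˣ) : μ ∈ realLin G ↔ ∀ g, μ g * μ g = 1 := by
  unfold realLin
  rw [MonoidHom.mem_ker, powMonoidHom_apply]
  constructor
  · intro h g
    have := DFunLike.congr_fun h g
    simpa [pow_two] using this
  · intro h
    ext g
    simp [pow_two, h g]

theorem realLin_sq {μ : G →* ℂˣ} (hμ : μ ∈ realLin G) (g : G) : μ (g * g) = 1 := by
  rw [map_mul]; exact (mem_realLin μ).1 hμ g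

theorem realLin_odd {μ : G →* ℂˣ} (hμ : μ ∈ realLin G) {n : G} {k : ℕ}
    (hn : n ^ (2 * k + 1) = 1) : μ n = 1 := by
  have h1 : μ n ^ (2 * k + 1) = 1 := by rw [← map_pow, hn, map_one]
  have h2 : μ n ^ 2 = 1 := by rw [pow_two]; exact (mem_realLin μ).1 hμ n
  rw [pow_succ, pow_mul, h2, one_pow, one_mul] at h1
  exact h1

theorem fsum_smul [Finite G] {μ : G →* ℂˣ} (hμ : μ ∈ realLin G) (χ : IrrCharacter G) :
    fsum ((μ • χ : IrrCharacter G) : G → ℂ) = fsum (χ : G → ℂ) := by
  unfold fsum
  congr 2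
  funext g
  rw [Helper74.Lin.smul_apply, realLin_sq hμ]
  simp

theorem charDegree_smul (μ : G →* ℂˣ) (χ : IrrCharacter G) :
    charDegree ((μ • χ : IrrCharacter G) : G → ℂ) = charDegree (χ : G → ℂ) := by
  unfold charDegree
  rw [Helper74.Lin.smul_apply, map_one]
  simp

/-- A linear character with Frobenius–Schur sum `1` has order at most two. -/
theorem toHom_mem_realLin [Finite G] (χ : IrrCharacter G) (h1 : (χ : G → ℂ) 1 = 1)
    (hfs : fsum (χ : G → ℂ) = 1) : Helper74.Lin.toHom χ h1 ∈ realLin G := by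
  classical
  have := Fintype.ofFinite G
  set μ := Helper74.Lin.toHom χ h1 with hμ
  change μ ^ 2 = 1
  by_contra hne
  have hne' : (Units.coeHom ℂ).comp (μ ^ 2) ≠ 1 := by
    intro h
    apply hne
    ext g
    have := DFunLike.congr_fun h g
    simpa using this
  have hsum := sum_hom_units_eq_zero _ hne'
  unfold fsum at hfs
  rw [finsum_eq_sum_of_fintype] at hfs
  have h2 : ∀ g : G, (χ : G → ℂ) (g * g) = ((Units.coeHom ℂ).comp (μ ^ 2)) g := by
    intro g
    rw [← Helper74.Lin.toHom_apply χ h1 (g * g)]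
    simp [pow_two, hμ]
  simp only [h2] at hfs
  rw [hsum, mul_zero] at hfs
  exact zero_ne_one hfs

namespace Data

variable {N : Subgroup G} (D : Data N)

/-- Real linear characters are at most `[G : T]` times the strongly real characters of degree
`[G : T]`. -/
theorem card_real_linear_le [Finite G] {z : G} (hz : D.Inverts z)
    (hodd : ∀ n ∈ N, ∃ k : ℕ, n ^ (2 * k + 1) = 1) :
    Nat.card {χ : IrrCharacter G // charDegree (χ : G → ℂ) = 1 ∧ fsum (χ : G → ℂ) = 1} ≤
      D.T.index * Nat.card {χ : IrrCharacter G //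
        charDegree (χ : G → ℂ) = D.T.index ∧ fsum (χ : G → ℂ) = 1} := by
  classical
  have := Fintype.ofFinite G
  set χ₀ : IrrCharacter G := ⟨D.chi0, D.chi0_isIrr⟩ with hχ₀
  have hdeg0 : charDegree (χ₀ : G → ℂ) = D.T.index := D.charDegree_chi0
  have hfs0 : fsum (χ₀ : G → ℂ) = 1 := by
    unfold fsum
    rw [finsum_eq_sum_of_fintype]
    exact D.fs_chi0 hz
  -- step 1: real linear characters inject into `realLin G`
  have h1 : Nat.card {χ : IrrCharacter G // charDegree (χ : G → ℂ) = 1 ∧ fsum (χ : G → ℂ) = 1} ≤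
      Nat.card (realLin G) := by
    have hone : ∀ χ : {χ : IrrCharacter G // charDegree (χ : G → ℂ) = 1 ∧
        fsum (χ : G → ℂ) = 1}, (χ.1 : G → ℂ) 1 = 1 := by
      intro χ
      rw [irr_one, χ.2.1]; simp
    apply Nat.card_le_card_of_injective
      (fun χ : {χ : IrrCharacter G // charDegree (χ : G → ℂ) = 1 ∧ fsum (χ : G → ℂ) = 1} =>
        (⟨Helper74.Lin.toHom χ.1 (hone χ), toHom_mem_realLin χ.1 (hone χ) χ.2.2⟩ :
        realLin G))
    intro a b hab
    have h' : Helper74.Lin.toHom a.1 (hone a) = Helper74.Lin.toHom b.1 (hone b) :=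
      congrArg (fun x : realLin G => x.1) hab
    apply Subtype.ext
    rw [← Helper74.Lin.ofHom_toHom a.1 (hone a), ← Helper74.Lin.ofHom_toHom b.1 (hone b), h']
  -- step 2: orbit-stabilizer
  have hstab : ∀ μ : realLin G, μ • χ₀ = χ₀ → ∀ t ∈ D.T, μ.1 t = 1 := by
    intro μ hμ
    apply D.stab_trivial μ.1
    · intro n hn
      obtain ⟨k, hk⟩ := hodd n hn
      exact realLin_odd μ.2 hk
    · intro g
      have h2 : ((μ • χ₀ : IrrCharacter G) : G → ℂ) g = (χ₀ : G → ℂ) g := by rw [hμ]
      exact h2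
  have hidx : (MulAction.stabilizer (realLin G) χ₀).index =
      (MulAction.orbit (realLin G) χ₀).ncard := MulAction.index_stabilizer _ _
  have hmul := Subgroup.card_mul_index (MulAction.stabilizer (realLin G) χ₀)
  have hstabcard : Nat.card (MulAction.stabilizer (realLin G) χ₀) ≤ D.T.index := by
    refine le_trans ?_ (card_hom_trivial_on_le D.T)
    apply Nat.card_le_card_of_injective
      (fun μ : MulAction.stabilizer (realLin G) χ₀ =>
        (⟨μ.1.1, hstab μ.1 μ.2⟩ : {μ : G →* ℂˣ // ∀ i ∈ D.T, μ i = 1}))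
    intro a b h
    have h' : a.1.1 = b.1.1 :=
      congrArg (fun z : {μ : G →* ℂˣ // ∀ i ∈ D.T, μ i = 1} => z.1) h
    exact Subtype.ext (Subtype.ext h')
  have horb : (MulAction.orbit (realLin G) χ₀).ncard ≤ Nat.card {χ : IrrCharacter G //
      charDegree (χ : G → ℂ) = D.T.index ∧ fsum (χ : G → ℂ) = 1} := by
    rw [← Nat.card_coe_set_eq]
    apply Nat.card_le_card_of_injective
      (fun x : MulAction.orbit (realLin G) χ₀ =>
        (⟨x.1, by
          obtain ⟨μ, hμ⟩ := x.2
          rw [← hμ]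
          change charDegree ((μ.1 • χ₀ : IrrCharacter G) : G → ℂ) = _ ∧
            fsum ((μ.1 • χ₀ : IrrCharacter G) : G → ℂ) = 1
          rw [charDegree_smul, fsum_smul μ.2]
          exact ⟨hdeg0, hfs0⟩⟩ : {χ : IrrCharacter G //
            charDegree (χ : G → ℂ) = D.T.index ∧ fsum (χ : G → ℂ) = 1}))
    intro a b h
    have h' : a.1 = b.1 :=
      congrArg (fun z : {χ : IrrCharacter G //
        charDegree (χ : G → ℂ) = D.T.index ∧ fsum (χ : G → ℂ) = 1} => z.1) h
    exact Subtype.ext h'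
  refine h1.trans ?_
  rw [← hmul, hidx]
  exact Nat.mul_le_mul hstabcard horb

end Data

end Cfsg.Agent.Helper80.AvgDegB
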