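import Mathlib
import Cfsg.Prelude.Def_Characters
import Cfsg.Agent.Lib.Helper80.FrobSchur3

/-!
# Odd fixed-point multiplicity forces Frobenius–Schur indicator `≠ -1` (helper80)

* `even_of_skew_selfadjoint_proj` : an idempotent matrix `P` which is self-adjoint for an
  invertible skew-symmetric matrix `W` (`Pᵀ W = W P`) has even trace (= rank).
* `fs_ne_neg_one_of_odd_fixed` : if a real-valued irreducible character `χ` of `G` has odd
  multiplicity of the trivial character on some subgroup `Q`, then `ν(χ) ≠ -1`.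
-/

set_option autoImplicit false

namespace Cfsg.Agent.Helper80

open Cfsg Matrix
open scoped ComplexConjugate

universe u

section LinAlgEven

/-- An idempotent which is self-adjoint with respect to a nondegenerate alternating form has even
rank. Matrix version. -/
theorem even_of_skew_selfadjoint_proj {n : ℕ} (W P : Matrix (Fin n) (Fin n) ℂ)
    (hW : IsUnit W.det) (hskew : Wᵀ = -W) (hP : P * P = P) (hadj : Pᵀ * W = W * P)
    (a : ℕ) (htr : P.trace = (a : ℂ)) : Even a := by
  classical
  set f : (Fin n → ℂ) →ₗ[ℂ] (Fin n → ℂ) := Matrix.toLin' P with hf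
  have hidem : IsIdempotentElem f := by
    show f * f = f
    rw [hf, Module.End.mul_eq_comp, ← Matrix.toLin'_mul, hP]
  have htrf : LinearMap.trace ℂ (Fin n → ℂ) f = (a : ℂ) := by
    rw [hf, Matrix.trace_toLin'_eq, htr]
  set E : Submodule ℂ (Fin n → ℂ) := LinearMap.range f with hE
  have hrank : Module.finrank ℂ E = a := by
    have := (LinearMap.IsIdempotentElem.isProj_range f hidem).trace
    rw [htrf] at this
    exact_mod_cast this.symm
  -- elements of `E` are fixed by `P`
  have hfix : ∀ v ∈ E, P *ᵥ v = v := by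
    rintro v ⟨w, rfl⟩
    rw [hf, Matrix.toLin'_apply, Matrix.mulVec_mulVec, hP]
  have hmemE : ∀ w : Fin n → ℂ, P *ᵥ w ∈ E := fun w => ⟨w, by rw [hf, Matrix.toLin'_apply]⟩
  set b := Module.finBasis ℂ E with hb
  set d := Module.finrank ℂ E with hd
  -- the Gram matrix
  set U : Matrix (Fin n) (Fin d) ℂ := fun i j => (b j : Fin n → ℂ) i with hU
  set S : Matrix (Fin d) (Fin d) ℂ := Uᵀ * W * U with hS
  have hSskew : Sᵀ = -S := by
    rw [hS, Matrix.transpose_mul, Matrix.transpose_mul, Matrix.transpose_transpose, hskew]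
    simp [Matrix.mul_assoc]
  have hUc : ∀ c : Fin d → ℂ, U *ᵥ c = ((∑ j, c j • b j : E) : Fin n → ℂ) := by
    intro c
    funext i
    simp only [Matrix.mulVec, dotProduct, hU, Submodule.coe_sum, Submodule.coe_smul,
      Finset.sum_apply, Pi.smul_apply, smul_eq_mul]
    apply Finset.sum_congr rfl
    intro j _
    ring
  have hdet : S.det ≠ 0 := by
    intro h0
    obtain ⟨c, hc0, hc⟩ := Matrix.exists_mulVec_eq_zero_iff.2 h0
    set v : E := ∑ j, c j • b j with hv
    have hvne : v ≠ 0 := by
      intro h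
      apply hc0
      have := (Fintype.linearIndependent_iff.1 b.linearIndependent) c (by rw [← hv, h])
      funext j
      exact this j
    have hUv : U *ᵥ c = (v : Fin n → ℂ) := hUc c
    -- `b j ⬝ W v = 0`
    have h1 : ∀ j : Fin d, (b j : Fin n → ℂ) ⬝ᵥ (W *ᵥ (v : Fin n → ℂ)) = 0 := by
      intro j
      have := congrFun hc j
      rw [hS, ← Matrix.mulVec_mulVec, ← Matrix.mulVec_mulVec, hUv] at this
      simp only [Matrix.mulVec, Matrix.transpose_apply, Pi.zero_apply] at this
      rw [← this]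
    have h2 : ∀ u ∈ E, u ⬝ᵥ (W *ᵥ (v : Fin n → ℂ)) = 0 := by
      intro u hu
      have hrep := b.sum_repr ⟨u, hu⟩
      have hu' : u = ∑ j, (b.repr ⟨u, hu⟩ j) • (b j : Fin n → ℂ) := by
        have := congrArg (fun x : E => (x : Fin n → ℂ)) hrep
        simp only [Submodule.coe_sum, Submodule.coe_smul] at this
        exact this.symm
      rw [hu', sum_dotProduct]
      apply Finset.sum_eq_zero
      intro j _
      rw [smul_dotProduct, h1 j, smul_zero]
    have h3 : W *ᵥ (v : Fin n → ℂ) = 0 := by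
      funext i
      have hvfix := hfix (v : Fin n → ℂ) v.2
      have h4 : (Pi.single i (1 : ℂ) : Fin n → ℂ) ⬝ᵥ (W *ᵥ (v : Fin n → ℂ)) = 0 := by
        have e1 : W *ᵥ (v : Fin n → ℂ) = Pᵀ *ᵥ (W *ᵥ (v : Fin n → ℂ)) := by
          conv_lhs => rw [← hvfix]
          rw [Matrix.mulVec_mulVec, ← hadj, ← Matrix.mulVec_mulVec]
        rw [e1, Matrix.dotProduct_mulVec, Matrix.vecMul_transpose]
        exact h2 _ (hmemE _)
      simpa using h4
    have hWu : IsUnit W := (Matrix.isUnit_iff_isUnit_det _).2 hW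
    have hinj := (Matrix.mulVec_injective_iff_isUnit).2 hWu
    have : (v : Fin n → ℂ) = 0 := hinj (by rw [h3, Matrix.mulVec_zero])
    exact hvne (Subtype.ext this)
  have h5 : S.det = (-1) ^ d * S.det := by
    conv_lhs => rw [← Matrix.det_transpose, hSskew, Matrix.det_neg, Fintype.card_fin]
  have h6 : ((-1 : ℂ)) ^ d = 1 := by
    have : (1 - (-1 : ℂ) ^ d) * S.det = 0 := by linear_combination h5
    rcases mul_eq_zero.1 this with h | h
    · linear_combination -h
    · exact absurd h hdet
  have h7 : Even d := by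
    rcases Nat.even_or_odd d with h | h
    · exact h
    · rw [h.neg_one_pow] at h6
      norm_num at h6
  rw [← hrank]
  exact h7

end LinAlgEven

section FSOdd

variable {G : Type u} [Group G] [Fintype G]

/-- If the trivial character of a subgroup `Q` occurs with odd multiplicity in the restriction of
a real-valued irreducible character `χ`, then the Frobenius–Schur indicator of `χ` is not `-1`. -/
theorem fs_ne_neg_one_of_odd_fixed (Q : Subgroup G) [Fintype Q] {χ : G → ℂ}
    (hχ : IsIrrCharacter G χ) (hreal : ∀ g, conj (χ g) = χ g) (a : ℕ)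
    (hm : (Nat.card Q : ℂ)⁻¹ * ∑ h : Q, χ h = (a : ℂ)) (hodd : Odd a) :
    (Nat.card G : ℂ)⁻¹ * ∑ s : G, χ (s * s) ≠ -1 := by
  classical
  intro hν
  obtain ⟨n, ρ, hρ, rfl⟩ := hχ
  have hreal' : ∀ g, ρ.character g⁻¹ = ρ.character g := by
    intro g
    rw [character_inv_eq_conj ρ g]
    exact hreal g
  obtain ⟨ε, B, hε, hsum, hdet, hB, hBt⟩ := frobenius_schur_form ρ hρ hreal'
  have hne : (Nat.card G : ℂ) ≠ 0 := by exact_mod_cast Nat.card_pos.ne'
  have hεm : ε = -1 := by
    rw [hsum] at hν
    rw [← hν]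
    field_simp
  rw [hεm] at hBt
  let M : G → Matrix (Fin n) (Fin n) ℂ := fun x => LinearMap.toMatrix' (ρ x)
  have hM1 : M 1 = 1 := by simp [M]
  have hMmul : ∀ x y, M (x * y) = M x * M y := by
    intro x y
    simp only [M, map_mul]
    exact LinearMap.toMatrix'_mul _ _
  have htr : ∀ x, ρ.character x = (M x).trace := by
    intro x
    simp only [Representation.character, M]
    rw [← Matrix.trace_toLin'_eq, Matrix.toLin'_toMatrix']
  have hB' : ∀ g, M g * B * (M g)ᵀ = B := hB
  have hinv2 : ∀ g, M g * B = B * (M g⁻¹)ᵀ := by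
    intro g
    have h1 : (M g)ᵀ * (M g⁻¹)ᵀ = 1 := by
      rw [← Matrix.transpose_mul, ← hMmul, inv_mul_cancel, hM1, Matrix.transpose_one]
    calc M g * B = M g * B * ((M g)ᵀ * (M g⁻¹)ᵀ) := by rw [h1, mul_one]
      _ = (M g * B * (M g)ᵀ) * (M g⁻¹)ᵀ := by simp only [Matrix.mul_assoc]
      _ = B * (M g⁻¹)ᵀ := by rw [hB']
  have hHne : (Nat.card Q : ℂ) ≠ 0 := by exact_mod_cast Nat.card_pos.ne'
  set S : Matrix (Fin n) (Fin n) ℂ := ∑ h : Q, M (h : G) with hS
  set e : Matrix (Fin n) (Fin n) ℂ := (Nat.card Q : ℂ)⁻¹ • S with he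
  have hMS : ∀ k : Q, M (k : G) * S = S := by
    intro k
    rw [hS, Finset.mul_sum]
    refine Fintype.sum_equiv (Equiv.mulLeft k) _ _ fun h => ?_
    rw [Equiv.coe_mulLeft, Subgroup.coe_mul, hMmul]
  have hSS : S * S = (Nat.card Q : ℂ) • S := by
    conv_lhs => rw [hS, Finset.sum_mul]
    rw [← hS]
    simp only [hMS]
    rw [Finset.sum_const, Finset.card_univ, Nat.card_eq_fintype_card, Nat.cast_smul_eq_nsmul]
  have hee : e * e = e := by
    rw [he, Matrix.smul_mul, Matrix.mul_smul, hSS, smul_smul, smul_smul]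
    congr 1
    field_simp
  have htre : e.trace = (a : ℂ) := by
    rw [he, Matrix.trace_smul, hS, Matrix.trace_sum, smul_eq_mul]
    simp only [← htr]
    exact hm
  have hSB : S * B = B * Sᵀ := by
    rw [hS, Finset.sum_mul, Matrix.transpose_sum, Finset.mul_sum]
    simp only [hinv2]
    refine Fintype.sum_equiv (Equiv.inv Q) _ _ fun h => ?_
    simp
  have heB : e * B = B * eᵀ := by
    rw [he, Matrix.smul_mul, hSB, Matrix.transpose_smul, Matrix.mul_smul]
  -- apply the even-rank lemma to `eᵀ`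
  have heT : eᵀ * eᵀ = eᵀ := by rw [← Matrix.transpose_mul, hee]
  have hadj : eᵀᵀ * B = B * eᵀ := by rw [Matrix.transpose_transpose]; exact heB
  have htrT : eᵀ.trace = (a : ℂ) := by rw [Matrix.trace_transpose]; exact htre
  have hBskew : Bᵀ = -B := by rw [hBt]; simp
  have heven := even_of_skew_selfadjoint_proj B eᵀ hdet hBskew heT hadj a htrT
  exact (Nat.not_even_iff_odd.2 hodd) heven

end FSOdd

end Cfsg.Agent.Helper80
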