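import Mathlib
import Cfsg.Prelude.Def_Characters
import Cfsg.Agent.Lib.Helper80.DefZeroA
import Cfsg.Agent.Lib.Helper80.DefZeroB
import Cfsg.Agent.Lib.Helper80.ConjIrr
import Cfsg.Agent.Lib.Helper80.FrobSchur
import Cfsg.Agent.Lib.Helper80.FrobSchur2
import Cfsg.Agent.Lib.Helper81.CharClifford
import Cfsg.Agent.Lib.Helper79.DegreeRatio
import Cfsg.Agent.Lib.Helper79.Integrality
import Cfsg.Agent.S0165

/-!
# Defect-zero characters under a `2`-group quotient (helper80)

`exists_fs_one_over_defzero` : `N ⊴ G` with `G/N` a `2`-group, `φ ∈ Irr(N)` of `2`-defect zero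
which is `G`-conjugate to its complex conjugate. Then some `χ ∈ Irr(G)` with Frobenius–Schur
indicator `1` lies over `φ` with multiplicity `1`.
-/

set_option autoImplicit false

namespace Cfsg.Agent.Helper80

open Cfsg
open scoped ComplexConjugate

universe u

section Vanish

/-- Characters of `p`-defect zero vanish on `p`-singular elements (character form of S0165). -/
theorem defzero_vanish {H : Type u} [Group H] [Finite H] (φ : IrrCharacter H) (p : ℕ)
    (hp : p.Prime) (hdef : p ^ (Nat.card H).factorization p ∣ charDegree (φ : H → ℂ)) (x : H)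
    (hx : p ∣ orderOf x) : (φ : H → ℂ) x = 0 := by
  obtain ⟨d, ρ, hρ, hρφ⟩ := φ.2
  have : ρ.IsIrreducible := hρ
  have hcard : Nat.card H ≠ 0 := Nat.card_pos.ne'
  have hd : charDegree (φ : H → ℂ) = d := by
    have h1 := irr_one φ
    have h2 : (φ : H → ℂ) 1 = (d : ℂ) := by
      rw [← hρφ, Representation.char_one, Module.finrank_fin_fun]
    rw [h2] at h1
    exact_mod_cast h1.symm
  rw [← hρφ]
  refine Cfsg.Agent.S0165.result ρ p ((Nat.card H).factorization p) hp
    (Nat.ordProj_dvd _ _) (Nat.pow_succ_factorization_not_dvd hcard hp) ?_ x hx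
  rw [Module.finrank_fin_fun, ← hd]
  exact hdef

end Vanish

section Main

variable {G : Type u} [Group G] [Finite G]

/-- The arithmetic of the count: `|G| φ(1) / (|N| |Q|)` is an odd natural number. -/
theorem defzero_count_odd (N : Subgroup G) [hN : N.Normal] (h2 : IsPGroup 2 (G ⧸ N))
    (φ : IrrCharacter ↥N)
    (hdef : 2 ^ (Nat.card ↥N).factorization 2 ∣ charDegree (φ : ↥N → ℂ)) (Q : Sylow 2 G) :
    ∃ m : ℕ, Odd m ∧ (Nat.card ↥N : ℂ)⁻¹ * (Nat.card ↥(Q : Subgroup G) : ℂ)⁻¹ *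
      ((Nat.card G : ℂ) * conj ((φ : ↥N → ℂ) 1)) = (m : ℂ) := by
  obtain ⟨m, hm⟩ := hdef
  obtain ⟨j, hj⟩ := IsPGroup.iff_card.1 h2
  have hN0 : Nat.card ↥N ≠ 0 := Nat.card_pos.ne'
  have hidx : N.index = 2 ^ j := by rw [Subgroup.index_eq_card]; exact hj
  have hG : Nat.card G = Nat.card ↥N * 2 ^ j := by rw [← hidx, Subgroup.card_mul_index]
  have hfac : (Nat.card G).factorization 2 = (Nat.card ↥N).factorization 2 + j := by
    rw [hG, Nat.factorization_mul hN0 (pow_ne_zero _ two_ne_zero), Finsupp.add_apply,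
      Nat.factorization_pow, Finsupp.smul_apply, Nat.prime_two.factorization_self]
    simp
  have hQ : Nat.card ↥(Q : Subgroup G) = 2 ^ (Nat.card ↥N).factorization 2 * 2 ^ j := by
    rw [Sylow.card_eq_multiplicity, hfac, pow_add]
  refine ⟨m, ?_, ?_⟩
  · by_contra hodd
    rw [Nat.not_odd_iff_even] at hodd
    obtain ⟨k, hk⟩ := hodd
    have hdvd : 2 ^ ((Nat.card ↥N).factorization 2 + 1) ∣ Nat.card ↥N := by
      refine dvd_trans ?_ (Helper79.irr_degree_dvd_card φ)
      rw [hm, hk, pow_succ]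
      exact ⟨k, by ring⟩
    exact Nat.pow_succ_factorization_not_dvd hN0 Nat.prime_two hdvd
  · rw [irr_one φ, Complex.conj_natCast, hm, hQ, hG]
    have h1 : ((2 : ℂ) ^ (Nat.card ↥N).factorization 2) ≠ 0 := pow_ne_zero _ two_ne_zero
    have h2' : ((2 : ℂ) ^ j) ≠ 0 := pow_ne_zero _ two_ne_zero
    have h3 : (Nat.card ↥N : ℂ) ≠ 0 := by exact_mod_cast hN0
    push_cast
    field_simp

/-- Main theorem. -/
theorem exists_fs_one_over_defzero (N : Subgroup G) [hN : N.Normal] (h2 : IsPGroup 2 (G ⧸ N))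
    (φ : IrrCharacter ↥N)
    (hdef : 2 ^ (Nat.card ↥N).factorization 2 ∣ charDegree (φ : ↥N → ℂ))
    (hconj : ∃ g : G, ∀ n n' : ↥N, (n' : G) = g * (n : G) * g⁻¹ →
      (φ : ↥N → ℂ) n' = conj ((φ : ↥N → ℂ) n)) :
    ∃ χ : IrrCharacter G, (Nat.card G : ℂ)⁻¹ * ∑ᶠ g : G, (χ : G → ℂ) (g * g) = 1 ∧
      (Nat.card ↥N : ℂ)⁻¹ * ∑ᶠ n : ↥N, (χ : G → ℂ) n * conj ((φ : ↥N → ℂ) n) = 1 := by
  classical
  haveI : Fintype G := Fintype.ofFinite G
  haveI : Fintype ↥N := Fintype.ofFinite _
  haveI : Fintype (IrrCharacter G) := @Fintype.ofFinite _ Helper81.irr_finite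
  let Q : Sylow 2 G := default
  haveI : Fintype ↥(Q : Subgroup G) := Fintype.ofFinite _
  -- vanishing of `φ` on the nonidentity elements conjugate into `Q`
  have hvan : ∀ (n : ↥N) (x : ↥(Q : Subgroup G)), IsConj (n : G) (x : G) → (n : G) ≠ 1 →
      (φ : ↥N → ℂ) n = 0 := by
    intro n x hc hn1
    apply defzero_vanish φ 2 Nat.prime_two hdef n
    obtain ⟨k, hk⟩ := (IsPGroup.iff_orderOf.1 Q.isPGroup') x
    have ho : orderOf n = 2 ^ k := by
      rw [← Subgroup.orderOf_coe, ← hk, ← Subgroup.orderOf_coe]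
      obtain ⟨c, hc'⟩ := hc
      exact SemiconjBy.orderOf_eq _ hc'
    rw [ho]
    have hk0 : k ≠ 0 := by
      intro h0
      rw [h0, pow_zero, orderOf_eq_one_iff] at ho
      exact hn1 (by rw [ho, Subgroup.coe_one])
    exact dvd_pow_self 2 hk0
  have hcount := sum_mult_eq N (Q : Subgroup G) (φ : ↥N → ℂ) hvan
  obtain ⟨m, hmodd, hm⟩ := defzero_count_odd N h2 φ hdef Q
  rw [hm] at hcount
  -- multiplicities
  have hex : ∀ χ : IrrCharacter G, ∃ k : ℕ,
      classInner (fun n : ↥N => (χ : G → ℂ) n) (φ : ↥N → ℂ) = (k : ℂ) := fun χ =>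
    Helper81.exists_nat_classInner (Helper81.isCharacter_restrict N (isCharacter_of_irr χ.2)) φ.2
  choose e he using hex
  have hax : ∀ χ : IrrCharacter G, ∃ k : ℕ,
      (Nat.card ↥(Q : Subgroup G) : ℂ)⁻¹ * ∑ x : ↥(Q : Subgroup G), (χ : G → ℂ) x = (k : ℂ) := by
    intro χ
    obtain ⟨k, hk⟩ := Helper81.exists_nat_classInner
      (Helper81.isCharacter_restrict (Q : Subgroup G) (isCharacter_of_irr χ.2))
      (isIrrCharacter_one (G := ↥(Q : Subgroup G)))
    refine ⟨k, ?_⟩
    rw [← hk]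
    unfold classInner
    simp
  choose a ha using hax
  have hsumN : ∑ χ : IrrCharacter G, e χ * a χ = m := by
    have : ((∑ χ : IrrCharacter G, e χ * a χ : ℕ) : ℂ) = (m : ℂ) := by
      rw [← hcount]
      push_cast
      apply Finset.sum_congr rfl
      intro χ _
      rw [he χ, ha χ, Complex.conj_natCast]
    exact_mod_cast this
  -- invariance under complex conjugation
  obtain ⟨g₀, hg₀⟩ := hconj
  have hea : ∀ χ : IrrCharacter G, e (cconjIrr χ) = e χ := by
    intro χ
    have h1 : classInner (fun n : ↥N => (cconjIrr χ : G → ℂ) n) (φ : ↥N → ℂ) =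
        conj (classInner (fun n : ↥N => (χ : G → ℂ) n) (φ : ↥N → ℂ)) := by
      unfold classInner
      rw [map_mul, map_inv₀, Complex.conj_natCast, map_sum]
      congr 1
      let σ : ↥N ≃ ↥N :=
        { toFun := fun n => ⟨g₀ * n * g₀⁻¹, hN.conj_mem n n.2 g₀⟩
          invFun := fun n => ⟨g₀⁻¹ * n * g₀, by
            have := hN.conj_mem n n.2 g₀⁻¹
            simpa using this⟩
          left_inv := fun n => by
            apply Subtype.ext
            simp [mul_assoc]
          right_inv := fun n => by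
            apply Subtype.ext
            simp [mul_assoc] }
      refine Fintype.sum_equiv σ _ _ fun n => ?_
      beta_reduce
      rw [cconjIrr_apply, map_mul, Complex.conj_conj]
      have h3 : (φ : ↥N → ℂ) (σ n) = conj ((φ : ↥N → ℂ) n) := hg₀ n (σ n) rfl
      have h4 : (χ : G → ℂ) ((σ n : ↥N) : G) = (χ : G → ℂ) (n : G) := irr_conj_class χ (n : G) g₀
      rw [h3, h4]
    rw [he, he, Complex.conj_natCast] at h1
    exact_mod_cast h1
  have haa : ∀ χ : IrrCharacter G, a (cconjIrr χ) = a χ := by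
    intro χ
    have h1 : (Nat.card ↥(Q : Subgroup G) : ℂ)⁻¹ *
        ∑ x : ↥(Q : Subgroup G), (cconjIrr χ : G → ℂ) x =
        conj ((Nat.card ↥(Q : Subgroup G) : ℂ)⁻¹ * ∑ x : ↥(Q : Subgroup G), (χ : G → ℂ) x) := by
      rw [map_mul, map_inv₀, Complex.conj_natCast, map_sum]
      rfl
    rw [ha, ha, Complex.conj_natCast] at h1
    exact_mod_cast h1
  -- a real character with odd multiplicities
  obtain ⟨χ, hχreal, hχodd⟩ : ∃ χ : IrrCharacter G, cconjIrr χ = χ ∧ Odd (e χ * a χ) := by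
    by_contra hcon
    push Not at hcon
    have hz : ∑ χ : IrrCharacter G, ((e χ * a χ : ℕ) : ZMod 2) = 0 := by
      refine Finset.sum_involution (fun χ _ => cconjIrr χ) ?_ ?_ ?_
        (fun χ _ => cconjIrr_cconjIrr χ)
      · intro χ _
        rw [hea, haa]
        exact CharTwo.add_self_eq_zero _
      · intro χ _ hne heq
        apply hne
        have := hcon χ heq
        rw [Nat.not_odd_iff_even] at this
        exact (ZMod.natCast_eq_zero_iff_even).2 this
      · intro χ _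
        exact Finset.mem_univ _
    rw [← Nat.cast_sum, hsumN] at hz
    have := (ZMod.natCast_eq_zero_iff_even).1 hz
    exact (Nat.not_even_iff_odd.2 hmodd) this
  obtain ⟨heodd, haodd⟩ := Nat.odd_mul.1 hχodd
  have hreal : ∀ g : G, ((χ : G → ℂ) g).im = 0 := (cconjIrr_eq_self_iff χ).1 hχreal
  have hrealc : ∀ g : G, conj ((χ : G → ℂ) g) = (χ : G → ℂ) g := fun g =>
    Complex.conj_eq_iff_im.2 (hreal g)
  -- multiplicity one
  have he1 : e χ = 1 := by
    have hne : classInner (fun n : ↥N => (χ : G → ℂ) n) (φ : ↥N → ℂ) ≠ 0 := by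
      rw [he]
      have : e χ ≠ 0 := heodd.pos.ne'
      exact_mod_cast this
    obtain ⟨r, hr, hrdvd⟩ := Helper79.degree_ratio_dvd_index N χ.2 φ.2 hne
    have hcl := Helper81.clifford N hN χ.2 φ.2 hne
    rw [he] at hcl
    have hfin := Helper81.conjSet_finite N hN (φ : ↥N → ℂ)
    rw [finsum_mem_eq_finite_toFinset_sum _ hfin] at hcl
    have h1 := congrFun hcl 1
    simp only [Pi.smul_apply, Finset.sum_apply, smul_eq_mul, Subgroup.coe_one] at h1
    have hS1 : ∑ ψ ∈ hfin.toFinset, ψ 1 = (hfin.toFinset.card : ℂ) * (φ : ↥N → ℂ) 1 := by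
      rw [Finset.sum_congr rfl (g := fun _ => (φ : ↥N → ℂ) 1), Finset.sum_const, nsmul_eq_mul]
      intro ψ hψ
      rw [Set.Finite.mem_toFinset] at hψ
      obtain ⟨g, rfl⟩ := hψ
      rw [Helper81.conjFun_apply]
      exact congrArg _ (Subtype.ext (by simp))
    rw [hS1, hr] at h1
    have hφ1 : (φ : ↥N → ℂ) 1 ≠ 0 := irr_one_ne_zero φ
    have h3 : (r : ℂ) = (e χ : ℂ) * (hfin.toFinset.card : ℂ) := by
      apply mul_right_cancel₀ hφ1
      rw [h1]
      ring
    have h4 : r = e χ * hfin.toFinset.card := by exact_mod_cast h3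
    obtain ⟨j, hj⟩ := IsPGroup.iff_card.1 h2
    have hidx : N.index = 2 ^ j := by rw [Subgroup.index_eq_card]; exact hj
    have h5 : e χ ∣ 2 ^ j := by
      rw [← hidx]
      exact dvd_trans ⟨_, h4⟩ hrdvd
    have hcop : Nat.Coprime (e χ) (2 ^ j) :=
      Nat.Coprime.pow_right j (Nat.coprime_two_right.2 heodd)
    exact Nat.Coprime.eq_one_of_dvd hcop h5
  -- the indicator
  have hfs : (Nat.card G : ℂ)⁻¹ * ∑ s : G, (χ : G → ℂ) (s * s) = 1 := by
    obtain ⟨h1, h2', _⟩ := irr_fs χ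
    rcases h1 with h | h | h
    · obtain ⟨s, hs⟩ := h2'.1 h
      exact absurd (hreal s) hs
    · exact h
    · exact absurd h (fs_ne_neg_one_of_odd_fixed (Q : Subgroup G) χ.2 hrealc (a χ) (ha χ) haodd)
  refine ⟨χ, ?_, ?_⟩
  · rw [finsum_eq_sum_of_fintype]
    exact hfs
  · rw [finsum_eq_sum_of_fintype]
    have := he χ
    rw [he1] at this
    unfold classInner at this
    rw [this]
    simp

end Main

end Cfsg.Agent.Helper80
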