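import Mathlib
import Cfsg.Agent.Lib.Helper74.SelfCent4

set_option autoImplicit false

namespace Cfsg.Agent.Helper80
namespace DegPm1

open Cfsg.Agent.Helper74

variable {G : Type*} [Group G] {p : ℕ} {x : G}

/-- Coset constancy: for `s` normalizing but not in `⟨x⟩`, every element of the coset `s⟨x⟩`
is conjugate to `s` by an element of `⟨x⟩`. -/
theorem exists_conj_eq_mul [Finite G] (h : SelfCent p x) {s z : G}
    (hs : s ∈ Subgroup.normalizer ((Subgroup.zpowers x : Subgroup G) : Set G))
    (hsP : s ∉ Subgroup.zpowers x) (hz : z ∈ Subgroup.zpowers x) :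
    ∃ w ∈ Subgroup.zpowers x, w * s * w⁻¹ = s * z := by
  set P := Subgroup.zpowers x with hP
  have hconj : ∀ w ∈ P, s⁻¹ * w * s ∈ P := by
    intro w hw
    have := (Subgroup.mem_normalizer_iff.mp (inv_mem hs) w).mp hw
    simpa using this
  let f : P → P := fun w => ⟨s⁻¹ * w * s * (w : G)⁻¹, P.mul_mem (hconj w w.2) (P.inv_mem w.2)⟩
  have hinj : Function.Injective f := by
    intro w w' hww
    have h1 : s⁻¹ * (w : G) * s * (w : G)⁻¹ = s⁻¹ * (w' : G) * s * (w' : G)⁻¹ :=
      congrArg Subtype.val hww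
    by_contra hne
    have hu1 : (w' : G)⁻¹ * w ≠ 1 := by
      intro h1'
      apply hne
      apply Subtype.ext
      have := inv_mul_eq_one.mp h1'
      exact this.symm
    have huP : (w' : G)⁻¹ * w ∈ P := P.mul_mem (P.inv_mem w'.2) w.2
    have h2 : (w : G) * s * (w : G)⁻¹ = (w' : G) * s * (w' : G)⁻¹ := by
      have := congrArg (fun g => s * g) h1
      simpa [mul_assoc] using this
    have hcomm : s * ((w' : G)⁻¹ * w) = ((w' : G)⁻¹ * w) * s := by
      calc s * ((w' : G)⁻¹ * w) = (w' : G)⁻¹ * ((w' : G) * s * (w' : G)⁻¹) * w := by group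
        _ = (w' : G)⁻¹ * ((w : G) * s * (w : G)⁻¹) * w := by rw [h2]
        _ = ((w' : G)⁻¹ * w) * s := by group
    exact hsP ((h.commute_iff_of_mem huP hu1 s).mp hcomm)
  have hfin : Finite P := inferInstance
  have hsurj : Function.Surjective f := Finite.surjective_of_injective hinj
  obtain ⟨w, hw⟩ := hsurj ⟨z, hz⟩
  refine ⟨w, w.2, ?_⟩
  have h1 : s⁻¹ * (w : G) * s * (w : G)⁻¹ = z := congrArg Subtype.val hw
  rw [← h1]; group

/-- A power of an element outside `⟨x⟩` that lands in `⟨x⟩` is trivial. -/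
theorem pow_eq_one_of_mem (h : SelfCent p x) {y : G} (hy : y ∉ Subgroup.zpowers x) (k : ℕ)
    (hk : y ^ k ∈ Subgroup.zpowers x) : y ^ k = 1 := by
  by_contra hne
  apply hy
  apply (h.commute_iff_of_mem hk hne y).mp
  rw [← pow_succ', ← pow_succ]

theorem centralizer_zpowers (h : SelfCent p x) :
    Subgroup.centralizer ((Subgroup.zpowers x : Subgroup G) : Set G) = Subgroup.zpowers x := by
  apply le_antisymm
  · intro g hg
    apply h.mem_zpowers_of_commute
    exact (Subgroup.mem_centralizer_iff.mp hg x (Subgroup.mem_zpowers x)).symm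
  · intro g hg
    rw [Subgroup.mem_centralizer_iff]
    intro z hz
    obtain ⟨k, rfl⟩ := Subgroup.mem_zpowers_iff.mp hg
    obtain ⟨j, rfl⟩ := Subgroup.mem_zpowers_iff.mp hz
    exact ((Commute.refl x).zpow_zpow j k).eq

/-- The quotient `N(⟨x⟩)/⟨x⟩` is cyclic of order `e`: there is a generator `y`. -/
theorem exists_gen [Finite G] (h : SelfCent p x) :
    ∃ y ∈ Subgroup.normalizer ((Subgroup.zpowers x : Subgroup G) : Set G),
      y ^ (SelfCent.eIdx x) ∈ Subgroup.zpowers x ∧
      ∀ j : ℕ, y ^ j ∈ Subgroup.zpowers x → SelfCent.eIdx x ∣ j := by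
  set P := Subgroup.zpowers x with hP
  set N := Subgroup.normalizer ((P : Subgroup G) : Set G) with hN
  have hcard : Nat.card P = p := h.card_zpowers
  haveI : Fact (Nat.card P).Prime := ⟨hcard ▸ h.hp⟩
  have hcycP : IsCyclic P := inferInstance
  have hcycU : IsCyclic (ZMod (Nat.card P))ˣ := inferInstance
  have hcycA : IsCyclic (MulAut P) := (hcycP.mulAutMulEquiv P).isCyclic.mpr hcycU
  let φ : N →* MulAut P := P.normalizerMonoidHom
  have hker : φ.ker = P.subgroupOf N := by
    show P.normalizerMonoidHom.ker = _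
    rw [Subgroup.normalizerMonoidHom_ker, centralizer_zpowers h]
  have hcycR : IsCyclic φ.range := inferInstance
  obtain ⟨g, hg⟩ := hcycR.exists_generator
  obtain ⟨y, hy⟩ := g.2
  have hord : orderOf g = SelfCent.eIdx x := by
    rw [orderOf_eq_card_of_forall_mem_zpowers hg, ← Subgroup.index_ker, hker]
    rfl
  have hpow : ∀ j : ℕ, (y : G) ^ j ∈ P ↔ g ^ j = 1 := by
    intro j
    have h1 : (y : G) ^ j ∈ P ↔ y ^ j ∈ φ.ker := by
      rw [hker, Subgroup.mem_subgroupOf]; rfl
    rw [h1, MonoidHom.mem_ker, map_pow, hy]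
    constructor
    · intro h2; apply Subtype.ext; simpa using h2
    · intro h2; simpa using congrArg Subtype.val h2
  refine ⟨y, y.2, ?_, ?_⟩
  · rw [hpow, ← hord, pow_orderOf_eq_one]
  · intro j hj
    rw [hpow] at hj
    rw [← hord]
    exact orderOf_dvd_of_pow_eq_one hj

end DegPm1
end Cfsg.Agent.Helper80
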