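import Mathlib
import Cfsg.Agent.Lib.Helper80.DegPm1A

set_option autoImplicit false

namespace Cfsg.Agent.Helper80
namespace DegPm1

open Cfsg.Agent.Helper74

variable {G : Type*} [Group G] {p : ℕ} {x : G}

local notation "PP" => Subgroup.zpowers x
local notation "NN" => Subgroup.normalizer ((Subgroup.zpowers x : Subgroup G) : Set G)
local notation "ee" => SelfCent.eIdx x

/-- Decomposition of a sum over `N(⟨x⟩)` along the cosets `y^j ⟨x⟩`. -/
theorem sum_normalizer [Finite G] (h : SelfCent p x) {y : G}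
    (hyN : y ∈ NN)
    (hyj : ∀ j : ℕ, y ^ j ∈ PP → ee ∣ j)
    [Fintype NN] [Fintype PP] (F : G → ℂ) :
    ∑ n : NN, F n = ∑ j ∈ Finset.range ee, ∑ z : PP, F (y ^ j * z) := by
  classical
  have hPN : PP ≤ NN := Subgroup.le_normalizer
  let Φ : Fin ee × PP → NN := fun jz =>
    ⟨y ^ (jz.1 : ℕ) * (jz.2 : G), (NN).mul_mem ((NN).pow_mem hyN _) (hPN jz.2.2)⟩
  have haux : ∀ (j j' : ℕ) (z z' : G), j < ee → j' < ee → j ≤ j' → z ∈ PP → z' ∈ PP →
      y ^ j * z = y ^ j' * z' → j = j' := by
    intro j j' z z' hj hj' hle hz hz' heq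
    have h1 : y ^ (j' - j) ∈ PP := by
      have : y ^ (j' - j) = z * z'⁻¹ := by
        have h2 : y ^ j' = y ^ j * y ^ (j' - j) := by
          rw [← pow_add, Nat.add_sub_cancel' hle]
        rw [h2, mul_assoc] at heq
        have h3 := mul_left_cancel heq
        rw [h3]; group
      rw [this]
      exact (PP).mul_mem hz ((PP).inv_mem hz')
    have h2 := hyj _ h1
    have h3 : j' - j < ee := lt_of_le_of_lt (Nat.sub_le _ _) hj'
    have h4 : j' - j = 0 := Nat.eq_zero_of_dvd_of_lt h2 h3
    omega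
  have hinj : Function.Injective Φ := by
    rintro ⟨j, z⟩ ⟨j', z'⟩ hΦ
    have heq : y ^ (j : ℕ) * (z : G) = y ^ (j' : ℕ) * (z' : G) := congrArg Subtype.val hΦ
    have hjj : (j : ℕ) = j' := by
      rcases le_total (j : ℕ) j' with hle | hle
      · exact haux _ _ _ _ j.2 j'.2 hle z.2 z'.2 heq
      · exact (haux _ _ _ _ j'.2 j.2 hle z'.2 z.2 heq.symm).symm
    have hj : j = j' := Fin.ext hjj
    subst hj
    have hz : (z : G) = z' := mul_left_cancel heq
    have : z = z' := Subtype.ext hz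
    rw [this]
  have hcard : Fintype.card (Fin ee × PP) = Fintype.card NN := by
    rw [Fintype.card_prod, Fintype.card_fin, ← Nat.card_eq_fintype_card (α := PP),
      ← Nat.card_eq_fintype_card (α := NN), h.card_zpowers]
    exact h.eIdx_mul
  have hbij : Function.Bijective Φ := (Fintype.bijective_iff_injective_and_card Φ).mpr ⟨hinj, hcard⟩
  rw [← Fintype.sum_bijective Φ hbij (fun jz => F (y ^ (jz.1 : ℕ) * (jz.2 : G))) (fun n => F n)
    (fun _ => rfl), Fintype.sum_prod_type, Fin.sum_univ_eq_sum_range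
    (fun j => ∑ z : PP, F (y ^ j * (z : G))) ee]

/-- The TI counting inequality: a nonnegative class function summed over `G` dominates its value
at `1` plus `|G : N|` times its sum over `⟨x⟩ \ {1}`. -/
theorem ti_ineq [Fintype G] (h : SelfCent p x) [Fintype PP]
    (f : G → ℝ) (hf0 : ∀ g, 0 ≤ f g) (hfc : ∀ g u, f (g * u * g⁻¹) = f u) :
    f 1 + ((NN).index : ℝ) * (∑ z : PP, f z - f 1) ≤ ∑ g : G, f g := by
  classical
  haveI : Fintype (G ⧸ NN) := Fintype.ofFinite _
  let Φ : (G ⧸ NN) × PP → G := fun qz => qz.1.out * (qz.2 : G) * (qz.1.out)⁻¹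
  set S : Finset ((G ⧸ NN) × PP) := Finset.univ ×ˢ (Finset.univ.erase (1 : PP)) with hS
  have hne : ∀ z : PP, z ∈ Finset.univ.erase (1 : PP) → (z : G) ≠ 1 := by
    intro z hz h1
    have := Finset.ne_of_mem_erase hz
    exact this (Subtype.ext h1)
  have hinj : Set.InjOn Φ (S : Set ((G ⧸ NN) × PP)) := by
    rintro ⟨q, z⟩ hqz ⟨q', z'⟩ hqz' hΦ
    have hz1 : (z : G) ≠ 1 := hne z (Finset.mem_product.mp hqz).2
    have heq : q.out * (z : G) * (q.out)⁻¹ = q'.out * (z' : G) * (q'.out)⁻¹ := hΦ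
    have h1 : (q'.out⁻¹ * q.out) * (z : G) * (q'.out⁻¹ * q.out)⁻¹ = z' := by
      calc (q'.out⁻¹ * q.out) * (z : G) * (q'.out⁻¹ * q.out)⁻¹
          = q'.out⁻¹ * (q.out * (z : G) * (q.out)⁻¹) * q'.out := by group
        _ = q'.out⁻¹ * (q'.out * (z' : G) * (q'.out)⁻¹) * q'.out := by rw [heq]
        _ = z' := by group
    have h2 : q'.out⁻¹ * q.out ∈ NN := by
      apply h.mem_normalizer_of_conj_mem z.2 hz1
      rw [h1]; exact z'.2
    have hq : q' = q := by
      rw [← QuotientGroup.out_eq' q', ← QuotientGroup.out_eq' q]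
      exact QuotientGroup.eq.mpr h2
    subst hq
    have hz : (z : G) = z' := by
      have := mul_left_cancel (mul_right_cancel heq)
      exact this
    have : z = z' := Subtype.ext hz
    rw [this]
  have h1 : (1 : G) ∉ S.image Φ := by
    intro hmem
    obtain ⟨⟨q, z⟩, hqz, hΦ⟩ := Finset.mem_image.mp hmem
    have hz1 : (z : G) ≠ 1 := hne z (Finset.mem_product.mp hqz).2
    apply hz1
    have : q.out * (z : G) * (q.out)⁻¹ = 1 := hΦ
    exact conj_eq_one_iff.mp this
  calc f 1 + ((NN).index : ℝ) * (∑ z : PP, f z - f 1)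
      = ∑ g ∈ insert 1 (S.image Φ), f g := by
        rw [Finset.sum_insert h1, Finset.sum_image hinj, hS, Finset.sum_product]
        congr 1
        have h2 : ∀ q : G ⧸ NN, ∑ z ∈ Finset.univ.erase (1 : PP), f (Φ (q, z)) =
            ∑ z : PP, f z - f 1 := by
          intro q
          have h3 := Finset.sum_erase_eq_sub (f := fun z : PP => f (z : G))
            (Finset.mem_univ (1 : PP))
          simp only [Subgroup.coe_one] at h3
          rw [← h3]
          apply Finset.sum_congr rfl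
          intro z _
          exact hfc _ _
        rw [Finset.sum_congr rfl (fun q _ => h2 q), Finset.sum_const, nsmul_eq_mul,
          Finset.card_univ, ← Nat.card_eq_fintype_card, ← Subgroup.index_eq_card]
    _ ≤ ∑ g : G, f g :=
        Finset.sum_le_sum_of_subset_of_nonneg (Finset.subset_univ _) (fun g _ _ => hf0 g)

end DegPm1
end Cfsg.Agent.Helper80
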