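import Mathlib
import Cfsg.Agent.Lib.Helper81.CharInd
import Cfsg.Agent.Lib.Helper3.CharArtin
import Cfsg.Agent.Lib.Helper80.FrobSchur
import Cfsg.Agent.Lib.Helper80.DegPm1A

set_option autoImplicit false

namespace Cfsg.Agent.Helper80
namespace DegPm1

open Cfsg Cfsg.Agent.Helper74 Cfsg.Agent.Helper81
open scoped ComplexConjugate

universe u

/-- Decomposition of a character of a finite abelian group into linear characters: the
multiplicity `a` of the trivial character, the norm `Q` and the degree `d` satisfy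
`a² + d ≤ Q + a`. -/
theorem abelian_decomp {A : Type u} [Group A] [Fintype A] (hcomm : ∀ a b : A, a * b = b * a)
    {ψ : A → ℂ} (hψ : IsCharacter A ψ) :
    ∃ a Q d : ℕ, (∑ z, ψ z = (Nat.card A : ℂ) * a) ∧
      (∑ z, ψ z * conj (ψ z) = (Nat.card A : ℂ) * Q) ∧ ψ 1 = d ∧ a * a + d ≤ Q + a := by
  classical
  haveI : Fintype (IrrCharacter A) := @Fintype.ofFinite _ irr_finite
  have hfin : Finite A := Finite.of_fintype A
  have hAne : (Nat.card A : ℂ) ≠ 0 := by exact_mod_cast Nat.card_pos.ne'
  obtain ⟨m, hm⟩ := exists_nat_decomp hψ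
  let triv : IrrCharacter A := ⟨fun _ => 1, isIrrCharacter_one⟩
  have hinner : ∀ lam : IrrCharacter A, classInner ψ (lam : A → ℂ) = (m lam : ℂ) := by
    intro lam
    rw [hm]
    exact classInner_nat_decomp (fun χ => (m χ : ℂ)) lam
  have h1 : classInner ψ (fun _ => (1 : ℂ)) = (m triv : ℂ) := hinner triv
  have h2 : classInner ψ ψ = ((∑ lam, m lam * m lam : ℕ) : ℂ) := by
    conv_lhs => rw [hm]
    rw [classInner_sum_right]
    simp only [classInner_smul_right, Complex.conj_natCast]
    rw [← hm]
    simp only [hinner]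
    push_cast
    rfl
  have h3 : ψ 1 = ((∑ lam, m lam : ℕ) : ℂ) := by
    rw [hm, Finset.sum_apply]
    push_cast
    apply Finset.sum_congr rfl
    intro lam _
    obtain ⟨l, hl⟩ := Cfsg.Agent.Helper3.irr_abelian_hom hcomm lam.1 lam.2
    rw [Pi.smul_apply, hl]
    simp
  refine ⟨m triv, ∑ lam, m lam * m lam, ∑ lam, m lam, ?_, ?_, h3, ?_⟩
  · unfold classInner at h1
    simp only [map_one, mul_one] at h1
    rw [← h1]; field_simp
  · unfold classInner at h2
    rw [← h2]; field_simp
  · have hf : ∀ lam ∈ (Finset.univ : Finset (IrrCharacter A)),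
        (0 : ℤ) ≤ (m lam : ℤ) * m lam - m lam := by
      intro lam _
      have : (m lam : ℤ) ≤ (m lam : ℤ) * m lam := by
        rcases Nat.eq_zero_or_pos (m lam) with h0 | hpos
        · rw [h0]; simp
        · have : (1 : ℤ) ≤ m lam := by exact_mod_cast hpos
          nlinarith
      linarith
    have h4 := Finset.single_le_sum hf (Finset.mem_univ triv)
    rw [Finset.sum_sub_distrib] at h4
    have h5 : ((m triv * m triv + ∑ lam, m lam : ℕ) : ℤ) ≤ ((∑ lam, m lam * m lam + m triv : ℕ) : ℤ) := by
      push_cast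
      linarith
    exact_mod_cast h5

/-- If the restriction of a character to `⟨x⟩` does not contain the trivial character, the
character vanishes on `N(⟨x⟩) \ ⟨x⟩`. -/
theorem char_eq_zero_of_sum_zero {G : Type u} [Group G] [Finite G] {p : ℕ} {x : G}
    (h : SelfCent p x) {n : ℕ} (ρ : Representation ℂ G (Fin n → ℂ))
    [Fintype (Subgroup.zpowers x)]
    (hsum : ∑ z : Subgroup.zpowers x, ρ.character z = 0) {s : G}
    (hs : s ∈ Subgroup.normalizer ((Subgroup.zpowers x : Subgroup G) : Set G))
    (hsP : s ∉ Subgroup.zpowers x) : ρ.character s = 0 := by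
  classical
  have hpne : (p : ℂ) ≠ 0 := by exact_mod_cast h.hp.ne_zero
  have hcardP : Fintype.card (Subgroup.zpowers x) = p := by
    rw [← Nat.card_eq_fintype_card]; exact h.card_zpowers
  set E : Module.End ℂ (Fin n → ℂ) := ∑ z : Subgroup.zpowers x, ρ (z : G) with hE
  have hEE : E * E = (p : ℂ) • E := by
    rw [hE, Finset.sum_mul]
    have h1 : ∀ z : Subgroup.zpowers x,
        ρ (z : G) * ∑ w : Subgroup.zpowers x, ρ (w : G) = ∑ w : Subgroup.zpowers x, ρ (w : G) := by
      intro z
      rw [Finset.mul_sum]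
      refine Fintype.sum_equiv (Equiv.mulLeft z) _ _ (fun w => ?_)
      rw [← map_mul]; rfl
    rw [Finset.sum_congr rfl (fun z _ => h1 z), Finset.sum_const, Finset.card_univ, hcardP,
      Nat.cast_smul_eq_nsmul]
  have htr : LinearMap.trace ℂ (Fin n → ℂ) E = 0 := by
    rw [hE, map_sum]
    exact hsum
  set E' : Module.End ℂ (Fin n → ℂ) := (p : ℂ)⁻¹ • E with hE'
  have hidem : IsIdempotentElem E' := by
    show E' * E' = E'
    rw [hE', smul_mul_smul_comm, hEE, smul_smul]
    congr 1
    field_simp
  have htr' : LinearMap.trace ℂ (Fin n → ℂ) E' = 0 := by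
    rw [hE', map_smul, htr, smul_zero]
  have hE'0 : E' = 0 := (LinearMap.IsIdempotentElem.trace_eq_zero_iff hidem).1 htr'
  have hE0 : E = 0 := by
    have : E = (p : ℂ) • E' := by rw [hE', smul_smul, mul_inv_cancel₀ hpne, one_smul]
    rw [this, hE'0, smul_zero]
  have h2 : ∑ z : Subgroup.zpowers x, ρ.character (s * z) = 0 := by
    have : ∑ z : Subgroup.zpowers x, ρ.character (s * z) =
        LinearMap.trace ℂ (Fin n → ℂ) (ρ s * E) := by
      rw [hE, Finset.mul_sum, map_sum]
      apply Finset.sum_congr rfl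
      intro z _
      rw [← map_mul]; rfl
    rw [this, hE0, mul_zero, map_zero]
  have h3 : ∀ z : Subgroup.zpowers x, ρ.character (s * z) = ρ.character s := by
    intro z
    obtain ⟨w, _, hw⟩ := exists_conj_eq_mul h hs hsP z.2
    rw [← hw]
    exact Representation.char_conj ρ s w
  rw [Finset.sum_congr rfl (fun z _ => h3 z), Finset.sum_const, Finset.card_univ, hcardP,
    nsmul_eq_mul] at h2
  exact (mul_eq_zero.mp h2).resolve_left hpne

end DegPm1
end Cfsg.Agent.Helper80
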