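import Mathlib
import Cfsg.Agent.Lib.Helper75.CharGalois

set_option autoImplicit false

namespace Cfsg.Agent.Helper80
namespace DegPm1

open Polynomial

/-- Geometric sum of a root of unity. -/
theorem geom_sum_root (e : ℕ) (r : ℂ) (hr : r ^ e = 1) :
    ∑ j ∈ Finset.range e, r ^ j = if r = 1 then (e : ℂ) else 0 := by
  split_ifs with h1
  · rw [h1]; simp
  · have h2 := geom_sum_mul r e
    rw [hr, sub_self] at h2
    exact (mul_eq_zero.mp h2).resolve_right (sub_ne_zero.mpr h1)

/-- The product of all `e`-th roots of unity in `ℂ`. -/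
theorem prod_nthRoots (e : ℕ) (he : 0 < e) :
    ∏ ω ∈ nthRootsFinset e (1 : ℂ), ω = (-1) ^ (e + 1) := by
  have hζ : IsPrimitiveRoot (Complex.exp (2 * Real.pi * Complex.I / e)) e :=
    Complex.isPrimitiveRoot_exp e he.ne'
  have h1 := X_pow_sub_one_eq_prod he hζ
  have h2 := congrArg (Polynomial.eval 0) h1
  rw [eval_prod] at h2
  simp only [eval_sub, eval_pow, eval_X, eval_one, eval_C, zero_sub, zero_pow he.ne'] at h2
  rw [Finset.prod_neg, IsPrimitiveRoot.card_nthRootsFinset hζ] at h2
  have h3 : ((-1 : ℂ) ^ e) * ((-1) ^ e * ∏ ω ∈ nthRootsFinset e (1 : ℂ), ω) = (-1) ^ e * (-1) := by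
    rw [← h2]
  rw [← mul_assoc, ← pow_add, ← two_mul, pow_mul] at h3
  simp only [neg_one_sq, one_pow, one_mul] at h3
  rw [h3, pow_succ]

/-- A family of `e`-th roots of unity whose power sums vanish for `0 < j < e` contains every
`e`-th root of unity equally often; hence its product is determined. -/
theorem prod_roots {ι : Type*} [Fintype ι] (μ : ι → ℂ) (e t : ℕ) (he : 0 < e)
    (hμ : ∀ i, μ i ^ e = 1) (hsum : ∀ j, 0 < j → j < e → ∑ i, μ i ^ j = 0)
    (hcard : Fintype.card ι = t * e) : ∏ i, μ i = ((-1) ^ (e + 1)) ^ t := by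
  classical
  have hene : (e : ℂ) ≠ 0 := by exact_mod_cast he.ne'
  have hcount : ∀ ω ∈ nthRootsFinset e (1 : ℂ),
      (Finset.univ.filter (fun i => μ i = ω)).card = t := by
    intro ω hω
    rw [mem_nthRootsFinset he] at hω
    have hω0 : ω ≠ 0 := by
      intro h0; rw [h0, zero_pow he.ne'] at hω; exact zero_ne_one hω
    have h1 : ∑ i, ∑ j ∈ Finset.range e, (μ i * ω⁻¹) ^ j =
        (e : ℂ) * (Finset.univ.filter (fun i => μ i = ω)).card := by
      have : ∀ i, ∑ j ∈ Finset.range e, (μ i * ω⁻¹) ^ j = if μ i = ω then (e : ℂ) else 0 := by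
        intro i
        rw [geom_sum_root e (μ i * ω⁻¹) (by rw [mul_pow, inv_pow, hμ, hω]; simp)]
        have : μ i * ω⁻¹ = 1 ↔ μ i = ω := by
          rw [mul_inv_eq_one₀ hω0]
        simp only [this]
      rw [Finset.sum_congr rfl (fun i _ => this i), ← Finset.sum_filter, Finset.sum_const,
        nsmul_eq_mul, mul_comm]
    have h2 : ∑ i, ∑ j ∈ Finset.range e, (μ i * ω⁻¹) ^ j = (t * e : ℕ) := by
      rw [Finset.sum_comm]
      have : ∀ j ∈ Finset.range e, ∑ i, (μ i * ω⁻¹) ^ j =
          if j = 0 then ((t * e : ℕ) : ℂ) else 0 := by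
        intro j hj
        split_ifs with h0
        · rw [h0]; simp [hcard]
        · simp only [mul_pow]
          rw [← Finset.sum_mul, hsum j (Nat.pos_of_ne_zero h0) (Finset.mem_range.mp hj), zero_mul]
      rw [Finset.sum_congr rfl this, Finset.sum_ite_eq' (Finset.range e) 0]
      rw [if_pos (Finset.mem_range.mpr he)]
    rw [h1] at h2
    have h3 : ((Finset.univ.filter (fun i => μ i = ω)).card : ℂ) = t := by
      have : (e : ℂ) * (Finset.univ.filter (fun i => μ i = ω)).card = e * t := by
        rw [h2]; push_cast; ring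
      exact mul_left_cancel₀ hene this
    exact_mod_cast h3
  have hmaps : ∀ i ∈ (Finset.univ : Finset ι), μ i ∈ nthRootsFinset e (1 : ℂ) := by
    intro i _
    rw [mem_nthRootsFinset he]; exact hμ i
  rw [← Finset.prod_fiberwise_of_maps_to hmaps (fun i => μ i)]
  have h4 : ∀ ω ∈ nthRootsFinset e (1 : ℂ),
      ∏ i ∈ Finset.univ.filter (fun i => μ i = ω), μ i = ω ^ t := by
    intro ω hω
    rw [Finset.prod_congr rfl (fun i hi => (Finset.mem_filter.mp hi).2), Finset.prod_const,
      hcount ω hω]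
  rw [Finset.prod_congr rfl h4, Finset.prod_pow, prod_nthRoots e he]

/-- Determinant of an endomorphism of finite order whose powers have vanishing trace. -/
theorem det_of_trace_pow_zero {V : Type*} [AddCommGroup V] [Module ℂ V] [FiniteDimensional ℂ V]
    (A : Module.End ℂ V) (e t : ℕ) (he : 0 < e) (hA : A ^ e = 1)
    (htr : ∀ j, 0 < j → j < e → LinearMap.trace ℂ V (A ^ j) = 0)
    (hfr : Module.finrank ℂ V = t * e) : LinearMap.det A = ((-1) ^ (e + 1)) ^ t := by
  classical
  obtain ⟨v, μ, hv⟩ := Cfsg.Agent.Helper75.exists_eigenbasis_of_pow_eq_one A e he hA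
  have hμ : ∀ i, μ i ^ e = 1 := by
    intro i
    have h1 := Cfsg.Agent.Helper75.pow_apply_eigenvector A (v i) (μ i) (hv i) e
    rw [hA, Module.End.one_apply] at h1
    have h2 : (μ i ^ e - 1) • v i = 0 := by rw [sub_smul, one_smul, ← h1, sub_self]
    rcases smul_eq_zero.mp h2 with h3 | h3
    · exact sub_eq_zero.mp h3
    · exact absurd h3 (v.ne_zero i)
  have hsum : ∀ j, 0 < j → j < e → ∑ i, μ i ^ j = 0 := by
    intro j hj hje
    rw [← Cfsg.Agent.Helper75.trace_pow_eigenbasis A v μ hv j]
    exact htr j hj hje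
  have hdet : LinearMap.det A = ∏ i, μ i := by
    rw [← LinearMap.det_toMatrix v]
    have : LinearMap.toMatrix v v A = Matrix.diagonal μ := by
      ext i j
      rw [LinearMap.toMatrix_apply, hv j, map_smul, Finsupp.smul_apply, v.repr_self,
        Matrix.diagonal_apply]
      by_cases hij : i = j
      · subst hij; simp
      · rw [if_neg hij, Finsupp.single_eq_of_ne hij]; simp
    rw [this, Matrix.det_diagonal]
  rw [hdet]
  exact prod_roots μ e t he hμ hsum (by rw [Fintype.card_fin]; exact hfr)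

end DegPm1
end Cfsg.Agent.Helper80
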