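import Mathlib
import Cfsg.Agent.Lib.Helper80.DegPm1B
import Cfsg.Agent.Lib.Helper80.DegPm1C
import Cfsg.Agent.Lib.Helper80.DegPm1D

set_option autoImplicit false

namespace Cfsg.Agent.Helper80
namespace DegPm1

open Cfsg Cfsg.Agent.Helper74 Cfsg.Agent.Helper81
open scoped ComplexConjugate

universe u

variable {G : Type u} [Group G] {p : ℕ} {x : G}

local notation "PP" => Subgroup.zpowers x
local notation "NN" => Subgroup.normalizer ((Subgroup.zpowers x : Subgroup G) : Set G)
local notation "ee" => SelfCent.eIdx x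

/-- A representation with a determinant value `-1` forces even index of the commutator. -/
theorem even_index_of_det [Finite G] {V : Type*} [AddCommGroup V] [Module ℂ V]
    (ρ : Representation ℂ G V) (g : G) (hdet : LinearMap.det (ρ g) = -1) :
    Even (commutator G).index := by
  let δ : G →* ℂ := (LinearMap.det : (V →ₗ[ℂ] V) →* ℂ).comp ρ
  let δu : G →* ℂˣ := δ.toHomUnits
  have hker : commutator G ≤ δu.ker := Abelianization.commutator_subset_ker δu
  have hval : ((δu g : ℂˣ) : ℂ) = -1 := by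
    rw [MonoidHom.coe_toHomUnits]; exact hdet
  have hord : orderOf (δu g) = 2 := by
    haveI : Fact (Nat.Prime 2) := ⟨Nat.prime_two⟩
    apply orderOf_eq_prime
    · apply Units.ext
      rw [Units.val_pow_eq_pow_val, hval]; simp
    · intro h1
      rw [h1] at hval
      norm_num at hval
  have h2 : 2 ∣ δu.ker.index := by
    rw [Subgroup.index_ker, ← hord]
    exact Subgroup.orderOf_dvd_natCard _ ⟨g, rfl⟩
  exact even_iff_two_dvd.mpr (h2.trans (Subgroup.index_dvd_of_le hker))

/-- The norm inequality bounds the multiplicity `a` of the trivial character of `⟨x⟩`. -/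
theorem mult_sq_lt [Fintype G] (h : SelfCent p x) {n : ℕ} (ρ : Representation ℂ G (Fin n → ℂ))
    [ρ.IsIrreducible] [Fintype PP] (a Q : ℕ)
    (hQ : ∑ z : PP, ρ.character z * conj (ρ.character z) = (p : ℂ) * Q)
    (hd : ρ.character 1 = ((p - 1 : ℕ) : ℂ)) (hineq : a * a + (p - 1) ≤ Q + a) :
    a * a < ee + a := by
  classical
  have hfin : Finite G := Finite.of_fintype G
  have hp2 : 2 ≤ p := h.hp.two_le
  have hTI := ti_ineq h (fun g => ‖ρ.character g‖ ^ 2) (fun g => by positivity)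
    (fun g u => by rw [Representation.char_conj])
  rw [Cfsg.Agent.Helper75.sum_normSq_irr ρ] at hTI
  have hG : Nat.card G = (NN).index * (ee * p) := by
    rw [h.card_eq_mul, h.card_subgroups]
  have hf1 : ‖ρ.character 1‖ ^ 2 = ((p : ℝ) - 1) ^ 2 := by
    rw [hd, Complex.norm_natCast, Nat.cast_sub (by omega)]; simp
  have hsumP : ∑ z : PP, ‖ρ.character (z : G)‖ ^ 2 = (p : ℝ) * Q := by
    have h3 : ∀ z : PP, ρ.character z * conj (ρ.character z) =
        ((‖ρ.character (z : G)‖ ^ 2 : ℝ) : ℂ) := by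
      intro z
      rw [Complex.mul_conj, Complex.normSq_eq_norm_sq]
    simp only [h3] at hQ
    have h4 : ((∑ z : PP, ‖ρ.character (z : G)‖ ^ 2 : ℝ) : ℂ) = (((p : ℝ) * Q : ℝ) : ℂ) := by
      push_cast
      simpa using hQ
    exact_mod_cast h4
  simp only [hf1, hsumP] at hTI
  rw [hG] at hTI
  push_cast at hTI
  by_contra hcon
  rw [not_lt] at hcon
  have hm1 : (1 : ℝ) ≤ ((NN).index : ℝ) := by
    have : 0 < (NN).index := Nat.pos_of_ne_zero Subgroup.index_ne_zero_of_finite
    exact_mod_cast this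
  have hpR : (2 : ℝ) ≤ (p : ℝ) := by exact_mod_cast hp2
  have hQge : (ee : ℝ) + p - 1 ≤ (Q : ℝ) := by
    have h5 : ee + a + (p - 1) ≤ Q + a := le_trans (by omega) hineq
    have h6 : ee + (p - 1) ≤ Q := by omega
    have h7 : ((ee + (p - 1) : ℕ) : ℝ) ≤ (Q : ℝ) := by exact_mod_cast h6
    rw [Nat.cast_add, Nat.cast_sub (by omega)] at h7
    push_cast at h7
    linarith
  have h8 : (p : ℝ) * ee + ((p : ℝ) - 1) ≤ (p : ℝ) * Q - ((p : ℝ) - 1) ^ 2 := by
    nlinarith
  have h9 : ((NN).index : ℝ) * ((p : ℝ) * ee + ((p : ℝ) - 1)) ≤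
      ((NN).index : ℝ) * ((p : ℝ) * Q - ((p : ℝ) - 1) ^ 2) :=
    mul_le_mul_of_nonneg_left h8 (by linarith)
  have h10 : 0 < ((p : ℝ) - 1) ^ 2 := by nlinarith
  nlinarith

/-- The multiplicity `a` of the trivial character of `⟨x⟩` is divisible by `e`. -/
theorem dvd_mult [Finite G] (h : SelfCent p x) {n : ℕ} (ρ : Representation ℂ G (Fin n → ℂ))
    [Fintype PP] {y : G} (hyN : y ∈ NN) (hy1 : y ^ ee = 1)
    (hyj : ∀ j : ℕ, y ^ j ∈ PP → ee ∣ j) (hyjP : ∀ j : ℕ, 0 < j → j < ee → y ^ j ∉ PP)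
    (a t : ℕ)
    (hsum : ∑ z : PP, ρ.character z = (p : ℂ) * a) (hte : t * ee = p - 1)
    (hdeg : ρ.character 1 = ((p - 1 : ℕ) : ℂ)) : ee ∣ a := by
  classical
  haveI : Fintype G := Fintype.ofFinite G
  have he : 0 < ee := h.eIdx_pos
  have hpne : (p : ℂ) ≠ 0 := by exact_mod_cast h.hp.ne_zero
  have hcardP : Fintype.card PP = p := by
    rw [← Nat.card_eq_fintype_card]; exact h.card_zpowers
  -- the sum over `N`
  obtain ⟨k₀, hk₀⟩ := exists_nat_classInner_char
    (isCharacter_restrict (NN) (⟨n, ρ, rfl⟩ : IsCharacter G ρ.character))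
    (IsIrrCharacter.isCharacter (isIrrCharacter_one (G := NN)))
  have hNne : (Nat.card NN : ℂ) ≠ 0 := by exact_mod_cast Nat.card_pos.ne'
  have hsumN : ∑ m : NN, ρ.character m = ((ee * p : ℕ) : ℂ) * k₀ := by
    unfold classInner at hk₀
    simp only [map_one, mul_one] at hk₀
    rw [h.eIdx_mul, ← hk₀]
    field_simp
  rw [sum_normalizer h hyN hyj ρ.character] at hsumN
  -- the inner sums
  have hinner : ∀ j ∈ Finset.range ee, ∑ z : PP, ρ.character (y ^ j * z) =
      (p : ℂ) * ρ.character (y ^ j) + if j = 0 then ((p : ℂ) * a - p * ρ.character 1) else 0 := by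
    intro j hj
    split_ifs with h0
    · subst h0
      simp only [pow_zero, one_mul]
      rw [hsum]; ring
    · have hjP : y ^ j ∉ PP := hyjP j (Nat.pos_of_ne_zero h0) (Finset.mem_range.mp hj)
      have hjN : y ^ j ∈ NN := (NN).pow_mem hyN j
      have h3 : ∀ z : PP, ρ.character (y ^ j * z) = ρ.character (y ^ j) := by
        intro z
        obtain ⟨w, _, hw⟩ := exists_conj_eq_mul h hjN hjP z.2
        rw [← hw]
        exact Representation.char_conj ρ (y ^ j) w
      rw [Finset.sum_congr rfl (fun z _ => h3 z), Finset.sum_const, Finset.card_univ, hcardP,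
        nsmul_eq_mul, add_zero]
  rw [Finset.sum_congr rfl hinner, Finset.sum_add_distrib, Finset.sum_ite_eq' (Finset.range ee) 0,
    if_pos (Finset.mem_range.mpr he), ← Finset.mul_sum] at hsumN
  -- the eigenvalues
  obtain ⟨μ, hμ, hchar⟩ := Cfsg.Agent.Helper75.exists_eigenvalues ρ y ee he hy1
  have hpow : ∑ j ∈ Finset.range ee, ρ.character (y ^ j) =
      (ee : ℂ) * (Finset.univ.filter (fun i => μ i = 1)).card := by
    simp only [hchar]
    rw [Finset.sum_comm]
    rw [Finset.sum_congr rfl (fun i _ => geom_sum_root ee (μ i) (hμ i)), ← Finset.sum_filter,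
      Finset.sum_const, nsmul_eq_mul, mul_comm]
  rw [hpow, hdeg, ← hte] at hsumN
  set k₁ := (Finset.univ.filter (fun i => μ i = 1)).card with hk₁
  have hC : (a : ℂ) = (ee : ℂ) * ((k₀ : ℂ) + t - k₁) := by
    have h4 : (p : ℂ) * ((ee : ℂ) * k₁ + a - ((t : ℂ) * ee)) = (p : ℂ) * ((ee : ℂ) * k₀) := by
      have h6 := hsumN
      push_cast at h6
      linear_combination h6
    have h5 := mul_left_cancel₀ hpne h4
    linear_combination h5
  have hZ : (a : ℤ) = (ee : ℤ) * ((k₀ : ℤ) + t - k₁) := by exact_mod_cast hC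
  exact Int.natCast_dvd_natCast.mp ⟨_, hZ⟩

end DegPm1
end Cfsg.Agent.Helper80
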