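import Mathlib
import Cfsg.Agent.Lib.Helper80.DegPm1E

set_option autoImplicit false

namespace Cfsg.Agent.Helper80
namespace DegPm1

open Cfsg Cfsg.Agent.Helper74 Cfsg.Agent.Helper81
open scoped ComplexConjugate

universe u

variable {G : Type u} [Group G] {p : ℕ} {x : G}

local notation "PP" => Subgroup.zpowers x
local notation "NN" => Subgroup.normalizer ((Subgroup.zpowers x : Subgroup G) : Set G)
local notation "ee" => SelfCent.eIdx x

/-- Main case: `⟨x⟩` is not self-normalizing, `t` odd, and there is an irreducible character of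
degree `p - 1`; then `G'` has even index. -/
theorem main [Finite G] (h : SelfCent p x) (t : ℕ)
    (ht : t * ee = p - 1) (χ : G → ℂ) (hχ : IsIrrCharacter G χ)
    (hdeg : χ 1 = ((p - 1 : ℕ) : ℂ)) (he2 : 2 ≤ ee) (hto : Odd t) :
    Even (commutator G).index := by
  classical
  haveI : Fintype G := Fintype.ofFinite G
  obtain ⟨n, ρ, hirr, rfl⟩ := hχ
  haveI := hirr
  have he : 0 < ee := by omega
  have hp2 : p ≠ 2 := by
    intro h2
    rw [h2] at ht
    have h1 : ee ∣ 1 := ⟨t, by rw [mul_comm]; exact ht.symm⟩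
    have := Nat.le_of_dvd one_pos h1
    omega
  have hpodd : Odd p := h.hp.odd_of_ne_two hp2
  have heven : Even ee := by
    have h1 : Even (t * ee) := by
      rw [ht]
      exact Nat.Odd.sub_odd hpodd odd_one
    rcases Nat.even_mul.mp h1 with h2 | h2
    · exact absurd h2 (Nat.not_even_iff_odd.mpr hto)
    · exact h2
  have hn : n = p - 1 := by
    have h1 := hdeg
    rw [Representation.char_one] at h1
    simp only [Module.finrank_fintype_fun_eq_card, Fintype.card_fin] at h1
    exact_mod_cast h1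
  obtain ⟨y, hyN, hye, hyj⟩ := exists_gen h
  have hyP : y ∉ PP := by
    intro hy
    have h1 := hyj 1 (by simpa using hy)
    have := Nat.le_of_dvd one_pos h1
    omega
  have hy1 : y ^ ee = 1 := pow_eq_one_of_mem h hyP ee hye
  have hyjP : ∀ j, 0 < j → j < ee → y ^ j ∉ PP := by
    intro j hj hje hmem
    have := Nat.le_of_dvd hj (hyj j hmem)
    omega
  have hcommP : ∀ a b : PP, a * b = b * a := by
    intro a b
    obtain ⟨k, hk⟩ := Subgroup.mem_zpowers_iff.mp a.2
    obtain ⟨j, hj⟩ := Subgroup.mem_zpowers_iff.mp b.2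
    apply Subtype.ext
    show (a : G) * b = b * a
    rw [← hk, ← hj]
    exact ((Commute.refl x).zpow_zpow k j).eq
  obtain ⟨a, Q, d, hsa, hsQ, hd, hineq⟩ := abelian_decomp hcommP
    (isCharacter_restrict (PP) (⟨n, ρ, rfl⟩ : IsCharacter G ρ.character))
  rw [h.card_zpowers] at hsa hsQ
  have hdd : d = p - 1 := by
    have h1 : ρ.character ((1 : PP) : G) = d := hd
    rw [Subgroup.coe_one, hdeg] at h1
    exact_mod_cast h1.symm
  subst hdd
  have hlt := mult_sq_lt h ρ a Q hsQ hdeg hineq
  have hdvd := dvd_mult h ρ hyN hy1 hyj hyjP a t hsa ht hdeg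
  have ha0 : a = 0 := by
    by_contra hne
    have h1 : ee ≤ a := Nat.le_of_dvd (Nat.pos_of_ne_zero hne) hdvd
    nlinarith
  have hsum0 : ∑ z : PP, ρ.character z = 0 := by
    rw [hsa, ha0]; simp
  have hvan : ∀ j, 0 < j → j < ee → ρ.character (y ^ j) = 0 := fun j hj hje =>
    char_eq_zero_of_sum_zero h ρ hsum0 ((NN).pow_mem hyN j) (hyjP j hj hje)
  have hA : (ρ y) ^ ee = 1 := by rw [← map_pow, hy1, map_one]
  have hdet := det_of_trace_pow_zero (ρ y) ee t he hA
    (fun j hj hje => by rw [← map_pow]; exact hvan j hj hje)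
    (by simp [hn, ht])
  have hdet' : LinearMap.det (ρ y) = -1 := by
    rw [hdet]
    have h1 : ((-1 : ℂ)) ^ (ee + 1) = -1 := by
      rw [pow_succ, Even.neg_one_pow heven]; simp
    rw [h1, Odd.neg_one_pow hto]
  exact even_index_of_det ρ y hdet'

end DegPm1
end Cfsg.Agent.Helper80
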