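import Mathlib
import Cfsg.Agent.Lib.Helper80.Gagola3

/-!
# Gagola characters, part 4 (helper80): centralizers outside `N`, centre of a Sylow subgroup,
upper central series.
-/

set_option autoImplicit false

namespace Cfsg.Agent.Helper80

open scoped ComplexConjugate
open Cfsg

universe u

section Quot

variable {G : Type u} [Group G] [Finite G]

/-- For `x ∉ N`, `|C_G(x)| = |C_{G/N}(xN)|`. -/
theorem gagola_card_centralizer_quot (hG : 2 < Nat.card G) (χ : IrrCharacter G)
    (hχ : Nat.card {C : ConjClasses G // ∃ g ∈ C.carrier, (χ : G → ℂ) g ≠ 0} = 2)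
    (N : Subgroup G) [N.Normal] (hN : ∀ g : G, g ∈ N ↔ (χ : G → ℂ) g ≠ 0)
    (x : G) (hx : x ∉ N) :
    Nat.card (Subgroup.centralizer ({x} : Set G)) =
      Nat.card (Subgroup.centralizer ({(x : G ⧸ N)} : Set (G ⧸ N))) := by
  classical
  have := Fintype.ofFinite (IrrCharacter G)
  have := Fintype.ofFinite (IrrCharacter (G ⧸ N))
  have hNeq : N = gagolaSubgroup χ := by
    ext g
    rw [hN g, gagola_mem_iff hG χ hχ g]
  have hχx : (χ : G → ℂ) x = 0 := by
    by_contra h
    exact hx ((hN x).2 h)
  have hker : ∀ ψ : IrrCharacter G, N ≤ Helper79.irrKer ψ ↔ ψ ≠ χ := by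
    intro ψ
    constructor
    · intro h hψ
      subst hψ
      obtain ⟨g, hgN, hg1⟩ : ∃ g ∈ N, g ≠ 1 := by
        by_contra hno
        push Not at hno
        have hbot : N = ⊥ := (Subgroup.eq_bot_iff_forall N).2 hno
        exact gagolaSubgroup_ne_bot hG ψ hχ (hNeq ▸ hbot)
      exact hg1 (gagola_faithful hG ψ hχ g ((Helper79.mem_irrKer ψ g).1 (h hgN)))
    · intro hψ g hg
      rw [hNeq, mem_gagolaSubgroup] at hg
      exact (Helper79.mem_irrKer ψ g).2 (hg ψ hψ)
  have h1 := irr_second_orthogonality x x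
  rw [if_pos (IsConj.refl _), finsum_eq_sum_of_fintype] at h1
  have h2 := irr_second_orthogonality (x : G ⧸ N) (x : G ⧸ N)
  rw [if_pos (IsConj.refl _), finsum_eq_sum_of_fintype] at h2
  have h3 : ∑ ψ : IrrCharacter G, (ψ : G → ℂ) x * conj ((ψ : G → ℂ) x) =
      ∑ ψ' : IrrCharacter (G ⧸ N), (ψ' : G ⧸ N → ℂ) (x : G ⧸ N) *
        conj ((ψ' : G ⧸ N → ℂ) (x : G ⧸ N)) := by
    rw [← Finset.sum_filter_add_sum_filter_not Finset.univ
      (fun ψ : IrrCharacter G => N ≤ Helper79.irrKer ψ)]
    have hz : ∑ ψ ∈ Finset.univ.filter (fun ψ : IrrCharacter G => ¬ N ≤ Helper79.irrKer ψ),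
        (ψ : G → ℂ) x * conj ((ψ : G → ℂ) x) = 0 := by
      apply Finset.sum_eq_zero
      intro ψ hψ
      rw [Finset.mem_filter] at hψ
      have : ψ = χ := by
        by_contra h
        exact hψ.2 ((hker ψ).2 h)
      rw [this, hχx, zero_mul]
    rw [hz, add_zero]
    rw [Finset.sum_subtype (Finset.univ.filter (fun ψ : IrrCharacter G => N ≤ Helper79.irrKer ψ))
      (p := fun ψ : IrrCharacter G => N ≤ Helper79.irrKer ψ) (by simp)]
    rw [← Equiv.sum_comp (Helper79.inflateEquiv N)]
    apply Finset.sum_congr rfl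
    intro ψ' _
    rw [Helper79.inflateEquiv_apply, Helper79.inflate_apply]
  rw [h3, h2] at h1
  exact_mod_cast h1.symm

/-- A `p`-subgroup centralizing an element outside `N` has order at most `|G|_p / |N|`. -/
theorem gagola_pSubgroup_bound (hG : 2 < Nat.card G) (χ : IrrCharacter G)
    (hχ : Nat.card {C : ConjClasses G // ∃ g ∈ C.carrier, (χ : G → ℂ) g ≠ 0} = 2)
    (p : ℕ) [Fact p.Prime]
    (N : Subgroup G) [N.Normal] (hN : ∀ g : G, g ∈ N ↔ (χ : G → ℂ) g ≠ 0)
    (hNp : IsPGroup p N)
    (x : G) (hx : x ∉ N) (H : Subgroup G) (hH : IsPGroup p H)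
    (hHx : H ≤ Subgroup.centralizer ({x} : Set G)) :
    Nat.card H * Nat.card N ≤ p ^ (Nat.card G).factorization p := by
  have hp : p.Prime := Fact.out
  obtain ⟨k, hk⟩ := IsPGroup.iff_card.1 hH
  obtain ⟨a, ha⟩ := IsPGroup.iff_card.1 hNp
  have h1 : Nat.card H ∣ Nat.card (Subgroup.centralizer ({x} : Set G)) :=
    Subgroup.card_dvd_of_le hHx
  rw [gagola_card_centralizer_quot hG χ hχ N hN x hx] at h1
  have h2 : Nat.card (Subgroup.centralizer ({(x : G ⧸ N)} : Set (G ⧸ N))) ∣ Nat.card (G ⧸ N) :=
    Subgroup.card_subgroup_dvd_card _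
  have h3 : p ^ k ∣ Nat.card (G ⧸ N) := hk ▸ h1.trans h2
  have h4 := Subgroup.card_eq_card_quotient_mul_card_subgroup N
  have hq0 : Nat.card (G ⧸ N) ≠ 0 := Nat.card_pos.ne'
  have h5 : k ≤ (Nat.card (G ⧸ N)).factorization p :=
    (hp.pow_dvd_iff_le_factorization hq0).1 h3
  have h6 : (Nat.card G).factorization p = (Nat.card (G ⧸ N)).factorization p + a := by
    rw [h4, Nat.factorization_mul hq0 (by rw [ha]; exact pow_ne_zero a hp.ne_zero), ha,
      Nat.factorization_pow, hp.factorization]
    simp
  rw [hk, ha, ← pow_add, h6]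
  exact Nat.pow_le_pow_right hp.pos (by omega)

/-- The centre of a Sylow `p`-subgroup lies in `N`. -/
theorem gagola_center_le (hG : 2 < Nat.card G) (χ : IrrCharacter G)
    (hχ : Nat.card {C : ConjClasses G // ∃ g ∈ C.carrier, (χ : G → ℂ) g ≠ 0} = 2)
    (p : ℕ) [Fact p.Prime]
    (N : Subgroup G) [N.Normal] (hN : ∀ g : G, g ∈ N ↔ (χ : G → ℂ) g ≠ 0)
    (hNp : IsPGroup p N) (hN1 : N ≠ ⊥) (P : Sylow p G) :
    (Subgroup.center ↥(P : Subgroup G)).map (P : Subgroup G).subtype ≤ N := by
  rintro z ⟨z', hz', rfl⟩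
  by_contra hzN
  have hPle : (P : Subgroup G) ≤ Subgroup.centralizer ({((P : Subgroup G).subtype z')} : Set G) := by
    intro y hy
    rw [Subgroup.mem_centralizer_iff]
    intro h hh
    rw [Set.mem_singleton_iff] at hh
    subst hh
    have := (Subgroup.mem_center_iff.1 hz') ⟨y, hy⟩
    have h2 := congrArg Subtype.val this
    simpa using h2.symm
  have hb := gagola_pSubgroup_bound hG χ hχ p N hN hNp _ hzN (P : Subgroup G) P.isPGroup' hPle
  rw [← Sylow.card_eq_multiplicity P] at hb
  have hNcard : 1 < Nat.card N := by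
    rw [Subgroup.one_lt_card_iff_ne_bot]; exact hN1
  have hPpos : 0 < Nat.card (P : Subgroup G) := Nat.card_pos
  nlinarith

/-- The centre of a Sylow `p`-subgroup equals `N` exactly when the Sylow subgroup is normal. -/
theorem gagola_center_eq_iff (hG : 2 < Nat.card G) (χ : IrrCharacter G)
    (hχ : Nat.card {C : ConjClasses G // ∃ g ∈ C.carrier, (χ : G → ℂ) g ≠ 0} = 2)
    (p : ℕ) [Fact p.Prime]
    (N : Subgroup G) [N.Normal] (hN : ∀ g : G, g ∈ N ↔ (χ : G → ℂ) g ≠ 0)
    (hNp : IsPGroup p N) (hN1 : N ≠ ⊥) (P : Sylow p G) :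
    (Subgroup.center ↥(P : Subgroup G)).map (P : Subgroup G).subtype = N ↔
      (P : Subgroup G).Normal := by
  have hNeq : N = gagolaSubgroup χ := by
    ext g
    rw [hN g, gagola_mem_iff hG χ hχ g]
  have hNP : N ≤ (P : Subgroup G) := hNp.le_sylow_of_normal P
  constructor
  · intro hZ
    -- `P = C_G(x)` for every nonidentity `x ∈ N`
    have hPC : ∀ x ∈ N, x ≠ 1 → (P : Subgroup G) = Subgroup.centralizer ({x} : Set G) := by
      intro x hxN hx1
      have hle : (P : Subgroup G) ≤ Subgroup.centralizer ({x} : Set G) := by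
        intro y hy
        rw [Subgroup.mem_centralizer_iff]
        intro h hh
        rw [Set.mem_singleton_iff] at hh
        subst hh
        rw [← hZ] at hxN
        obtain ⟨x', hx', hxx⟩ := hxN
        have := (Subgroup.mem_center_iff.1 hx') ⟨y, hy⟩
        have h2 := congrArg Subtype.val this
        rw [← hxx]
        simpa using h2.symm
      apply Subgroup.eq_of_le_of_card_ge hle
      rw [gagola_card_centralizer hG χ hχ p N hN hNp hN1 x hxN hx1,
        Sylow.card_eq_multiplicity P]
    obtain ⟨x, hxN, hx1⟩ : ∃ x ∈ N, x ≠ 1 := by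
      by_contra hno
      push Not at hno
      exact hN1 ((Subgroup.eq_bot_iff_forall N).2 hno)
    constructor
    intro n hn g
    have hgx : g * x * g⁻¹ ∈ N := (inferInstance : N.Normal).conj_mem x hxN g
    have hgx1 : g * x * g⁻¹ ≠ 1 := by
      intro h
      apply hx1
      have : x = g⁻¹ * (g * x * g⁻¹) * g := by group
      rw [this, h]; group
    rw [hPC (g * x * g⁻¹) hgx hgx1, Subgroup.mem_centralizer_iff]
    intro h hh
    rw [Set.mem_singleton_iff] at hh
    subst hh
    rw [hPC x hxN hx1, Subgroup.mem_centralizer_iff] at hn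
    have hc := hn x (Set.mem_singleton x)
    calc g * x * g⁻¹ * (g * n * g⁻¹) = g * (x * n) * g⁻¹ := by group
      _ = g * (n * x) * g⁻¹ := by rw [hc]
      _ = g * n * g⁻¹ * (g * x * g⁻¹) := by group
  · intro hPn
    apply le_antisymm (gagola_center_le hG χ hχ p N hN hNp hN1 P)
    have hZn : ((Subgroup.center ↥(P : Subgroup G)).map (P : Subgroup G).subtype).Normal :=
      ConjAct.normal_of_characteristic_of_normal
    have hPnt : Nontrivial ↥(P : Subgroup G) := by
      rw [Subgroup.nontrivial_iff_ne_bot]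
      intro h
      apply hN1
      rw [eq_bot_iff, ← h]
      exact hNP
    have hcnt : Nontrivial ↥(Subgroup.center ↥(P : Subgroup G)) :=
      IsPGroup.center_nontrivial P.isPGroup'
    have hZ1 : (Subgroup.center ↥(P : Subgroup G)).map (P : Subgroup G).subtype ≠ ⊥ := by
      intro h
      rw [Subgroup.map_eq_bot_iff_of_injective _ (Subgroup.subtype_injective _)] at h
      rw [Subgroup.nontrivial_iff_ne_bot] at hcnt
      exact hcnt h
    rw [hNeq]
    exact gagola_le_of_normal hG χ hχ _ hZn hZ1

open scoped commutatorElement in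
/-- `N` is a term of the upper central series of a Sylow `p`-subgroup. -/
theorem gagola_upperCentralSeries (hG : 2 < Nat.card G) (χ : IrrCharacter G)
    (hχ : Nat.card {C : ConjClasses G // ∃ g ∈ C.carrier, (χ : G → ℂ) g ≠ 0} = 2)
    (p : ℕ) [Fact p.Prime]
    (N : Subgroup G) [N.Normal] (hN : ∀ g : G, g ∈ N ↔ (χ : G → ℂ) g ≠ 0)
    (hNp : IsPGroup p N) (P : Sylow p G) :
    ∃ i : ℕ, Subgroup.upperCentralSeries ↥(P : Subgroup G) i = N.subgroupOf (P : Subgroup G) := by
  classical
  have hNP : N ≤ (P : Subgroup G) := hNp.le_sylow_of_normal P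
  have hN'card : Nat.card (N.subgroupOf (P : Subgroup G)) = Nat.card N :=
    Nat.card_congr (Subgroup.subgroupOfEquivOfLe hNP).toEquiv
  by_contra hne
  push Not at hne
  have hall : ∀ i : ℕ, Subgroup.upperCentralSeries ↥(P : Subgroup G) i ≤
      N.subgroupOf (P : Subgroup G) := by
    intro i
    induction i with
    | zero => rw [Subgroup.upperCentralSeries_zero]; exact bot_le
    | succ i ih =>
      intro x hx
      by_contra hxN
      have hxN' : (x : G) ∉ N := by
        intro h
        exact hxN (Subgroup.mem_subgroupOf.2 h)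
      have hlt : Subgroup.upperCentralSeries ↥(P : Subgroup G) i < N.subgroupOf (P : Subgroup G) :=
        lt_of_le_of_ne ih (hne i)
      have hcardlt : Nat.card (Subgroup.upperCentralSeries ↥(P : Subgroup G) i) < Nat.card N := by
        rw [← hN'card]
        by_contra hge
        push Not at hge
        exact hne i (Subgroup.eq_of_le_of_card_ge ih hge)
      -- the class of `x` in `P` injects into `Z_i`
      have hclass : Nat.card {y : ↥(P : Subgroup G) // IsConj x y} ≤
          Nat.card (Subgroup.upperCentralSeries ↥(P : Subgroup G) i) := by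
        have hmem : ∀ y : {y : ↥(P : Subgroup G) // IsConj x y},
            y.1 * x⁻¹ ∈ Subgroup.upperCentralSeries ↥(P : Subgroup G) i := by
          rintro ⟨y, hy⟩
          obtain ⟨g, hg⟩ := isConj_iff.1 hy
          have h1 := (Subgroup.mem_upperCentralSeries_succ_iff.1 hx) g
          have h2 := Subgroup.inv_mem _ h1
          have h3 : (⁅x, g⁆)⁻¹ = y * x⁻¹ := by
            rw [commutatorElement_def, ← hg]; group
          rw [h3] at h2
          exact h2
        apply Nat.card_le_card_of_injective (fun y => ⟨y.1 * x⁻¹, hmem y⟩)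
        intro y y' hyy'
        have := congrArg Subtype.val hyy'
        simp only [mul_left_inj] at this
        exact Subtype.ext this
      have hPcard := card_isConj_mul_card_centralizer x
      -- the centralizer of `x` in `P`, as a `p`-subgroup of `G`
      set C := Subgroup.centralizer ({x} : Set ↥(P : Subgroup G)) with hC
      have hHp : IsPGroup p (C.map (P : Subgroup G).subtype) :=
        P.isPGroup'.to_le (Subgroup.map_subtype_le C)
      have hHx : C.map (P : Subgroup G).subtype ≤ Subgroup.centralizer ({(x : G)} : Set G) := by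
        rintro y ⟨y', hy', rfl⟩
        rw [Subgroup.mem_centralizer_iff]
        intro h hh
        rw [Set.mem_singleton_iff] at hh
        subst hh
        have := (Subgroup.mem_centralizer_iff.1 hy') x (Set.mem_singleton x)
        have h2 := congrArg Subtype.val this
        simpa using h2
      have hb := gagola_pSubgroup_bound hG χ hχ p N hN hNp (x : G) hxN' _ hHp hHx
      rw [Subgroup.card_map_of_injective (Subgroup.subtype_injective _),
        ← Sylow.card_eq_multiplicity P] at hb
      have hCpos : 0 < Nat.card C := Nat.card_pos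
      have h4 : Nat.card {y : ↥(P : Subgroup G) // IsConj x y} < Nat.card N :=
        lt_of_le_of_lt hclass hcardlt
      have h5 : Nat.card {y : ↥(P : Subgroup G) // IsConj x y} * Nat.card C <
          Nat.card N * Nat.card C := Nat.mul_lt_mul_of_pos_right h4 hCpos
      rw [hPcard] at h5
      nlinarith
  have : Group.IsNilpotent ↥(P : Subgroup G) := P.isPGroup'.isNilpotent
  obtain ⟨n, hn⟩ := Group.IsNilpotent.nilpotent ↥(P : Subgroup G)
  apply hne n
  apply le_antisymm (hall n)
  rw [hn]
  exact le_top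

end Quot

end Cfsg.Agent.Helper80
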