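import Mathlib
import Cfsg.Agent.Lib.Helper80.Gagola4
import Cfsg.Agent.Lib.Helper80.FrobSchur2

/-!
# Gagola characters, part 5 (helper80): the numerical and conjugacy data used for `N = O_p(G)`
-/

set_option autoImplicit false

namespace Cfsg.Agent.Helper80

open scoped ComplexConjugate
open Cfsg

universe u

/-- The group-theoretic data extracted from a Gagola character. -/
structure GagData {G : Type u} [Group G] (N : Subgroup G) [N.Normal] (p b : ℕ) : Prop where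
  bpos : 0 < b
  cardG : Nat.card G = b ^ 2 * Nat.card N * (Nat.card N - 1)
  cent : ∀ x ∈ N, x ≠ 1 → Nat.card (Subgroup.centralizer ({x} : Set G)) = b ^ 2 * Nat.card N
  ppow : ∃ k : ℕ, b ^ 2 * Nat.card N = p ^ k
  npow : ∃ k : ℕ, 0 < k ∧ Nat.card N = p ^ k
  comm : ∀ x ∈ N, ∀ y ∈ N, x * y = y * x
  exp : ∀ x ∈ N, x ^ p = 1
  cc : ∀ g : G, g ∉ N → ∀ n ∈ N, IsConj g (g * n)
  quot : ∀ g : G, g ∉ N → Nat.card (Subgroup.centralizer ({g} : Set G)) =
      Nat.card (Subgroup.centralizer ({(g : G ⧸ N)} : Set (G ⧸ N)))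
  mult : ∀ Y : Subgroup G, ∃ m : ℕ,
      b * Nat.card N = m * Nat.card Y + b * Nat.card (N.subgroupOf Y)
  root : (∀ u : G, u * u = 1 ↔ u ∈ N) → ∀ x ∈ N, x ≠ 1 →
      b = 1 ∨ Nat.card {u : G // u * u = x} = Nat.card N * (1 + b)

section Nums

variable {G : Type u} [Group G] [Finite G]

theorem gagola_nums (hG : 2 < Nat.card G) (χ : IrrCharacter G)
    (hχ : Nat.card {C : ConjClasses G // ∃ g ∈ C.carrier, (χ : G → ℂ) g ≠ 0} = 2)
    (p : ℕ) [Fact p.Prime] (N : Subgroup G) (hN : ∀ g : G, g ∈ N ↔ (χ : G → ℂ) g ≠ 0)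
    (hNp : IsPGroup p N) (hN1 : N ≠ ⊥) :
    ∃ b : ℕ, 0 < b ∧ (χ : G → ℂ) 1 = (b : ℂ) * ((Nat.card N : ℂ) - 1) ∧
      (∀ x ∈ N, x ≠ 1 → (χ : G → ℂ) x = -(b : ℂ)) ∧
      Nat.card G = b ^ 2 * Nat.card N * (Nat.card N - 1) ∧
      (∀ x ∈ N, x ≠ 1 →
        Nat.card (Subgroup.centralizer ({x} : Set G)) = b ^ 2 * Nat.card N) := by
  classical
  obtain ⟨β, c, hcpos, hcard, hb, hval, hGcard, hcent⟩ := gagola_setup hG χ hχ N hN
  obtain ⟨x, hxN, hx1⟩ : ∃ x ∈ N, x ≠ 1 := by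
    by_contra hno
    push Not at hno
    exact hN1 ((Subgroup.eq_bot_iff_forall N).2 hno)
  obtain ⟨k₀, hk₀⟩ := gagola_dvd χ N p hNp hN β hval x hxN hx1 ⊥ bot_le (by simp)
  rw [Subgroup.card_bot, Nat.cast_one, mul_one] at hk₀
  have hd : (χ : G → ℂ) 1 = (charDegree (χ : G → ℂ) : ℂ) := irr_one χ
  have hdpos := charDegree_pos χ
  have hkc : k₀ * (c : ℤ) = -(charDegree (χ : G → ℂ) : ℤ) := by
    have : ((k₀ * (c : ℤ) : ℤ) : ℂ) = ((-(charDegree (χ : G → ℂ) : ℤ) : ℤ) : ℂ) := by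
      push_cast
      rw [← hk₀, hb, hd]
    exact_mod_cast this
  have hk₀neg : k₀ < 0 := by
    by_contra h
    push Not at h
    have h1 : 0 ≤ k₀ * (c : ℤ) := mul_nonneg h (by positivity)
    rw [hkc] at h1
    have h2 : (0 : ℤ) < (charDegree (χ : G → ℂ) : ℤ) := by exact_mod_cast hdpos
    omega
  set b := k₀.natAbs with hbdef
  have hkb : k₀ = -(b : ℤ) := by rw [hbdef]; omega
  have hβb : β = -(b : ℂ) := by rw [hk₀, hkb]; push_cast; ring
  have hbpos : 0 < b := by rw [hbdef]; omega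
  have hc' : Nat.card N - 1 = c := by omega
  have hcN : (c : ℂ) = (Nat.card N : ℂ) - 1 := by rw [← hcard]; push_cast; ring
  have hGN : Nat.card G = b ^ 2 * Nat.card N * c := by
    have : (Nat.card G : ℂ) = ((b ^ 2 * Nat.card N * c : ℕ) : ℂ) := by
      rw [hGcard, hβb]; push_cast; ring
    exact_mod_cast this
  refine ⟨b, hbpos, ?_, ?_, ?_, ?_⟩
  · have h1 : (χ : G → ℂ) 1 = -(β * c) := by rw [hb]; ring
    rw [h1, hβb, hcN]; ring
  · intro y hy hy1
    rw [hval y hy hy1, hβb]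
  · rw [hc', hGN]
  · intro y hy hy1
    have hCc := hcent y hy hy1
    have : Nat.card (Subgroup.centralizer ({y} : Set G)) * c = (b ^ 2 * Nat.card N) * c := by
      rw [hCc, hGN]
    exact Nat.eq_of_mul_eq_mul_right hcpos this

theorem gagola_comm_exp (hG : 2 < Nat.card G) (χ : IrrCharacter G)
    (hχ : Nat.card {C : ConjClasses G // ∃ g ∈ C.carrier, (χ : G → ℂ) g ≠ 0} = 2)
    (p : ℕ) [Fact p.Prime] (N : Subgroup G) (hN : ∀ g : G, g ∈ N ↔ (χ : G → ℂ) g ≠ 0)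
    (hNp : IsPGroup p N) (hN1 : N ≠ ⊥) :
    (∀ x ∈ N, ∀ y ∈ N, x * y = y * x) ∧ ∀ x ∈ N, x ^ p = 1 := by
  have hp : p.Prime := Fact.out
  have hNeq : N = gagolaSubgroup χ := by
    ext g
    rw [hN g, gagola_mem_iff hG χ hχ g]
  obtain ⟨p', hp', hcomm, hexp⟩ := gagola_elementaryAbelian hG χ hχ
  rw [← hNeq] at hcomm hexp
  obtain ⟨x, hxN, hx1⟩ : ∃ x ∈ N, x ≠ 1 := by
    by_contra hno
    push Not at hno
    exact hN1 ((Subgroup.eq_bot_iff_forall N).2 hno)
  have : Fact p'.Prime := ⟨hp'⟩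
  have ho : orderOf x = p' := orderOf_eq_prime (hexp x hxN) hx1
  obtain ⟨k, hk⟩ := hNp ⟨x, hxN⟩
  have hk' : x ^ p ^ k = 1 := by
    have := congrArg Subtype.val hk
    simpa using this
  have hdvd : p' ∣ p ^ k := by rw [← ho]; exact orderOf_dvd_of_pow_eq_one hk'
  have hpp : p' = p := (Nat.prime_dvd_prime_iff_eq hp' hp).1 (hp'.dvd_of_dvd_pow hdvd)
  subst hpp
  refine ⟨?_, hexp⟩
  intro a ha c hc
  have := hcomm.is_comm.comm ⟨a, ha⟩ ⟨c, hc⟩
  exact congrArg Subtype.val this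

theorem gagola_ker (hG : 2 < Nat.card G) (χ : IrrCharacter G)
    (hχ : Nat.card {C : ConjClasses G // ∃ g ∈ C.carrier, (χ : G → ℂ) g ≠ 0} = 2)
    (N : Subgroup G) (hN : ∀ g : G, g ∈ N ↔ (χ : G → ℂ) g ≠ 0)
    (ψ : IrrCharacter G) (hψ : ψ ≠ χ) : N ≤ Helper79.irrKer ψ := by
  have hNeq : N = gagolaSubgroup χ := by
    ext g
    rw [hN g, gagola_mem_iff hG χ hχ g]
  intro g hg
  rw [hNeq, mem_gagolaSubgroup] at hg
  exact (Helper79.mem_irrKer ψ g).2 (hg ψ hψ)

theorem gagola_cc (hG : 2 < Nat.card G) (χ : IrrCharacter G)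
    (hχ : Nat.card {C : ConjClasses G // ∃ g ∈ C.carrier, (χ : G → ℂ) g ≠ 0} = 2)
    (N : Subgroup G) [N.Normal] (hN : ∀ g : G, g ∈ N ↔ (χ : G → ℂ) g ≠ 0)
    (g : G) (hg : g ∉ N) (n : G) (hn : n ∈ N) : IsConj g (g * n) := by
  classical
  have := Fintype.ofFinite (IrrCharacter G)
  by_contra hnc
  have h1 := irr_second_orthogonality g (g * n)
  rw [if_neg hnc, finsum_eq_sum_of_fintype] at h1
  have h2 := irr_second_orthogonality g g
  rw [if_pos (IsConj.refl _), finsum_eq_sum_of_fintype] at h2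
  have hgn : g * n ∉ N := by
    intro h
    apply hg
    have := N.mul_mem h (N.inv_mem hn)
    simpa using this
  have h3 : ∀ ψ : IrrCharacter G, (ψ : G → ℂ) (g * n) = (ψ : G → ℂ) g := by
    intro ψ
    by_cases hψ : ψ = χ
    · subst hψ
      have e1 : (ψ : G → ℂ) (g * n) = 0 := by
        by_contra h
        exact hgn ((hN _).2 h)
      have e2 : (ψ : G → ℂ) g = 0 := by
        by_contra h
        exact hg ((hN _).2 h)
      rw [e1, e2]
    · obtain ⟨ψ', rfl⟩ := Helper79.exists_deflate N ψ (gagola_ker hG χ hχ N hN ψ hψ)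
      rw [Helper79.inflate_apply, Helper79.inflate_apply]
      congr 1
      rw [QuotientGroup.mk_mul, (QuotientGroup.eq_one_iff n).2 hn, mul_one]
  simp only [h3] at h1
  rw [h1] at h2
  have h4 : (Nat.card (Subgroup.centralizer ({g} : Set G)) : ℂ) ≠ 0 := by
    exact_mod_cast Nat.card_pos.ne'
  exact h4 h2.symm

theorem gagola_mult (χ : IrrCharacter G)
    (N : Subgroup G) (hN : ∀ g : G, g ∈ N ↔ (χ : G → ℂ) g ≠ 0) (b : ℕ)
    (hv1 : (χ : G → ℂ) 1 = (b : ℂ) * ((Nat.card N : ℂ) - 1))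
    (hvN : ∀ x ∈ N, x ≠ 1 → (χ : G → ℂ) x = -(b : ℂ)) (Y : Subgroup G) :
    ∃ m : ℕ, b * Nat.card N = m * Nat.card Y + b * Nat.card (N.subgroupOf Y) := by
  classical
  have : Fintype Y := Fintype.ofFinite Y
  have hres : IsCharacter Y (fun y : Y => (χ : G → ℂ) (Y.subtype y)) :=
    isCharacter_comp_hom Y.subtype (isCharacter_of_irr χ.2)
  have hone : IsCharacter Y (fun _ => (1 : ℂ)) := isCharacter_of_irr isIrrCharacter_one
  obtain ⟨m, hm⟩ := Helper81.exists_nat_classInner_char hres hone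
  rw [classInner] at hm
  have h1 : ∀ y : Y, (χ : G → ℂ) (Y.subtype y) * conj (1 : ℂ) =
      (if y ∈ N.subgroupOf Y then -(b : ℂ) else 0) +
        (if y = 1 then (b : ℂ) * Nat.card N else 0) := by
    intro y
    rw [map_one, mul_one, Subgroup.coe_subtype, Subgroup.mem_subgroupOf]
    by_cases hy : (y : G) ∈ N
    · by_cases hy1 : y = 1
      · subst hy1
        rw [if_pos hy, if_pos rfl, Subgroup.coe_one, hv1]
        ring
      · rw [if_pos hy, if_neg hy1, add_zero]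
        exact hvN y hy (fun h => hy1 (Subtype.ext h))
    · have hy1 : y ≠ 1 := by
        rintro rfl
        exact hy (one_mem N)
      rw [if_neg hy, if_neg hy1, add_zero]
      by_contra h
      exact hy ((hN _).2 h)
  have hsum : ∑ y : Y, (χ : G → ℂ) (Y.subtype y) * conj (1 : ℂ) =
      (b : ℂ) * Nat.card N - b * Nat.card (N.subgroupOf Y) := by
    rw [Finset.sum_congr rfl (fun y _ => h1 y), Finset.sum_add_distrib,
      Finset.sum_ite_eq' Finset.univ (1 : Y), if_pos (Finset.mem_univ _),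
      Finset.sum_ite, Finset.sum_const_zero, add_zero, Finset.sum_const, nsmul_eq_mul,
      Nat.card_eq_fintype_card (α := ↥(N.subgroupOf Y)), Fintype.card_subtype]
    ring
  rw [hsum] at hm
  have hY0 : (Nat.card Y : ℂ) ≠ 0 := by exact_mod_cast Nat.card_pos.ne'
  refine ⟨m, ?_⟩
  have h2 : (b : ℂ) * Nat.card N = m * Nat.card Y + b * Nat.card (N.subgroupOf Y) := by
    rw [← hm]
    field_simp
    ring
  exact_mod_cast h2

theorem gagola_root (hG : 2 < Nat.card G) (χ : IrrCharacter G)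
    (hχ : Nat.card {C : ConjClasses G // ∃ g ∈ C.carrier, (χ : G → ℂ) g ≠ 0} = 2)
    (N : Subgroup G) (hN : ∀ g : G, g ∈ N ↔ (χ : G → ℂ) g ≠ 0) (b : ℕ) (hbpos : 0 < b)
    (hv1 : (χ : G → ℂ) 1 = (b : ℂ) * ((Nat.card N : ℂ) - 1))
    (hvN : ∀ x ∈ N, x ≠ 1 → (χ : G → ℂ) x = -(b : ℂ))
    (hinv : ∀ u : G, u * u = 1 ↔ u ∈ N) (x : G) (hxN : x ∈ N) (hx1 : x ≠ 1) :
    b = 1 ∨ Nat.card {u : G // u * u = x} = Nat.card N * (1 + b) := by
  classical
  have := Fintype.ofFinite G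
  have := Fintype.ofFinite (IrrCharacter G)
  have r1 := card_sqrt_eq (1 : G)
  have rx := card_sqrt_eq x
  rw [finsum_eq_sum_of_fintype] at r1 rx
  have hdiff : (Nat.card {u : G // u * u = 1} : ℂ) - (Nat.card {u : G // u * u = x} : ℂ) =
      conj ((Nat.card G : ℂ)⁻¹ * ∑ u : G, (χ : G → ℂ) (u * u)) * ((b : ℂ) * Nat.card N) := by
    rw [r1, rx, ← Finset.sum_sub_distrib]
    rw [Finset.sum_eq_single χ]
    · rw [← mul_sub, hv1, hvN x hxN hx1]
      ring
    · intro ψ _ hψ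
      have hk := gagola_ker hG χ hχ N hN ψ hψ hxN
      rw [Helper79.mem_irrKer] at hk
      rw [hk, sub_self]
    · intro h
      exact absurd (Finset.mem_univ χ) h
  have hr1 : Nat.card {u : G // u * u = 1} = Nat.card N :=
    Nat.card_congr (Equiv.subtypeEquivRight hinv)
  rw [hr1] at hdiff
  obtain ⟨h3, h0, _⟩ := irr_fs χ
  have hreal : ∀ s : G, ((χ : G → ℂ) s).im = 0 := by
    intro s
    by_cases hs : s ∈ N
    · by_cases hs1 : s = 1
      · rw [hs1, hv1]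
        simp
      · rw [hvN s hs hs1]
        simp
    · have : (χ : G → ℂ) s = 0 := by
        by_contra h
        exact hs ((hN _).2 h)
      rw [this]
      simp
  rcases h3 with h | h | h
  · obtain ⟨s, hs⟩ := h0.1 h
    exact absurd (hreal s) hs
  · left
    rw [h, map_one, one_mul] at hdiff
    have h5 : (Nat.card N : ℂ) = ((Nat.card {u : G // u * u = x} + b * Nat.card N : ℕ) : ℂ) := by
      push_cast
      rw [← hdiff]
      ring
    have h6 : Nat.card N = Nat.card {u : G // u * u = x} + b * Nat.card N := by exact_mod_cast h5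
    have hNpos : 0 < Nat.card N := Nat.card_pos
    nlinarith
  · right
    rw [h, map_neg, map_one] at hdiff
    have h5 : ((Nat.card {u : G // u * u = x} : ℕ) : ℂ) = ((Nat.card N * (1 + b) : ℕ) : ℂ) := by
      push_cast
      have : (Nat.card {u : G // u * u = x} : ℂ) = (Nat.card N : ℂ) + (b : ℂ) * Nat.card N := by
        linear_combination -hdiff
      rw [this]
      ring
    exact_mod_cast h5

/-- All the data at once. -/
theorem gagData_of_char (hG : 2 < Nat.card G) (χ : IrrCharacter G)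
    (hχ : Nat.card {C : ConjClasses G // ∃ g ∈ C.carrier, (χ : G → ℂ) g ≠ 0} = 2)
    (p : ℕ) [Fact p.Prime] (N : Subgroup G) [N.Normal]
    (hN : ∀ g : G, g ∈ N ↔ (χ : G → ℂ) g ≠ 0)
    (hNp : IsPGroup p N) (hN1 : N ≠ ⊥) : ∃ b : ℕ, GagData N p b := by
  have hp : p.Prime := Fact.out
  obtain ⟨b, hbpos, hv1, hvN, hcardG, hcent⟩ := gagola_nums hG χ hχ p N hN hNp hN1
  obtain ⟨hcomm, hexp⟩ := gagola_comm_exp hG χ hχ p N hN hNp hN1
  obtain ⟨x, hxN, hx1⟩ : ∃ x ∈ N, x ≠ 1 := by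
    by_contra hno
    push Not at hno
    exact hN1 ((Subgroup.eq_bot_iff_forall N).2 hno)
  refine ⟨b, ⟨hbpos, hcardG, hcent, ?_, ?_, hcomm, hexp, ?_, ?_, ?_, ?_⟩⟩
  · refine ⟨(Nat.card G).factorization p, ?_⟩
    rw [← hcent x hxN hx1]
    exact gagola_card_centralizer hG χ hχ p N hN hNp hN1 x hxN hx1
  · obtain ⟨k, hk⟩ := IsPGroup.iff_card.1 hNp
    refine ⟨k, ?_, hk⟩
    rcases Nat.eq_zero_or_pos k with h | h
    · exfalso
      rw [h, pow_zero] at hk
      exact hN1 ((Subgroup.card_eq_one).1 hk)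
    · exact h
  · intro g hg n hn
    exact gagola_cc hG χ hχ N hN g hg n hn
  · intro g hg
    exact gagola_card_centralizer_quot hG χ hχ N hN g hg
  · intro Y
    exact gagola_mult χ N hN b hv1 hvN Y
  · intro hinv y hy hy1
    exact gagola_root hG χ hχ N hN b hbpos hv1 hvN hinv y hy hy1

end Nums

end Cfsg.Agent.Helper80
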