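import Mathlib
import Cfsg.Agent.Lib.Helper80.Gag39A
import Cfsg.Agent.Lib.Helper23.PCore

/-!
# Gagola characters, part 6 (helper80): `N = O_p(G)` forces `b = 1` for odd `p`; the Frobenius
complement when `b = 1`; the converse direction.
-/

set_option autoImplicit false

namespace Cfsg.Agent.Helper80

open Cfsg
open scoped Pointwise

universe u

section Basic

variable {G : Type u} [Group G] [Finite G] {N : Subgroup G} [N.Normal] {p b : ℕ} [Fact p.Prime]

theorem GagData.exists_ne (D : GagData N p b) : ∃ x ∈ N, x ≠ 1 := by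
  obtain ⟨k, hk, hN⟩ := D.npow
  have h1 : 1 < Nat.card N := by
    rw [hN]
    exact Nat.one_lt_pow hk.ne' (Fact.out : p.Prime).one_lt
  have hne : N ≠ ⊥ := (Subgroup.one_lt_card_iff_ne_bot N).1 h1
  by_contra hno
  push Not at hno
  exact hne ((Subgroup.eq_bot_iff_forall N).2 hno)

theorem GagData.isPGroup_N (D : GagData N p b) : IsPGroup p N := by
  obtain ⟨k, _, hN⟩ := D.npow
  exact IsPGroup.of_card hN

theorem GagData.isPGroup_centralizer (D : GagData N p b) (x : G) (hx : x ∈ N) (hx1 : x ≠ 1) :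
    IsPGroup p (Subgroup.centralizer ({x} : Set G)) := by
  obtain ⟨k, hk⟩ := D.ppow
  exact IsPGroup.of_card (by rw [D.cent x hx hx1, hk])

theorem GagData.mem_of_centralizes (D : GagData N p b) (hcore : N = Cfsg.pCore p G) (g : G)
    (hg : ∀ n ∈ N, g * n = n * g) : g ∈ N := by
  obtain ⟨x, hxN, hx1⟩ := D.exists_ne
  have hCle : Subgroup.centralizer (N : Set G) ≤ Subgroup.centralizer ({x} : Set G) :=
    Subgroup.centralizer_le (by simpa using hxN)
  have hCp : IsPGroup p (Subgroup.centralizer (N : Set G)) :=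
    (D.isPGroup_centralizer x hxN hx1).to_le hCle
  have hCn : (Subgroup.centralizer (N : Set G)).Normal := inferInstance
  have hle : Subgroup.centralizer (N : Set G) ≤ Cfsg.pCore p G := le_sSup ⟨hCn, hCp⟩
  rw [hcore]
  apply hle
  rw [Subgroup.mem_centralizer_iff]
  intro n hn
  exact (hg n hn).symm

theorem comm_of_conj_mul_eq_one {Q : Type*} [Group Q] (a c : Q) (h1 : a * c * a⁻¹ * c = 1)
    (h2 : c * c = 1) : c * a = a * c := by
  have h3 : a * c * a⁻¹ = c⁻¹ := eq_inv_of_mul_eq_one_left h1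
  have h4 : c⁻¹ = c := inv_eq_of_mul_eq_one_left h2
  rw [h4] at h3
  calc c * a = a * c * a⁻¹ * a := by rw [h3]
    _ = a * c := by group

end Basic

section OddCase

variable {G : Type u} [Group G] [Finite G] {N : Subgroup G} [N.Normal] {p b : ℕ} [Fact p.Prime]

theorem GagData.b_eq_one_of_odd (D : GagData N p b) (hcore : N = Cfsg.pCore p G) (hp2 : p ≠ 2) :
    b = 1 := by
  have hp : p.Prime := Fact.out
  obtain ⟨k, hkpos, hNk⟩ := D.npow
  set q := Nat.card N with hq
  have hpodd : Odd p := hp.odd_of_ne_two hp2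
  have hqodd : Odd q := by rw [hNk]; exact hpodd.pow
  have hq1 : 1 ≤ q := Nat.card_pos
  have hq2 : 2 ≤ q := by
    rw [hNk]
    calc 2 ≤ p := hp.two_le
      _ = p ^ 1 := (pow_one p).symm
      _ ≤ p ^ k := Nat.pow_le_pow_right hp.pos hkpos
  have h2G : 2 ∣ Nat.card G := by
    rw [D.cardG]
    apply Dvd.dvd.mul_left
    exact (Nat.Odd.sub_odd hqodd odd_one).two_dvd
  have : Fact (Nat.Prime 2) := ⟨Nat.prime_two⟩
  obtain ⟨z, hz⟩ := exists_prime_orderOf_dvd_card' 2 h2G
  have hz2 : z * z = 1 := by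
    rw [← pow_two, ← hz]
    exact pow_orderOf_eq_one z
  -- an element of order `2` lies in no `p`-subgroup
  have hnot2 : ∀ u : G, orderOf u = 2 → ∀ Q : Subgroup G, IsPGroup p Q → u ∉ Q := by
    intro u hu Q hQ huQ
    obtain ⟨j, hj⟩ := hQ ⟨u, huQ⟩
    have hj' : u ^ p ^ j = 1 := by
      have := congrArg Subtype.val hj
      simpa using this
    have h1 : 2 ∣ p ^ j := by
      rw [← hu]
      exact orderOf_dvd_of_pow_eq_one hj'
    have h2 : 2 ∣ p := Nat.Prime.dvd_of_dvd_pow Nat.prime_two h1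
    exact hp2 ((Nat.prime_dvd_prime_iff_eq Nat.prime_two hp).1 h2).symm
  have hzN : z ∉ N := hnot2 z hz N D.isPGroup_N
  -- involutions invert `N`
  have hinvert : ∀ u : G, u * u = 1 → (∀ Q : Subgroup G, IsPGroup p Q → u ∉ Q) →
      ∀ n ∈ N, u * n * u⁻¹ = n⁻¹ := by
    intro u hu2 hunot n hn
    have hu_inv : u⁻¹ = u := inv_eq_of_mul_eq_one_left hu2
    have hunu : u * n * u⁻¹ ∈ N := (inferInstance : N.Normal).conj_mem n hn u
    set w := n * (u * n * u⁻¹) with hw
    have hwN : w ∈ N := N.mul_mem hn hunu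
    have h1 : u * w * u⁻¹ = (u * n * u⁻¹) * n := by
      rw [hw, hu_inv]
      calc u * (n * (u * n * u)) * u = (u * n * u) * n * (u * u) := by group
        _ = (u * n * u) * n := by rw [hu2, mul_one]
    have h2 : (u * n * u⁻¹) * n = w := by
      rw [hw]
      exact D.comm _ hunu _ hn
    rw [h2] at h1
    have hcomm : w * u = u * w := by
      calc w * u = u * w * u⁻¹ * u := by rw [h1]
        _ = u * w := by group
    by_cases hw1 : w = 1
    · exact eq_inv_of_mul_eq_one_right hw1
    · exfalso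
      apply hunot _ (D.isPGroup_centralizer w hwN hw1)
      rw [Subgroup.mem_centralizer_singleton_iff]
      exact hcomm.symm
  have hz_inv := hinvert z hz2 (hnot2 z hz)
  -- the image of `z` in `G ⧸ N` is central
  have hcent_top : Subgroup.centralizer ({(z : G ⧸ N)} : Set (G ⧸ N)) = ⊤ := by
    rw [eq_top_iff]
    intro y _
    obtain ⟨g, rfl⟩ := QuotientGroup.mk_surjective y
    rw [Subgroup.mem_centralizer_singleton_iff]
    set z' := g * z * g⁻¹ with hz'
    have hz'2 : z' * z' = 1 := by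
      rw [hz']
      calc g * z * g⁻¹ * (g * z * g⁻¹) = g * (z * z) * g⁻¹ := by group
        _ = 1 := by rw [hz2]; group
    have hz'o : orderOf z' = 2 := by
      rw [hz', ← hz]
      have : g * z * g⁻¹ = MulAut.conj g z := rfl
      rw [this]
      exact MulEquiv.orderOf_eq _ z
    have hz'_inv := hinvert z' hz'2 (hnot2 z' hz'o)
    have hprod : z' * z ∈ N := by
      apply D.mem_of_centralizes hcore
      intro n hn
      have e1 : z * n = n⁻¹ * z := by
        have := hz_inv n hn
        calc z * n = z * n * z⁻¹ * z := by group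
          _ = n⁻¹ * z := by rw [this]
      have e2 : z' * n⁻¹ = n * z' := by
        have := hz'_inv n⁻¹ (N.inv_mem hn)
        rw [inv_inv] at this
        calc z' * n⁻¹ = z' * n⁻¹ * z'⁻¹ * z' := by group
          _ = n * z' := by rw [this]
      calc z' * z * n = z' * (z * n) := by group
        _ = z' * (n⁻¹ * z) := by rw [e1]
        _ = (z' * n⁻¹) * z := by group
        _ = n * z' * z := by rw [e2]
        _ = n * (z' * z) := by group
    have e3 : ((z' * z : G) : G ⧸ N) = 1 := (QuotientGroup.eq_one_iff _).2 hprod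
    rw [hz'] at e3
    simp only [QuotientGroup.mk_mul, QuotientGroup.mk_inv] at e3
    have e4 : (z : G ⧸ N) * (z : G ⧸ N) = 1 := by
      rw [← QuotientGroup.mk_mul, hz2]
      rfl
    exact (comm_of_conj_mul_eq_one _ _ e3 e4).symm
  have hqpos : 0 < q := Nat.card_pos
  have hCz : Nat.card (Subgroup.centralizer ({z} : Set G)) = b ^ 2 * (q - 1) := by
    rw [D.quot z hzN, hcent_top, Subgroup.card_top]
    have h1 := Subgroup.card_eq_card_quotient_mul_card_subgroup N
    rw [D.cardG] at h1
    apply Nat.eq_of_mul_eq_mul_right hqpos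
    rw [← h1]
    ring
  obtain ⟨m, hm⟩ := D.mult (Subgroup.centralizer ({z} : Set G))
  have hsub : Nat.card (N.subgroupOf (Subgroup.centralizer ({z} : Set G))) = 1 := by
    rw [Subgroup.card_eq_one, Subgroup.eq_bot_iff_forall]
    intro y hy
    by_contra hy1
    have hyN : (y : G) ∈ N := Subgroup.mem_subgroupOf.1 hy
    have hyne : (y : G) ≠ 1 := fun h => hy1 (Subtype.ext h)
    apply hnot2 z hz _ (D.isPGroup_centralizer y hyN hyne)
    rw [Subgroup.mem_centralizer_singleton_iff]
    exact (Subgroup.mem_centralizer_singleton_iff.1 y.2).symm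
  rw [hsub, hCz, mul_one] at hm
  obtain ⟨c, hc⟩ : ∃ c, q = c + 1 := ⟨q - 1, by omega⟩
  have hcpos : 0 < c := by omega
  rw [hc] at hm
  have hc' : c + 1 - 1 = c := by omega
  rw [hc'] at hm
  have h5 : b * c * 1 = b * c * (m * b) := by nlinarith
  have h6 : 1 = m * b := Nat.eq_of_mul_eq_mul_left (Nat.mul_pos D.bpos hcpos) h5
  exact Nat.dvd_one.1 ⟨m, by rw [h6]; ring⟩

end OddCase

section Frob

variable {G : Type u} [Group G] [Finite G] {N : Subgroup G} [N.Normal] {p b : ℕ} [Fact p.Prime]

theorem GagData.exists_frob (D : GagData N p b) (hb : b = 1) (hG : 2 < Nat.card G) :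
    ∃ H : Subgroup G, Cfsg.IsFrobeniusComplement H ∧ Cfsg.frobeniusKernel H = (N : Set G) ∧
      Nat.card H + 1 = Nat.card N := by
  subst hb
  have hp : p.Prime := Fact.out
  set q := Nat.card N with hq
  have hcardG : Nat.card G = q * (q - 1) := by rw [D.cardG]; ring
  have hq2 : 2 < q := by
    by_contra h
    push Not at h
    have : q * (q - 1) ≤ 2 := by
      interval_cases q <;> simp
    omega
  have hcentN : ∀ x ∈ N, x ≠ 1 → Subgroup.centralizer ({x} : Set G) = N := by
    intro x hx hx1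
    symm
    apply Subgroup.eq_of_le_of_card_ge
    · intro n hn
      rw [Subgroup.mem_centralizer_singleton_iff]
      exact D.comm n hn x hx
    · rw [D.cent x hx hx1]
      simp
  have hidx : N.index = q - 1 := by
    have h1 := Subgroup.card_mul_index N
    rw [hcardG] at h1
    exact Nat.eq_of_mul_eq_mul_left (by omega : 0 < q) h1
  have hcop : Nat.Coprime (Nat.card N) N.index := by
    rw [hidx, ← hq]
    have h1 : q - 1 + 1 = q := by omega
    have h2 : Nat.Coprime (q - 1 + 1) (q - 1) := by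
      rw [Nat.coprime_self_add_left]
      exact Nat.coprime_one_left _
    rwa [h1] at h2
  obtain ⟨H, hH⟩ := Subgroup.exists_right_complement'_of_coprime hcop
  have hHcard : Nat.card H = q - 1 := by
    have h1 := hH.card_mul_card
    rw [hcardG, ← hq] at h1
    exact Nat.eq_of_mul_eq_mul_left (by omega : 0 < q) h1
  have hdisj : ∀ y, y ∈ N → y ∈ H → y = 1 := by
    intro y hyN hyH
    exact (Subgroup.disjoint_def.1 hH.disjoint) hyN hyH
  have hprod : ∀ g : G, ∃ n ∈ N, ∃ h ∈ H, g = n * h := by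
    intro g
    obtain ⟨⟨⟨n, hn⟩, ⟨h, hh⟩⟩, hnh⟩ := hH.2 g
    exact ⟨n, hn, h, hh, hnh.symm⟩
  have hmemconj : ∀ (g x : G), x ∈ MulAut.conj g • H ↔ ∃ h ∈ H, x = g * h * g⁻¹ := by
    intro g x
    rw [Subgroup.mem_smul_pointwise_iff_exists]
    constructor
    · rintro ⟨s, hs, rfl⟩
      exact ⟨s, hs, rfl⟩
    · rintro ⟨h, hh, rfl⟩
      exact ⟨h, hh, rfl⟩
  refine ⟨H, ⟨?_, ?_, ?_⟩, ?_, ?_⟩
  · intro h
    rw [h, Subgroup.card_bot] at hHcard
    omega
  · intro h
    rw [h, Subgroup.card_top, hcardG] at hHcard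
    have : q - 1 ≥ 2 := by omega
    nlinarith
  · intro g hg
    rw [Subgroup.eq_bot_iff_forall]
    intro y hy
    rw [Subgroup.mem_inf] at hy
    obtain ⟨hyH, hyc⟩ := hy
    obtain ⟨h₁, hh₁, hy1⟩ := (hmemconj g y).1 hyc
    obtain ⟨n, hn, h₂, hh₂, hgn⟩ := hprod g
    have hn1 : n ≠ 1 := by
      rintro rfl
      apply hg
      rw [hgn, one_mul]
      exact hh₂
    set h₃ := h₂ * h₁ * h₂⁻¹ with hh₃def
    have hh₃ : h₃ ∈ H := H.mul_mem (H.mul_mem hh₂ hh₁) (H.inv_mem hh₂)
    have hy2 : y = n * h₃ * n⁻¹ := by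
      rw [hy1, hgn, hh₃def]
      group
    have hmem : y * h₃⁻¹ ∈ N := by
      have e : y * h₃⁻¹ = n * (h₃ * n⁻¹ * h₃⁻¹) := by rw [hy2]; group
      rw [e]
      exact N.mul_mem hn ((inferInstance : N.Normal).conj_mem _ (N.inv_mem hn) h₃)
    have hyh : y * h₃⁻¹ = 1 := hdisj _ hmem (H.mul_mem hyH (H.inv_mem hh₃))
    have hyeq : y = h₃ := by
      calc y = y * h₃⁻¹ * h₃ := by group
        _ = h₃ := by rw [hyh, one_mul]
    have hcomm : n * h₃ = h₃ * n := by
      calc n * h₃ = n * h₃ * n⁻¹ * n := by group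
        _ = h₃ * n := by rw [← hy2, hyeq]
    have hh₃N : h₃ ∈ N := by
      rw [← hcentN n hn hn1, Subgroup.mem_centralizer_singleton_iff]
      exact hcomm.symm
    rw [hyeq]
    exact hdisj _ hh₃N hh₃
  · ext x
    simp only [Cfsg.frobeniusKernel, Set.mem_setOf_eq, SetLike.mem_coe]
    constructor
    · intro hx
      by_contra hxN
      have hx1 : x ≠ 1 := by
        rintro rfl
        exact hxN (one_mem N)
      rcases hx with hx | hx
      · exact hx1 hx
      · obtain ⟨n, hn, h, hh, hxn⟩ := hprod x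
        have hhN : h ∉ N := by
          intro hhN'
          apply hxN
          rw [hxn]
          exact N.mul_mem hn hhN'
        have hconj : IsConj h (h * (h⁻¹ * n * h)) := by
          apply D.cc h hhN
          have := (inferInstance : N.Normal).conj_mem n hn h⁻¹
          simpa using this
        have e : h * (h⁻¹ * n * h) = x := by rw [hxn]; group
        rw [e] at hconj
        obtain ⟨c, hc⟩ := isConj_iff.1 hconj
        exact hx c ((hmemconj c x).2 ⟨h, hh, hc.symm⟩)
    · intro hxN
      by_cases hx1 : x = 1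
      · exact Or.inl hx1
      · right
        intro g hxg
        obtain ⟨h, hh, hxh⟩ := (hmemconj g x).1 hxg
        have hhN : h ∈ N := by
          have e : h = g⁻¹ * x * g⁻¹⁻¹ := by rw [hxh]; group
          rw [e]
          exact (inferInstance : N.Normal).conj_mem x hxN g⁻¹
        have := hdisj h hhN hh
        apply hx1
        rw [hxh, this]
        group
  · rw [hHcard]
    omega

end Frob

section Converse

variable {G : Type u} [Group G] [Finite G]

theorem pCore_eq_of_frob (p : ℕ) [Fact p.Prime] (N : Subgroup G) [N.Normal] (hNp : IsPGroup p N)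
    (hN1 : N ≠ ⊥) (H : Subgroup G) (hker : Cfsg.frobeniusKernel H = (N : Set G))
    (hcard : Nat.card H + 1 = Nat.card N) : N = Cfsg.pCore p G := by
  have hp : p.Prime := Fact.out
  apply le_antisymm
  · exact le_sSup ⟨inferInstance, hNp⟩
  · intro y hy
    by_contra hyN
    have hnk : y ∉ Cfsg.frobeniusKernel H := by
      rw [hker]
      exact hyN
    simp only [Cfsg.frobeniusKernel, Set.mem_setOf_eq, not_or, not_forall, not_not] at hnk
    obtain ⟨hy1, g, hyg⟩ := hnk
    rw [Subgroup.mem_smul_pointwise_iff_exists] at hyg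
    obtain ⟨h, hh, hhy⟩ := hyg
    have hhy' : g * h * g⁻¹ = y := hhy
    have hcn : (Cfsg.pCore p G).Normal := Helper23.pCore_normal' p G
    have hhcore : h ∈ Cfsg.pCore p G := by
      have e : h = g⁻¹ * y * g⁻¹⁻¹ := by rw [← hhy']; group
      rw [e]
      exact hcn.conj_mem y hy g⁻¹
    obtain ⟨j, hj⟩ := (Helper23.pCore_isPGroup p G) ⟨h, hhcore⟩
    have hj' : h ^ p ^ j = 1 := by
      have := congrArg Subtype.val hj
      simpa using this
    have hd1 : orderOf h ∣ p ^ j := orderOf_dvd_of_pow_eq_one hj'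
    have hd2 : orderOf h ∣ Nat.card H := by
      have := orderOf_dvd_natCard (⟨h, hh⟩ : H)
      rwa [Subgroup.orderOf_mk] at this
    obtain ⟨k, hk⟩ := IsPGroup.iff_card.1 hNp
    have hk0 : k ≠ 0 := by
      intro h0
      rw [h0, pow_zero] at hk
      exact hN1 ((Subgroup.card_eq_one).1 hk)
    have hcop : Nat.Coprime (Nat.card H) (p ^ j) := by
      apply Nat.Coprime.pow_right
      rw [Nat.coprime_comm, hp.coprime_iff_not_dvd]
      intro hdvd
      have h1 : p ∣ Nat.card H + 1 := by
        rw [hcard, hk]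
        exact dvd_pow_self p hk0
      have h2 : p ∣ 1 := (Nat.dvd_add_right hdvd).1 h1
      exact hp.one_lt.ne' (Nat.dvd_one.1 h2)
    have ho : orderOf h = 1 := Nat.eq_one_of_dvd_coprimes hcop hd2 hd1
    have hh1 : h = 1 := orderOf_eq_one_iff.1 ho
    apply hy1
    rw [← hhy', hh1]
    group

end Converse

end Cfsg.Agent.Helper80
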