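import Mathlib
import Cfsg.Agent.Lib.Helper80.Gag39B
import Cfsg.Agent.Lib.Helper67.BaerSuzuki

/-!
# Gagola characters, part 7 (helper80): `N = O_2(G)` forces `b = 1` when `p = 2`
-/

set_option autoImplicit false

namespace Cfsg.Agent.Helper80

open Cfsg

universe u

section TwoCase

variable {G : Type u} [Group G] [Finite G] {N : Subgroup G} [N.Normal] {b : ℕ}

/-- For `p = 2` and `N = O_2(G)` the solutions of `u² = 1` are exactly the elements of `N`. -/
theorem GagData.sq_eq_one_iff (D : GagData N 2 b) (hcore : N = Cfsg.pCore 2 G) (u : G) :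
    u * u = 1 ↔ u ∈ N := by
  constructor
  · intro hu2
    by_contra huN
    apply huN
    apply D.mem_of_centralizes hcore
    intro n hn
    obtain ⟨c, hc⟩ := isConj_iff.1 (D.cc u huN n hn)
    have h1 : (u * n) * (u * n) = 1 := by
      rw [← hc]
      calc c * u * c⁻¹ * (c * u * c⁻¹) = c * (u * u) * c⁻¹ := by group
        _ = 1 := by rw [hu2]; group
    have hn2 : n * n = 1 := by
      have := D.exp n hn
      rwa [pow_two] at this
    have hu_inv : u⁻¹ = u := inv_eq_of_mul_eq_one_left hu2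
    have hn_inv : n⁻¹ = n := inv_eq_of_mul_eq_one_left hn2
    have h2 : u * n = (u * n)⁻¹ := (inv_eq_of_mul_eq_one_left h1).symm
    rw [mul_inv_rev, hu_inv, hn_inv] at h2
    exact h2
  · intro hu
    have := D.exp u hu
    rwa [pow_two] at this

/-- Baer–Suzuki: for `g ∉ N = O_2(G)`, `|C_N(g)|² ≤ |N|`. -/
theorem GagData.card_cent_sq_le (D : GagData N 2 b) (hcore : N = Cfsg.pCore 2 G) (h : G)
    (hh : h ∉ N) :
    Nat.card ↥(N ⊓ Subgroup.centralizer ({h} : Set G)) ^ 2 ≤ Nat.card N := by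
  by_contra hlt
  push Not at hlt
  set A := N ⊓ Subgroup.centralizer ({h} : Set G) with hA
  apply hh
  have hkey : ∀ g : G, IsPGroup 2
      ↥(Subgroup.zpowers h ⊔ (Subgroup.zpowers h).map (MulAut.conj g).toMonoidHom) := by
    intro g
    set B := A.map (MulAut.conj g).toMonoidHom with hB
    have hBcard : Nat.card B = Nat.card A :=
      Subgroup.card_map_of_injective (MulAut.conj g).injective
    have hBN : ∀ y ∈ B, y ∈ N ∧ y * (g * h * g⁻¹) = (g * h * g⁻¹) * y := by
      rintro y ⟨a, ha, rfl⟩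
      have haN : a ∈ N := (Subgroup.mem_inf.1 ha).1
      have hac : a * h = h * a := Subgroup.mem_centralizer_singleton_iff.1 (Subgroup.mem_inf.1 ha).2
      refine ⟨(inferInstance : N.Normal).conj_mem a haN g, ?_⟩
      show g * a * g⁻¹ * (g * h * g⁻¹) = g * h * g⁻¹ * (g * a * g⁻¹)
      calc g * a * g⁻¹ * (g * h * g⁻¹) = g * (a * h) * g⁻¹ := by group
        _ = g * (h * a) * g⁻¹ := by rw [hac]
        _ = g * h * g⁻¹ * (g * a * g⁻¹) := by group
    -- `A ⊓ B ≠ ⊥`
    have hne : A ⊓ B ≠ ⊥ := by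
      intro hbot
      have hinj : Function.Injective (fun x : A × B =>
          (⟨(x.1 : G) * (x.2 : G), N.mul_mem (Subgroup.mem_inf.1 x.1.2).1 (hBN _ x.2.2).1⟩ : N)) := by
        rintro ⟨a, c⟩ ⟨a', c'⟩ hxy
        have e : (a : G) * (c : G) = (a' : G) * (c' : G) := congrArg Subtype.val hxy
        have e2 : (a' : G)⁻¹ * (a : G) = (c' : G) * (c : G)⁻¹ := by
          calc (a' : G)⁻¹ * (a : G) = (a' : G)⁻¹ * ((a : G) * (c : G)) * (c : G)⁻¹ := by group
            _ = (a' : G)⁻¹ * ((a' : G) * (c' : G)) * (c : G)⁻¹ := by rw [e]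
            _ = (c' : G) * (c : G)⁻¹ := by group
        have hm : (a' : G)⁻¹ * (a : G) ∈ A ⊓ B := by
          rw [Subgroup.mem_inf]
          refine ⟨A.mul_mem (A.inv_mem a'.2) a.2, ?_⟩
          rw [e2]
          exact B.mul_mem c'.2 (B.inv_mem c.2)
        rw [hbot, Subgroup.mem_bot] at hm
        have haa : (a : G) = (a' : G) := by
          calc (a : G) = (a' : G) * ((a' : G)⁻¹ * (a : G)) := by group
            _ = (a' : G) := by rw [hm, mul_one]
        have hcc : (c : G) = (c' : G) := by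
          rw [haa] at e
          exact mul_left_cancel e
        exact Prod.ext (Subtype.ext haa) (Subtype.ext hcc)
      have hle := Nat.card_le_card_of_injective _ hinj
      rw [Nat.card_prod, hBcard] at hle
      nlinarith
    obtain ⟨⟨y, hy⟩, hy1⟩ := (Subgroup.ne_bot_iff_exists_ne_one).1 hne
    have hy1' : y ≠ 1 := fun e => hy1 (Subtype.ext e)
    rw [Subgroup.mem_inf] at hy
    have hyN : y ∈ N := (Subgroup.mem_inf.1 hy.1).1
    have hyh : y * h = h * y := Subgroup.mem_centralizer_singleton_iff.1 (Subgroup.mem_inf.1 hy.1).2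
    have hyg : y * (g * h * g⁻¹) = (g * h * g⁻¹) * y := (hBN y hy.2).2
    have hCp := D.isPGroup_centralizer y hyN hy1'
    apply hCp.to_le
    rw [sup_le_iff]
    constructor
    · rw [Subgroup.zpowers_le, Subgroup.mem_centralizer_singleton_iff]
      exact hyh.symm
    · rw [Subgroup.map_le_iff_le_comap, Subgroup.zpowers_le, Subgroup.mem_comap,
        Subgroup.mem_centralizer_singleton_iff]
      exact hyg.symm
  have : Fact (Nat.Prime 2) := ⟨Nat.prime_two⟩
  obtain ⟨M, hMn, hMp, hXM⟩ := Helper67.baer_suzuki (p := 2) (Subgroup.zpowers h) hkey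
  have hle : M ≤ Cfsg.pCore 2 G := le_sSup ⟨hMn, hMp⟩
  rw [hcore]
  exact hle (hXM (Subgroup.mem_zpowers h))

end TwoCase

end Cfsg.Agent.Helper80
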