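import Mathlib
import Cfsg.Agent.Lib.Helper80.Gag39C

/-!
# Gagola characters, part 8 (helper80): the two counting inequalities for `p = 2`
-/

set_option autoImplicit false

namespace Cfsg.Agent.Helper80

open Cfsg

universe u

section TwoCount

variable {G : Type u} [Group G] [Finite G] {N : Subgroup G} [N.Normal] {b : ℕ}

/-- If `1 < b` there is `g ∉ N` with `b ≤ |C_N(g)|`. -/
theorem GagData.exists_b_le (D : GagData N 2 b) (hcore : N = Cfsg.pCore 2 G) (hb : 1 < b) :
    ∃ g : G, g ∉ N ∧ b ≤ Nat.card ↥(N ⊓ Subgroup.centralizer ({g} : Set G)) := by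
  classical
  have : Fact (Nat.Prime 2) := ⟨Nat.prime_two⟩
  obtain ⟨x, hxN, hx1⟩ := D.exists_ne
  set P := Subgroup.centralizer ({x} : Set G) with hP
  have hPcard : Nat.card P = b ^ 2 * Nat.card N := D.cent x hxN hx1
  have hPp : IsPGroup 2 P := D.isPGroup_centralizer x hxN hx1
  have hNP : N ≤ P := by
    intro n hn
    rw [hP, Subgroup.mem_centralizer_singleton_iff]
    exact D.comm n hn x hxN
  set N' := N.subgroupOf P with hN'
  have hN'card : Nat.card N' = Nat.card N :=
    Nat.card_congr (Subgroup.subgroupOfEquivOfLe hNP).toEquiv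
  have hqpos : 0 < Nat.card N := Nat.card_pos
  have hQcard : Nat.card (↥P ⧸ N') = b ^ 2 := by
    have h1 := Subgroup.card_eq_card_quotient_mul_card_subgroup N'
    rw [hPcard, hN'card] at h1
    exact (Nat.eq_of_mul_eq_mul_right hqpos h1).symm
  have hQp : IsPGroup 2 (↥P ⧸ N') := hPp.to_quotient N'
  have hQnt : Nontrivial (↥P ⧸ N') := by
    rw [← Finite.one_lt_card_iff_nontrivial, hQcard]
    nlinarith
  have hcnt : Nontrivial (Subgroup.center (↥P ⧸ N')) := hQp.center_nontrivial
  obtain ⟨⟨z, hz⟩, hz1⟩ := _root_.exists_ne (1 : Subgroup.center (↥P ⧸ N'))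
  obtain ⟨g', rfl⟩ := QuotientGroup.mk_surjective z
  have hg'N : g' ∉ N' := by
    intro h
    apply hz1
    apply Subtype.ext
    exact (QuotientGroup.eq_one_iff g').2 h
  have hgN : (g' : G) ∉ N := fun h => hg'N (Subgroup.mem_subgroupOf.2 h)
  have hcentral : ∀ c : ↥P, c * g' * c⁻¹ * g'⁻¹ ∈ N' := by
    intro c
    rw [← QuotientGroup.eq_one_iff]
    have h1 := Subgroup.mem_center_iff.1 hz (QuotientGroup.mk c)
    simp only [QuotientGroup.mk_mul, QuotientGroup.mk_inv]
    rw [h1]
    group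
  -- class bound
  have hclass : Nat.card {y : ↥P // IsConj g' y} ≤ Nat.card N' := by
    have hmem : ∀ y : {y : ↥P // IsConj g' y}, y.1 * g'⁻¹ ∈ N' := by
      rintro ⟨y, hy⟩
      obtain ⟨c, hc⟩ := isConj_iff.1 hy
      show y * g'⁻¹ ∈ N'
      rw [← hc]
      exact hcentral c
    apply Nat.card_le_card_of_injective (fun y => (⟨y.1 * g'⁻¹, hmem y⟩ : N'))
    intro y y' hyy'
    have := congrArg Subtype.val hyy'
    simp only [mul_left_inj] at this
    exact Subtype.ext this
  have hPeq := card_isConj_mul_card_centralizer g'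
  set C := Subgroup.centralizer ({g'} : Set ↥P) with hC
  set Y := C.map P.subtype with hY
  have hYcard : Nat.card Y = Nat.card C :=
    Subgroup.card_map_of_injective (Subgroup.subtype_injective _)
  have hCpos : 0 < Nat.card C := Nat.card_pos
  have hbC : b ^ 2 ≤ Nat.card C := by
    have h1 : Nat.card ↥P ≤ Nat.card N' * Nat.card C := by
      rw [← hPeq]
      exact Nat.mul_le_mul_right _ hclass
    rw [hPcard, hN'card] at h1
    have h2 : b ^ 2 * Nat.card N ≤ Nat.card C * Nat.card N := by rw [mul_comm (Nat.card C)]; exact h1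
    exact Nat.le_of_mul_le_mul_right h2 hqpos
  have hYP : Y ≤ P := Subgroup.map_subtype_le C
  have hYg : ∀ y ∈ Y, y * (g' : G) = (g' : G) * y := by
    rintro y ⟨y', hy', rfl⟩
    have := Subgroup.mem_centralizer_singleton_iff.1 hy'
    have h2 := congrArg Subtype.val this
    simpa using h2
  -- the multiplicity relation
  obtain ⟨m, hm⟩ := D.mult Y
  set a := Nat.card ↥(N ⊓ Subgroup.centralizer ({(g' : G)} : Set G)) with ha
  set c := Nat.card (N.subgroupOf Y) with hc
  have hca : c ≤ a := by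
    apply Nat.card_le_card_of_injective (fun y : N.subgroupOf Y =>
      (⟨((y : Y) : G), by
        rw [Subgroup.mem_inf, Subgroup.mem_centralizer_singleton_iff]
        exact ⟨Subgroup.mem_subgroupOf.1 y.2, hYg _ (y : Y).2⟩⟩ :
        ↥(N ⊓ Subgroup.centralizer ({(g' : G)} : Set G))))
    intro y y' hyy'
    have := congrArg Subtype.val hyy'
    exact Subtype.ext (Subtype.ext this)
  -- `a < q`
  have haq : a < Nat.card N := by
    by_contra hge
    push Not at hge
    apply hgN
    apply D.mem_of_centralizes hcore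
    intro n hn
    have hle : N ⊓ Subgroup.centralizer ({(g' : G)} : Set G) ≤ N := inf_le_left
    have heq : N ⊓ Subgroup.centralizer ({(g' : G)} : Set G) = N :=
      Subgroup.eq_of_le_of_card_ge hle hge
    have hn' : n ∈ N ⊓ Subgroup.centralizer ({(g' : G)} : Set G) := by rw [heq]; exact hn
    exact (Subgroup.mem_centralizer_singleton_iff.1 (Subgroup.mem_inf.1 hn').2).symm
  -- powers of two
  obtain ⟨k, hkpos, hNk⟩ := D.npow
  obtain ⟨kP, hkP⟩ := D.ppow
  have hYdvd : Nat.card Y ∣ 2 ^ kP := by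
    rw [← hkP, ← hPcard]
    exact Subgroup.card_dvd_of_le hYP
  obtain ⟨j, _, hj⟩ := (Nat.dvd_prime_pow Nat.prime_two).1 hYdvd
  have hcdvd : c ∣ 2 ^ k := by
    rw [← hNk, hc]
    let f : ↥(N.subgroupOf Y) →* ↥N :=
      { toFun := fun y => ⟨((y : Y) : G), Subgroup.mem_subgroupOf.1 y.2⟩
        map_one' := rfl
        map_mul' := fun _ _ => rfl }
    have hf : Function.Injective f := by
      intro y y' hyy'
      have := congrArg Subtype.val hyy'
      exact Subtype.ext (Subtype.ext this)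
    exact Subgroup.card_dvd_of_injective f hf
  obtain ⟨i, hik, hi⟩ := (Nat.dvd_prime_pow Nat.prime_two).1 hcdvd
  have hilt : i < k := by
    by_contra hge
    push Not at hge
    have hik' : i = k := le_antisymm hik hge
    rw [hik'] at hi
    rw [hNk] at haq
    omega
  obtain ⟨d, hd⟩ : ∃ d, k = i + (d + 1) := ⟨k - i - 1, by omega⟩
  have h2d : ∃ e, 2 ^ (d + 1) = e + 1 ∧ Odd e := by
    refine ⟨2 ^ (d + 1) - 1, ?_, ?_⟩
    · have : 0 < 2 ^ (d + 1) := by positivity
      omega
    · have he : Even (2 ^ (d + 1)) := by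
        rw [pow_succ]
        exact even_two.mul_left _
      have h1 : 1 ≤ 2 ^ (d + 1) := Nat.one_le_two_pow
      exact Nat.Even.sub_odd h1 he odd_one
  obtain ⟨e, he1, heodd⟩ := h2d
  rw [hNk, hj, hi, hd, pow_add, he1] at hm
  have hm2 : b * 2 ^ i * e = m * 2 ^ j := by nlinarith
  have hcop : Nat.Coprime (2 ^ j) e := by
    apply Nat.Coprime.pow_left
    rw [Nat.coprime_comm]
    exact heodd.coprime_two_right
  have hdvd : 2 ^ j ∣ b * 2 ^ i := by
    apply hcop.dvd_of_dvd_mul_right
    rw [hm2]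
    exact Dvd.intro_left m rfl
  have hle : 2 ^ j ≤ b * 2 ^ i :=
    Nat.le_of_dvd (Nat.mul_pos D.bpos (by positivity)) hdvd
  refine ⟨(g' : G), hgN, ?_⟩
  have h3 : b ^ 2 ≤ b * c := by
    rw [hi]
    calc b ^ 2 ≤ Nat.card C := hbC
      _ = Nat.card Y := hYcard.symm
      _ = 2 ^ j := hj
      _ ≤ b * 2 ^ i := hle
  have h4 : b ≤ c := by
    rw [pow_two] at h3
    exact Nat.le_of_mul_le_mul_left h3 D.bpos
  exact h4.trans hca

end TwoCount

end Cfsg.Agent.Helper80
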