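import Mathlib
import Cfsg.Agent.Lib.Helper80.Gag39D

/-!
# Gagola characters, part 9 (helper80): the square-root count and `b = 1` for `p = 2`
-/

set_option autoImplicit false

namespace Cfsg.Agent.Helper80

open Cfsg

universe u

section RootCount

variable {G : Type u} [Group G] [Finite G] {N : Subgroup G} [N.Normal] {b : ℕ}

/-- Counting square roots of `x ∈ N#` through the map `(u, n) ↦ u * n`. -/
theorem GagData.root_count_le (D : GagData N 2 b) (hsq : ∀ u : G, u * u = 1 ↔ u ∈ N)
    (x : G) (hxN : x ∈ N) (hx1 : x ≠ 1) (s : ℕ)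
    (hs : ∀ u : G, u ∉ N → Nat.card ↥(N ⊓ Subgroup.centralizer ({u} : Set G)) ≤ s) :
    Nat.card {u : G // u * u = x} * Nat.card N + s * Nat.card N ≤ s * (b ^ 2 * Nat.card N) := by
  classical
  have : Fintype G := Fintype.ofFinite G
  set S : Finset G := Finset.univ.filter (fun u => u * u = x) with hS
  set Nf : Finset G := Finset.univ.filter (fun n => n ∈ N) with hNf
  set T : Finset G := Finset.univ.filter
    (fun v => v ∈ Subgroup.centralizer ({x} : Set G) ∧ v ∉ N) with hT
  set Cf : Finset G := Finset.univ.filter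
    (fun v => v ∈ Subgroup.centralizer ({x} : Set G)) with hCf
  have hScard : Nat.card {u : G // u * u = x} = S.card :=
    Nat.subtype_card S (by intro u; simp [hS])
  have hNcard : Nat.card N = Nf.card :=
    Nat.subtype_card (p := fun g => g ∈ N) Nf (by intro u; simp [hNf])
  have hCcard : Nat.card (Subgroup.centralizer ({x} : Set G)) = Cf.card :=
    Nat.subtype_card (p := fun g => g ∈ Subgroup.centralizer ({x} : Set G)) Cf
      (by intro u; simp [hCf])
  have hNC : ∀ n ∈ N, n ∈ Subgroup.centralizer ({x} : Set G) := by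
    intro n hn
    rw [Subgroup.mem_centralizer_singleton_iff]
    exact D.comm n hn x hxN
  have hTcard : T.card + Nf.card = b ^ 2 * Nat.card N := by
    rw [← D.cent x hxN hx1, hCcard]
    have hdisj : Disjoint T Nf := by
      rw [Finset.disjoint_left]
      intro v hv hv'
      simp only [hT, hNf, Finset.mem_filter, Finset.mem_univ, true_and] at hv hv'
      exact hv.2 hv'
    have hunion : T ∪ Nf = Cf := by
      ext v
      simp only [hT, hNf, hCf, Finset.mem_union, Finset.mem_filter, Finset.mem_univ, true_and]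
      constructor
      · rintro (h | h)
        · exact h.1
        · exact hNC v h
      · intro h
        by_cases hv : v ∈ N
        · exact Or.inr hv
        · exact Or.inl ⟨h, hv⟩
    rw [← hunion, Finset.card_union_of_disjoint hdisj]
  have hmain : (S ×ˢ Nf).card ≤ s * T.card := by
    apply Finset.card_le_mul_card_image_of_maps_to (f := fun a : G × G => a.1 * a.2)
    · rintro ⟨u, n⟩ ha
      rw [Finset.mem_product] at ha
      obtain ⟨hu, hn⟩ := ha
      simp only [hS, hNf, Finset.mem_filter, Finset.mem_univ, true_and] at hu hn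
      simp only [hT, Finset.mem_filter, Finset.mem_univ, true_and]
      refine ⟨?_, ?_⟩
      · rw [Subgroup.mem_centralizer_singleton_iff]
        have h1 : u * x = x * u := by rw [← hu]; group
        have h2 : n * x = x * n := D.comm n hn x hxN
        calc u * n * x = u * (n * x) := by group
          _ = u * (x * n) := by rw [h2]
          _ = (u * x) * n := by group
          _ = x * u * n := by rw [h1]
          _ = x * (u * n) := by group
      · intro hun
        have huN : u ∈ N := by
          have := N.mul_mem hun (N.inv_mem hn)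
          simpa using this
        have := (hsq u).2 huN
        rw [hu] at this
        exact hx1 this
    · intro v hv
      rcases Finset.eq_empty_or_nonempty
        ((S ×ˢ Nf).filter (fun a : G × G => a.1 * a.2 = v)) with he | ⟨⟨u₀, n₀⟩, h0⟩
      · rw [he]; simp
      · rw [Finset.mem_filter, Finset.mem_product] at h0
        obtain ⟨⟨hu0, hn0⟩, hv0⟩ := h0
        simp only [hS, hNf, Finset.mem_filter, Finset.mem_univ, true_and] at hu0 hn0
        have hu0N : u₀ ∉ N := by
          intro h
          have := (hsq u₀).2 h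
          rw [hu0] at this
          exact hx1 this
        refine le_trans ?_ (hs u₀ hu0N)
        set Mf : Finset G := Finset.univ.filter
          (fun g => g ∈ N ⊓ Subgroup.centralizer ({u₀} : Set G)) with hMf
        have hMcard : Nat.card ↥(N ⊓ Subgroup.centralizer ({u₀} : Set G)) = Mf.card :=
          Nat.subtype_card (p := fun g => g ∈ N ⊓ Subgroup.centralizer ({u₀} : Set G)) Mf
            (by intro u; simp [hMf])
        rw [hMcard]
        apply Finset.card_le_card_of_injOn (fun a : G × G => u₀⁻¹ * a.1)
        · rintro ⟨u, n⟩ ha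
          have ha' := Finset.mem_coe.1 ha
          rw [Finset.mem_filter, Finset.mem_product] at ha'
          obtain ⟨⟨hu, hn⟩, hv1⟩ := ha'
          simp only [hS, hNf, Finset.mem_filter, Finset.mem_univ, true_and] at hu hn
          simp only at hv1 hv0
          have hm : u₀⁻¹ * u = n₀ * n⁻¹ := by
            have e : u₀ * n₀ = u * n := by rw [hv0, hv1]
            have e2 : u = u₀ * n₀ * n⁻¹ := by rw [e]; group
            rw [e2]; group
          have hmN : u₀⁻¹ * u ∈ N := by
            rw [hm]; exact N.mul_mem hn0 (N.inv_mem hn)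
          have hmm : (u₀⁻¹ * u) * (u₀⁻¹ * u) = 1 := (hsq _).2 hmN
          have hcomm : (u₀⁻¹ * u) * u₀ = u₀ * (u₀⁻¹ * u) := by
            -- with m = u₀⁻¹ u: u = u₀ m, u u = u₀ u₀ gives m u₀ m = u₀
            have e3 : u₀ * (u₀⁻¹ * u) * (u₀ * (u₀⁻¹ * u)) = u₀ * u₀ := by
              rw [hu0]
              have : u₀ * (u₀⁻¹ * u) = u := by group
              rw [this, hu]
            have e4 : (u₀⁻¹ * u) * u₀ * (u₀⁻¹ * u) = u₀ := by
              have e5 : u₀ * ((u₀⁻¹ * u) * u₀ * (u₀⁻¹ * u)) = u₀ * u₀ := by
                rw [← e3]; group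
              exact mul_left_cancel e5
            calc (u₀⁻¹ * u) * u₀ = (u₀⁻¹ * u) * u₀ * ((u₀⁻¹ * u) * (u₀⁻¹ * u)) := by
                  rw [hmm, mul_one]
              _ = ((u₀⁻¹ * u) * u₀ * (u₀⁻¹ * u)) * (u₀⁻¹ * u) := by group
              _ = u₀ * (u₀⁻¹ * u) := by rw [e4]
          show u₀⁻¹ * u ∈ (Mf : Set G)
          rw [Finset.mem_coe, hMf, Finset.mem_filter]
          refine ⟨Finset.mem_univ _, ?_⟩
          rw [Subgroup.mem_inf, Subgroup.mem_centralizer_singleton_iff]
          exact ⟨hmN, hcomm⟩
        · rintro ⟨u, n⟩ ha ⟨u', n'⟩ ha' hEq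
          have ha1 := Finset.mem_coe.1 ha
          have ha2 := Finset.mem_coe.1 ha'
          rw [Finset.mem_filter] at ha1 ha2
          have hv1 := ha1.2
          have hv2 := ha2.2
          simp only at hv1 hv2 hEq
          have huu : u = u' := mul_left_cancel hEq
          have hnn : n = n' := by
            rw [huu, ← hv2] at hv1
            exact mul_left_cancel hv1
          rw [huu, hnn]
  have hprod : (S ×ˢ Nf).card = S.card * Nf.card := Finset.card_product S Nf
  rw [hprod] at hmain
  rw [hScard, hNcard]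
  have h2 : T.card + Nf.card = b ^ 2 * Nf.card := by rw [hTcard, hNcard]
  calc S.card * Nf.card + s * Nf.card ≤ s * T.card + s * Nf.card := Nat.add_le_add_right hmain _
    _ = s * (T.card + Nf.card) := by ring
    _ = s * (b ^ 2 * Nf.card) := by rw [h2]

/-- For `p = 2` and `N = O_2(G)` we get `b = 1`. -/
theorem GagData.b_eq_one_of_two (D : GagData N 2 b) (hcore : N = Cfsg.pCore 2 G) : b = 1 := by
  by_contra hb1
  have hb : 1 < b := by
    have := D.bpos
    omega
  set q := Nat.card N with hq
  set s := Nat.sqrt q with hsdef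
  have hw : ∀ u : G, u ∉ N → Nat.card ↥(N ⊓ Subgroup.centralizer ({u} : Set G)) ≤ s := by
    intro u hu
    have h1 := D.card_cent_sq_le hcore u hu
    rw [hsdef, Nat.le_sqrt']
    exact h1
  obtain ⟨g, hgN, hbg⟩ := D.exists_b_le hcore hb
  have hbs : b ≤ s := hbg.trans (hw g hgN)
  obtain ⟨x, hxN, hx1⟩ := D.exists_ne
  have hsq := D.sq_eq_one_iff hcore
  have hroot := D.root hsq x hxN hx1
  rcases hroot with h | hroot
  · exact hb1 h
  have hcount := D.root_count_le hsq x hxN hx1 s hw
  rw [hroot] at hcount
  have hqpos : 0 < q := Nat.card_pos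
  have hss : s * s ≤ q := Nat.sqrt_le q
  -- q (1+b) q + s q ≤ s b² q  ⇒  q (1 + b) + s ≤ s b²
  have h1 : (q * (1 + b) + s) * q ≤ (s * b ^ 2) * q := by
    calc (q * (1 + b) + s) * q = q * (1 + b) * q + s * q := by ring
      _ ≤ s * (b ^ 2 * q) := hcount
      _ = (s * b ^ 2) * q := by ring
  have h2 : q * (1 + b) + s ≤ s * b ^ 2 := Nat.le_of_mul_le_mul_right h1 hqpos
  have hspos : 0 < s := lt_of_lt_of_le D.bpos hbs
  -- s² (1+b) + s ≤ s b² ⇒ s (1 + b) + 1 ≤ b² ≤ s b
  have h3 : s * (s * (1 + b) + 1) ≤ s * b ^ 2 := by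
    calc s * (s * (1 + b) + 1) = s * s * (1 + b) + s := by ring
      _ ≤ q * (1 + b) + s := by
          apply Nat.add_le_add_right
          exact Nat.mul_le_mul_right _ hss
      _ ≤ s * b ^ 2 := h2
  have h4 : s * (1 + b) + 1 ≤ b ^ 2 := Nat.le_of_mul_le_mul_left h3 hspos
  have h5 : b ^ 2 ≤ s * b := by
    rw [pow_two]
    exact Nat.mul_le_mul_right _ hbs
  nlinarith

end RootCount

end Cfsg.Agent.Helper80
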