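import Mathlib

/-!
# The eigenspace trick for a fixed-point-free `Q₈`-module in characteristic 3 (helper80)

If `α, β` are anticommuting square roots of `-1` on an elementary abelian 3-group `V`, then
`σ = α + β` is an involution whose `+1`-eigenspace `V₊` satisfies `|V| = |V₊|²`.
-/

set_option autoImplicit false

namespace Cfsg.Agent.Helper80.GagSolvB

section additive

variable {V : Type*} [AddCommGroup V] [Finite V]

theorem card_eq_sq_of_anticommuting (h3 : ∀ x : V, 3 • x = 0) (α β : V →+ V)
    (hα : ∀ x, α (α x) = -x) (hβ : ∀ x, β (β x) = -x) (hαβ : ∀ x, α (β x) = -(β (α x))) :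
    Nat.card V = Nat.card {x : V // α x + β x = x} * Nat.card {x : V // α x + β x = x} := by
  classical
  have h3' : ∀ x : V, x + x + x = 0 := by
    intro x
    have := h3 x
    rwa [show (3 : ℕ) • x = x + x + x by rw [succ_nsmul, succ_nsmul, one_nsmul]] at this
  have hβα : ∀ x, β (α x) = -(α (β x)) := fun x => by rw [hαβ, neg_neg]
  set σ : V → V := fun x => α x + β x with hσ
  have hσa : ∀ x, σ x = α x + β x := fun x => rfl
  have hσadd : ∀ x y, σ (x + y) = σ x + σ y := by
    intro x y; simp only [hσa, map_add]; abel
  have hσneg : ∀ x, σ (-x) = -σ x := by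
    intro x; simp only [hσa, map_neg]; abel
  have hσσ : ∀ x, σ (σ x) = x := by
    intro x
    simp only [hσa, map_add, hα, hβ, hβα]
    have := h3' x
    calc -x + α (β x) + (-α (β x) + -x) = x - (x + x + x) := by abel
      _ = x := by rw [this, sub_zero]
  set T : V → V := fun x => α (β x) with hT
  have hTa : ∀ x, T x = α (β x) := fun x => rfl
  have hTT : ∀ x, T (T x) = -x := by
    intro x
    simp only [hTa]
    rw [hβα, map_neg, hα, neg_neg, hβ]
  have hTneg : ∀ x, T (-x) = -T x := by
    intro x; simp only [hTa, map_neg]
  have hTinj : Function.Injective T := by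
    intro x y h
    have := congrArg T h
    rw [hTT, hTT] at this
    exact neg_injective this
  have hσT : ∀ x, σ (T x) = -T (σ x) := by
    intro x
    simp only [hσa, hTa, map_add, hα, hβ, hβα, map_neg, neg_neg]
    abel
  -- the two eigenspaces have the same size
  have hpm : Nat.card {x : V // σ x = x} = Nat.card {x : V // σ x = -x} := by
    apply le_antisymm
    · refine Nat.card_le_card_of_injective
        (fun x : {x : V // σ x = x} => (⟨T x.1, by rw [hσT, x.2]⟩ : {x : V // σ x = -x})) ?_
      intro x y h
      exact Subtype.ext (hTinj (congrArg Subtype.val h))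
    · refine Nat.card_le_card_of_injective
        (fun x : {x : V // σ x = -x} => (⟨T x.1, by rw [hσT, x.2, hTneg, neg_neg]⟩ :
          {x : V // σ x = x})) ?_
      intro x y h
      exact Subtype.ext (hTinj (congrArg Subtype.val h))
  -- the homomorphism `1 + σ`
  let f : V →+ V := AddMonoidHom.id V + (α + β)
  have hf : ∀ x, f x = x + σ x := fun x => rfl
  have hcard : Nat.card V = Nat.card f.range * Nat.card f.ker := by
    rw [AddSubgroup.card_eq_card_quotient_mul_card_addSubgroup f.ker,
      Nat.card_congr (QuotientAddGroup.quotientKerEquivRange f).toEquiv]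
  have hker : Nat.card f.ker = Nat.card {x : V // σ x = -x} := by
    apply Nat.card_congr
    refine Equiv.subtypeEquivRight (fun x => ?_)
    rw [AddMonoidHom.mem_ker, hf]
    constructor
    · intro h; exact (neg_eq_of_add_eq_zero_right h).symm
    · intro h; rw [h, add_neg_cancel]
  have hrange : Nat.card f.range = Nat.card {x : V // σ x = x} := by
    apply Nat.card_congr
    refine Equiv.subtypeEquivRight (fun x => ?_)
    rw [AddMonoidHom.mem_range]
    constructor
    · rintro ⟨y, rfl⟩
      rw [hf, hσadd, hσσ, add_comm]
    · intro h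
      refine ⟨-x, ?_⟩
      rw [hf, hσneg, h]
      have := h3' x
      calc -x + -x = x - (x + x + x) := by abel
        _ = x := by rw [this, sub_zero]
  rw [hcard, hker, hrange, ← hpm]

end additive

section mul

variable {V : Type*} [Group V] [Finite V]

/-- the `+1`-eigenspace of `x ↦ A x * B x` -/
def plusPart (hcomm : ∀ x y : V, x * y = y * x) (A B : V →* V) : Subgroup V where
  carrier := {x | A x * B x = x}
  mul_mem' := by
    intro x y hx hy
    have hx' : A x * B x = x := hx
    have hy' : A y * B y = y := hy
    change A (x * y) * B (x * y) = x * y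
    rw [map_mul, map_mul]
    calc A x * A y * (B x * B y) = A x * (A y * B x) * B y := by simp only [mul_assoc]
      _ = A x * (B x * A y) * B y := by rw [hcomm (A y) (B x)]
      _ = (A x * B x) * (A y * B y) := by simp only [mul_assoc]
      _ = x * y := by rw [hx', hy']
  one_mem' := by
    change A 1 * B 1 = 1
    rw [map_one, map_one, one_mul]
  inv_mem' := by
    intro x hx
    have hx' : A x * B x = x := hx
    change A x⁻¹ * B x⁻¹ = x⁻¹
    rw [map_inv, map_inv, hcomm, ← mul_inv_rev, hx']

theorem mem_plusPart (hcomm : ∀ x y : V, x * y = y * x) (A B : V →* V) (x : V) :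
    x ∈ plusPart hcomm A B ↔ A x * B x = x := Iff.rfl

theorem card_eq_sq_mul (hcomm : ∀ x y : V, x * y = y * x) (h3 : ∀ x : V, x ^ 3 = 1)
    (A B : V →* V) (hA : ∀ x, A (A x) = x⁻¹) (hB : ∀ x, B (B x) = x⁻¹)
    (hAB : ∀ x, A (B x) = (B (A x))⁻¹) :
    Nat.card V = Nat.card (plusPart hcomm A B) * Nat.card (plusPart hcomm A B) := by
  let _inst : CommGroup V := { (inferInstance : Group V) with mul_comm := hcomm }
  have h := card_eq_sq_of_anticommuting (V := Additive V) (fun x => h3 x)
    (MonoidHom.toAdditive A) (MonoidHom.toAdditive B) hA hB hAB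
  exact h

end mul

end Cfsg.Agent.Helper80.GagSolvB
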