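import Mathlib
import Cfsg.Prelude.Def_Solvable
import Cfsg.Agent.Lib.Helper80.GagSolvA
import Cfsg.Agent.Lib.Helper80.GagSolvB
import Cfsg.Agent.Lib.Helper71.FrobConj
import Cfsg.Agent.S0016
import Cfsg.Agent.Lib.Helper53.OddAut

/-!
# Solvable groups acting with `p`-group point stabilizers (helper80), part C: local lemmas
-/

set_option autoImplicit false

namespace Cfsg.Agent.Helper80.GagSolvC

open Cfsg

/-! ### number theory -/

theorem pow_three_mod_eight (m : ℕ) : 3 ^ m % 8 = 1 ∨ 3 ^ m % 8 = 3 := by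
  induction m with
  | zero => left; rfl
  | succ n ih =>
    rcases ih with h | h
    · right; rw [pow_succ, Nat.mul_mod, h]
    · left; rw [pow_succ, Nat.mul_mod, h]

theorem eq_one_of_three_pow_add_one (m j : ℕ) (h : 3 ^ m + 1 = 2 ^ j) (hm : m ≠ 0) : m = 1 := by
  have h8 := pow_three_mod_eight m
  rcases Nat.lt_or_ge j 3 with hj | hj
  · interval_cases j
    · have : 0 < 3 ^ m := by positivity
      omega
    · have h1 : 3 ^ m = 3 ^ 0 := by omega
      exact absurd (Nat.pow_right_injective (by norm_num : 2 ≤ 3) h1) hm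
    · have h1 : 3 ^ m = 3 ^ 1 := by omega
      exact Nat.pow_right_injective (by norm_num : 2 ≤ 3) h1
  · exfalso
    obtain ⟨i, rfl⟩ := Nat.exists_eq_add_of_le hj
    have : 2 ^ (3 + i) % 8 = 0 := by
      rw [pow_add]; norm_num
    omega

/-! ### quaternion group of order 8 -/

open QuaternionGroup in
theorem q8_sq_eq_one : ∀ x : QuaternionGroup 2, x * x = 1 → x = 1 ∨ x = a 2 := by decide

open QuaternionGroup in
theorem q8_rel : (a 1 : QuaternionGroup 2) * a 1 = a 2 ∧ (xa 0 : QuaternionGroup 2) * xa 0 = a 2 ∧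
    (a 2 : QuaternionGroup 2) * a 2 = 1 ∧ (a 2 : QuaternionGroup 2) ≠ 1 ∧
    (a 1 : QuaternionGroup 2) * xa 0 = a 2 * (xa 0 * a 1) ∧ (a 1 : QuaternionGroup 2) ≠ 1 := by
  decide

theorem mulAut_comm_of_cyclic {R : Type*} [Group R] [IsCyclic R] (σ τ : MulAut R) :
    σ * τ = τ * σ := by
  ext r
  obtain ⟨m, hm⟩ := MonoidHom.map_cyclic (σ : R →* R)
  obtain ⟨n, hn⟩ := MonoidHom.map_cyclic (τ : R →* R)
  have h1 : ∀ g, σ g = g ^ m := hm
  have h2 : ∀ g, τ g = g ^ n := hn
  simp only [MulAut.mul_apply]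
  rw [h1, h2, h2, h1, ← zpow_mul, ← zpow_mul, mul_comm]

section grp

variable {Γ : Type*} [Group Γ]

/-- the commutator subgroup centralizes every cyclic normal subgroup -/
theorem commutator_centralizes_cyclic (S : Subgroup Γ) [S.Normal] (hc : IsCyclic S) (g : Γ)
    (hg : g ∈ commutator Γ) : ∀ s ∈ S, g * s * g⁻¹ = s := by
  have hker : commutator Γ ≤ (MulAut.conjNormal (H := S)).ker := by
    rw [commutator_def, Subgroup.commutator_le]
    intro g₁ _ g₂ _
    rw [MonoidHom.mem_ker, map_commutatorElement, commutatorElement_def,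
      mulAut_comm_of_cyclic (MulAut.conjNormal g₁) (MulAut.conjNormal g₂)]
    group
  have h1 : MulAut.conjNormal (H := S) g = 1 := MonoidHom.mem_ker.1 (hker hg)
  intro s hs
  have h2 := congrArg (fun σ : MulAut S => ((σ ⟨s, hs⟩ : S) : Γ)) h1
  simpa [MulAut.conjNormal_apply] using h2

variable [Finite Γ]

/-- an `r`-element (`r ∉ {2, 3}`) normalizing a quaternion group of order 8 centralizes it -/
theorem q8_centralized (S : Subgroup Γ) [S.Normal] (e : S ≃* QuaternionGroup 2) (r : ℕ)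
    [hr : Fact r.Prime] (hr2 : r ≠ 2) (hr3 : r ≠ 3) (g : Γ) (k : ℕ) (hg : g ^ (r ^ k) = 1) :
    ∀ s ∈ S, g * s * g⁻¹ = s := by
  classical
  have hcardS : Nat.card S = 8 := by
    rw [Nat.card_congr e.toEquiv, Nat.card_eq_fintype_card, QuaternionGroup.card]
  set C : Subgroup Γ := S ⊓ Subgroup.centralizer ({g} : Set Γ) with hC
  have hmod := GagSolvA.card_modEq_card_inf_centralizer S g r k hg
  rw [hcardS] at hmod
  have hdvd : Nat.card C ∣ 8 := hcardS ▸ Subgroup.card_dvd_of_le (inf_le_left : C ≤ S)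
  -- the involution is fixed
  set z : S := e.symm (QuaternionGroup.a 2) with hz
  have hz1 : z ≠ 1 := by
    intro h
    have := congrArg e h
    rw [hz, MulEquiv.apply_symm_apply, map_one] at this
    exact q8_rel.2.2.2.1 this
  have hzz : z * z = 1 := by
    apply e.injective
    rw [map_mul, hz, MulEquiv.apply_symm_apply, map_one]
    exact q8_rel.2.2.1
  have huniq : ∀ s : S, s * s = 1 → s = 1 ∨ s = z := by
    intro s hs
    have h1 : e s * e s = 1 := by rw [← map_mul, hs, map_one]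
    rcases q8_sq_eq_one (e s) h1 with h | h
    · left; exact e.injective (by rw [h, map_one])
    · right; rw [hz, ← h, MulEquiv.symm_apply_apply]
  have hzC : (z : Γ) ∈ C := by
    refine Subgroup.mem_inf.2 ⟨z.2, ?_⟩
    rw [Subgroup.mem_centralizer_singleton_iff]
    set z' : S := ⟨g * z * g⁻¹, Subgroup.Normal.conj_mem inferInstance _ z.2 g⟩ with hz'
    have h1 : z' * z' = 1 := by
      apply Subtype.ext
      have hzz' : (z : Γ) * z = 1 := congrArg Subtype.val hzz
      change g * z * g⁻¹ * (g * z * g⁻¹) = 1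
      calc g * z * g⁻¹ * (g * z * g⁻¹) = g * ((z : Γ) * z) * g⁻¹ := by group
        _ = 1 := by rw [hzz']; group
    rcases huniq z' h1 with h | h
    · exfalso
      have h2 : g * (z : Γ) * g⁻¹ = 1 := congrArg Subtype.val h
      apply hz1
      apply Subtype.ext
      have : (z : Γ) = g⁻¹ * (g * (z : Γ) * g⁻¹) * g := by group
      rw [this, h2]; simp
    · have h2 : g * (z : Γ) * g⁻¹ = z := congrArg Subtype.val h
      calc (z : Γ) * g = (g * (z : Γ) * g⁻¹) * g := by rw [h2]
        _ = g * z := by group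
  have h2C : 2 ≤ Nat.card C := by
    have : Nontrivial C :=
      ⟨⟨⟨(z : Γ), hzC⟩, 1, fun h => hz1 (Subtype.ext (congrArg (fun c : C => (c : Γ)) h))⟩⟩
    exact Finite.one_lt_card
  have hC8 : Nat.card C = 8 := by
    obtain ⟨j, hj3, hj⟩ := (Nat.dvd_prime_pow Nat.prime_two).1 (show Nat.card C ∣ 2 ^ 3 from hdvd)
    rw [hj] at hmod h2C
    interval_cases j
    · omega
    · exfalso
      have h6 : r ∣ 8 - 2 ^ 1 := (Nat.modEq_iff_dvd' (by norm_num)).1 hmod.symm
      have h6' : r ∣ 2 * 3 := h6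
      rcases (Nat.Prime.dvd_mul hr.out).1 h6' with h | h
      · exact hr2 ((Nat.prime_dvd_prime_iff_eq hr.out Nat.prime_two).1 h)
      · exact hr3 ((Nat.prime_dvd_prime_iff_eq hr.out Nat.prime_three).1 h)
    · exfalso
      have h4 : r ∣ 8 - 2 ^ 2 := (Nat.modEq_iff_dvd' (by norm_num)).1 hmod.symm
      have h4' : r ∣ 2 * 2 := h4
      rcases (Nat.Prime.dvd_mul hr.out).1 h4' with h | h
      · exact hr2 ((Nat.prime_dvd_prime_iff_eq hr.out Nat.prime_two).1 h)
      · exact hr2 ((Nat.prime_dvd_prime_iff_eq hr.out Nat.prime_two).1 h)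
    · rw [hj]; norm_num
  have hCS : C = S := by
    apply Subgroup.eq_of_le_of_card_ge inf_le_left
    rw [hC8, hcardS]
  intro s hs
  have : s ∈ C := hCS ▸ hs
  have hcomm := Subgroup.mem_centralizer_singleton_iff.1 (Subgroup.mem_inf.1 this).2
  calc g * s * g⁻¹ = (s * g) * g⁻¹ := by rw [hcomm]
    _ = s := by group

end grp

end Cfsg.Agent.Helper80.GagSolvC
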