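import Mathlib
import Cfsg.Prelude.Def_Solvable
import Cfsg.Agent.Lib.Helper80.GagSolvC
import Cfsg.Agent.Lib.Helper22.Fitting
import Cfsg.Agent.Lib.Helper94.Solvable

/-!
# Solvable groups acting with `p`-group point stabilizers (helper80), part D

`Γ` finite solvable with `O_p(Γ) = 1`, acting on an elementary abelian `p`-group `V` such that
point stabilizers of nonidentity elements are `p`-groups and `|Γ|_{p'} = |V| - 1`.
Then `Γ'` is a `p'`-group.
-/

set_option autoImplicit false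

namespace Cfsg.Agent.Helper80.GagSolvD

open Cfsg

variable {Γ : Type*} [Group Γ] [Finite Γ] {V : Type*} [Group V] [Finite V]

/-- the hypotheses -/
structure Hyp (p : ℕ) (φ : Γ →* MulAut V) : Prop where
  comm : ∀ x y : V, x * y = y * x
  exp : ∀ x : V, x ^ p = 1
  stab : ∀ γ : Γ, ∀ x : V, x ≠ 1 → φ γ x = x → ∃ k : ℕ, γ ^ (p ^ k) = 1
  card : ∃ a : ℕ, Nat.card Γ = p ^ a * (Nat.card V - 1)
  core : pCore p Γ = ⊥

variable {p : ℕ} [hp : Fact p.Prime] {φ : Γ →* MulAut V}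

theorem pCore_normal' (q : ℕ) : (pCore q Γ).Normal :=
  Subgroup.sSup_normal _ (fun _ h => h.1)

theorem Hyp.fpf (h : Hyp p φ) (γ : Γ) (hγ : γ ≠ 1) (hcop : (orderOf γ).Coprime p) (x : V)
    (hx : φ γ x = x) : x = 1 := by
  by_contra hx1
  obtain ⟨k, hk⟩ := h.stab γ x hx1 hx
  have h1 : orderOf γ ∣ p ^ k := orderOf_dvd_of_pow_eq_one hk
  have h2 : (orderOf γ).Coprime (p ^ k) := hcop.pow_right k
  exact hγ (orderOf_eq_one_iff.1 (Nat.Coprime.eq_one_of_dvd h2 h1))

theorem Hyp.card_V (h : Hyp p φ) : ∃ n, Nat.card V = p ^ n := by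
  have : IsPGroup p V := fun x => ⟨1, by rw [pow_one]; exact h.exp x⟩
  exact IsPGroup.iff_card.1 this

theorem Hyp.cyclic_or_quat (h : Hyp p φ) [Nontrivial V] (q : ℕ) [hq : Fact q.Prime] (hqp : q ≠ p)
    (S : Subgroup Γ) (hS : IsPGroup q S) :
    IsCyclic S ∨ (q = 2 ∧ ∃ n : ℕ, Nonempty (S ≃* QuaternionGroup (2 ^ n))) := by
  obtain ⟨n, hn⟩ := h.card_V
  have hcop : (Nat.card V).Coprime q := by
    rw [hn]
    exact Nat.Coprime.pow_left n ((Nat.coprime_primes hp.out hq.out).2 (Ne.symm hqp))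
  refine Cfsg.Agent.S0016.result q hS (fun A B hA hB => ?_)
  refine Cfsg.Agent.Helper71.unique_subgroup_order_p_of_fpf q hS hcop (φ.comp S.subtype) ?_
    A B hA hB
  intro g hg x hx
  obtain ⟨j, hj⟩ := (IsPGroup.iff_orderOf.1 hS) g
  have hgΓ : (g : Γ) ≠ 1 := fun h1 => hg (Subtype.ext h1)
  have hord : orderOf (g : Γ) = q ^ j := by rw [Subgroup.orderOf_coe, hj]
  refine h.fpf (g : Γ) hgΓ ?_ x hx
  rw [hord]
  exact Nat.Coprime.pow_left j ((Nat.coprime_primes hq.out hp.out).2 hqp)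

theorem Hyp.pCore_le_centralizer (h : Hyp p φ) [Nontrivial V] (q : ℕ) [hq : Fact q.Prime]
    (hqp : q ≠ p)
    (hbad : ¬ (p = 3 ∧ q = 2 ∧ Nonempty (pCore q Γ ≃* QuaternionGroup 2)))
    (g : Γ) (hgc : g ∈ commutator Γ) (k : ℕ) (hgk : g ^ (p ^ k) = 1) :
    pCore q Γ ≤ Subgroup.centralizer ({g} : Set Γ) := by
  haveI : (pCore q Γ).Normal := pCore_normal' q
  have hS : IsPGroup q (pCore q Γ) := Cfsg.Agent.Helper22.isPGroup_pCore q
  suffices hmain : ∀ s ∈ pCore q Γ, g * s * g⁻¹ = s by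
    intro s hs
    rw [Subgroup.mem_centralizer_singleton_iff]
    have := hmain s hs
    calc s * g = (g * s * g⁻¹) * g := by rw [this]
      _ = g * s := by group
  rcases h.cyclic_or_quat q hqp (pCore q Γ) hS with hc | ⟨hq2, n, ⟨e⟩⟩
  · exact GagSolvC.commutator_centralizes_cyclic _ hc g hgc
  · subst hq2
    have hp2 : p ≠ 2 := Ne.symm hqp
    have hodd : Odd (orderOf g) := by
      obtain ⟨j, -, hj⟩ := (Nat.dvd_prime_pow hp.out).1 (orderOf_dvd_of_pow_eq_one hgk)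
      rw [hj]
      exact (hp.out.odd_of_ne_two hp2).pow
    rcases n with _ | _ | n
    · haveI := QuaternionGroup.quaternionGroup_one_isCyclic
      have e' : pCore 2 Γ ≃* QuaternionGroup 1 := e
      have hc : IsCyclic (pCore 2 Γ) := isCyclic_of_surjective e'.symm e'.symm.surjective
      exact GagSolvC.commutator_centralizes_cyclic _ hc g hgc
    · have e' : pCore 2 Γ ≃* QuaternionGroup 2 := e
      by_cases hp3 : p = 3
      · exact absurd ⟨hp3, rfl, ⟨e'⟩⟩ hbad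
      · exact GagSolvC.q8_centralized _ e' p hp2 hp3 g k hgk
    · have hnorm : g ∈ Subgroup.normalizer ((pCore 2 Γ : Subgroup Γ) : Set Γ) := by
        rw [Subgroup.normalizer_eq_top]; exact Subgroup.mem_top g
      exact Cfsg.Agent.Helper53.conj_eq_of_isPGroup_mulAut _ g hnorm hodd
        (Cfsg.Agent.Helper53.isPGroup_mulAut_of_quaternion (n + 1 + 1) (by omega) e)

theorem Hyp.good (h : Hyp p φ) [Nontrivial V] [Group.IsSolvable Γ]
    (hbad : ¬ (p = 3 ∧ Nonempty (pCore 2 Γ ≃* QuaternionGroup 2))) :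
    ¬ p ∣ Nat.card (commutator Γ) := by
  intro hdiv
  obtain ⟨g, hg⟩ := exists_prime_orderOf_dvd_card' p hdiv
  have hgΓ : orderOf (g : Γ) = p := by rw [Subgroup.orderOf_coe, hg]
  have hgk : (g : Γ) ^ (p ^ 1) = 1 := by rw [pow_one, ← hgΓ, pow_orderOf_eq_one]
  have hF : fittingSubgroup Γ ≤ Subgroup.centralizer ({(g : Γ)} : Set Γ) := by
    rw [Cfsg.Agent.Helper22.fittingSubgroup_eq_iSup_pCore]
    refine iSup_le ?_
    rintro ⟨q, hq⟩
    haveI := Fact.mk hq
    by_cases hqp : q = p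
    · change pCore q Γ ≤ _
      rw [hqp, h.core]; exact bot_le
    · refine h.pCore_le_centralizer q hqp ?_ g g.2 1 hgk
      rintro ⟨hp3, hq2, hne⟩
      subst hq2
      exact hbad ⟨hp3, hne⟩
  have hgF : (g : Γ) ∈ Subgroup.centralizer (fittingSubgroup Γ : Set Γ) := by
    rw [Subgroup.mem_centralizer_iff]
    intro y hy
    have := hF hy
    rw [Subgroup.mem_centralizer_singleton_iff] at this
    exact this
  have hgF' := Cfsg.Agent.Helper94.centralizer_fitting_le hgF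
  have h1 := Cfsg.Agent.Helper22.fittingSubgroup_le_pCore_sup_pPrimeCore p hgF'
  rw [h.core, bot_sup_eq] at h1
  have h2 : orderOf (g : Γ) ∣ Nat.card (pPrimeCore p Γ) := by
    have := orderOf_dvd_natCard (⟨(g : Γ), h1⟩ : pPrimeCore p Γ)
    rwa [Subgroup.orderOf_mk] at this
  rw [hgΓ] at h2
  have h3 := Cfsg.Agent.Helper22.card_pPrimeCore_coprime (G := Γ) p
  exact (Nat.Prime.coprime_iff_not_dvd hp.out).1 h3.symm h2

end Cfsg.Agent.Helper80.GagSolvD
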