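import Mathlib
import Cfsg.Prelude.Def_Solvable
import Cfsg.Agent.Lib.Helper80.GagSolvD

/-!
# Solvable groups acting with `p`-group point stabilizers (helper80), part E: the case
`p = 3`, `O_2(Γ) ≅ Q₈`.
-/

set_option autoImplicit false
set_option linter.style.haveILetI false

namespace Cfsg.Agent.Helper80.GagSolvE

open Cfsg Cfsg.Agent.Helper80.GagSolvD

variable {Γ : Type*} [Group Γ] [Finite Γ] {V : Type*} [Group V] [Finite V]
  {φ : Γ →* MulAut V}

/-- data extracted in the bad case: `|V| = u²`, and no prime `r ∉ {2,3}` divides `u + 1`. -/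
theorem bad_u (h : Hyp 3 φ) [Nontrivial V] (e : pCore 2 Γ ≃* QuaternionGroup 2) :
    Nat.card V = 9 := by
  classical
  haveI : Fact (Nat.Prime 3) := ⟨Nat.prime_three⟩
  set S : Subgroup Γ := pCore 2 Γ with hSdef
  haveI hSn : S.Normal := pCore_normal' 2
  obtain ⟨haa, hbb, hzz, hz1, hab, -⟩ := GagSolvC.q8_rel
  set a₀ : S := e.symm (QuaternionGroup.a 1) with ha₀
  set b₀ : S := e.symm (QuaternionGroup.xa 0) with hb₀
  set z₀ : S := e.symm (QuaternionGroup.a 2) with hz₀
  have haa' : a₀ * a₀ = z₀ := by rw [ha₀, hz₀, ← map_mul, haa]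
  have hbb' : b₀ * b₀ = z₀ := by rw [hb₀, hz₀, ← map_mul, hbb]
  have hzz' : z₀ * z₀ = 1 := by rw [hz₀, ← map_mul, hzz, map_one]
  have hz1' : z₀ ≠ 1 := by
    intro hh
    have := congrArg e hh
    rw [hz₀, MulEquiv.apply_symm_apply, map_one] at this
    exact hz1 this
  have hab' : a₀ * b₀ = z₀ * (b₀ * a₀) := by
    rw [ha₀, hb₀, hz₀, ← map_mul, ← map_mul, ← map_mul, hab]
  set a : Γ := (a₀ : Γ) with ha
  set b : Γ := (b₀ : Γ) with hb
  set z : Γ := (z₀ : Γ) with hz
  have haaΓ : a * a = z := congrArg Subtype.val haa'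
  have hbbΓ : b * b = z := congrArg Subtype.val hbb'
  have hzzΓ : z * z = 1 := congrArg Subtype.val hzz'
  have hzΓ1 : z ≠ 1 := fun hh => hz1' (Subtype.ext hh)
  have habΓ : a * b = z * (b * a) := congrArg Subtype.val hab'
  -- `z` inverts `V`
  have hzfpf : ∀ x : V, φ z x = x → x = 1 := by
    intro x hx
    refine h.fpf z hzΓ1 ?_ x hx
    have : orderOf z = 2 := orderOf_eq_prime (by rw [pow_two]; exact hzzΓ) hzΓ1
    rw [this]; decide
  have hzinv : ∀ x : V, φ z x = x⁻¹ := by
    have hfp : MonoidHom.FixedPointFree (φ z).toMonoidHom := fun x hx => hzfpf x hx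
    have hinv : Function.Involutive (φ z).toMonoidHom := fun x => by
      change φ z (φ z x) = x
      rw [← MulAut.mul_apply, ← map_mul, hzzΓ, map_one]; rfl
    intro x
    exact congrFun (hfp.coe_eq_inv_of_involutive hinv) x
  set A : V →* V := (φ a).toMonoidHom with hAdef
  set B : V →* V := (φ b).toMonoidHom with hBdef
  have hA : ∀ x, A (A x) = x⁻¹ := fun x => by
    change φ a (φ a x) = x⁻¹
    rw [← MulAut.mul_apply, ← map_mul, haaΓ, hzinv]
  have hB : ∀ x, B (B x) = x⁻¹ := fun x => by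
    change φ b (φ b x) = x⁻¹
    rw [← MulAut.mul_apply, ← map_mul, hbbΓ, hzinv]
  have hAB : ∀ x, A (B x) = (B (A x))⁻¹ := fun x => by
    change φ a (φ b x) = (φ b (φ a x))⁻¹
    rw [← MulAut.mul_apply, ← map_mul, habΓ, map_mul, MulAut.mul_apply, hzinv, map_mul,
      MulAut.mul_apply]
  set W : Subgroup V := GagSolvB.plusPart h.comm A B with hWdef
  have hVW : Nat.card V = Nat.card W * Nat.card W :=
    GagSolvB.card_eq_sq_mul h.comm h.exp A B hA hB hAB
  set u := Nat.card W with hu
  have hWinv : ∀ g : Γ, (∀ s ∈ S, g * s * g⁻¹ = s) → ∀ x ∈ W, φ g x ∈ W := by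
    intro g hg x hx
    rw [hWdef, GagSolvB.mem_plusPart] at hx ⊢
    have hga : a * g = g * a := by
      have := hg a a₀.2
      calc a * g = (g * a * g⁻¹) * g := by rw [this]
        _ = g * a := by group
    have hgb : b * g = g * b := by
      have := hg b b₀.2
      calc b * g = (g * b * g⁻¹) * g := by rw [this]
        _ = g * b := by group
    change φ a (φ g x) * φ b (φ g x) = φ g x
    rw [← MulAut.mul_apply, ← MulAut.mul_apply, ← map_mul, ← map_mul, hga, hgb, map_mul, map_mul,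
      MulAut.mul_apply, MulAut.mul_apply, ← map_mul (φ g)]
    exact congrArg (φ g) hx
  obtain ⟨n, hn⟩ := h.card_V
  obtain ⟨a', ha'⟩ := h.card
  have hV1 : 1 < Nat.card V := Finite.one_lt_card
  have hu1 : 1 < u := by
    by_contra hle
    push Not at hle
    have : u * u ≤ 1 * 1 := Nat.mul_le_mul hle hle
    omega
  have hfac : Nat.card V - 1 = (u - 1) * (u + 1) := by
    rw [hVW]
    obtain ⟨t, ht⟩ := Nat.exists_eq_add_of_le hu1.le
    rw [ht]
    have : (1 + t) * (1 + t) = t * (1 + t + 1) + 1 := by ring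
    rw [this]
    simp
  have hprime : ∀ r : ℕ, r.Prime → r ≠ 2 → r ≠ 3 → ¬ r ∣ u + 1 := by
    intro r hr hr2 hr3 hdvd
    haveI := Fact.mk hr
    let R : Sylow r Γ := default
    have hRcent : ∀ g ∈ (R : Subgroup Γ), ∀ s ∈ S, g * s * g⁻¹ = s := by
      intro g hg
      obtain ⟨k, hk⟩ := (IsPGroup.iff_orderOf.1 R.isPGroup') ⟨g, hg⟩
      have hgk : g ^ (r ^ k) = 1 := by
        have := pow_orderOf_eq_one (⟨g, hg⟩ : (R : Subgroup Γ))
        rw [hk] at this
        exact congrArg Subtype.val this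
      exact GagSolvC.q8_centralized S e r hr2 hr3 g k hgk
    have hRdvd : Nat.card (R : Subgroup Γ) ∣ u - 1 := by
      refine GagSolvA.card_dvd_card_sub_one_of_fpf_on (φ.comp (R : Subgroup Γ).subtype) W ?_ ?_
      · intro g x hx
        exact hWinv g (hRcent g g.2) x hx
      · intro g hg x _ hx
        obtain ⟨k, hk⟩ := (IsPGroup.iff_orderOf.1 R.isPGroup') g
        refine h.fpf (g : Γ) (fun h1 => hg (Subtype.ext h1)) ?_ x hx
        rw [Subgroup.orderOf_coe, hk]
        exact Nat.Coprime.pow_left k ((Nat.coprime_primes hr Nat.prime_three).2 hr3)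
    rw [R.card_eq_multiplicity, ha', hfac] at hRdvd
    have hu10 : u - 1 ≠ 0 := by omega
    have hu20 : u + 1 ≠ 0 := by omega
    have h3a : (3 ^ a').factorization r = 0 := by
      apply Nat.factorization_eq_zero_of_not_dvd
      intro hd
      exact hr3 ((Nat.prime_dvd_prime_iff_eq hr Nat.prime_three).1 (hr.dvd_of_dvd_pow hd))
    have hfz : (3 ^ a' * ((u - 1) * (u + 1))).factorization r =
        (u - 1).factorization r + (u + 1).factorization r := by
      rw [Nat.factorization_mul (pow_ne_zero _ (by norm_num)) (mul_ne_zero hu10 hu20),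
        Nat.factorization_mul hu10 hu20]
      simp only [Finsupp.coe_add, Pi.add_apply, h3a, zero_add]
    rw [hfz] at hRdvd
    have hle := (hr.pow_dvd_iff_le_factorization hu10).1 hRdvd
    have hpos : 0 < (u + 1).factorization r := hr.factorization_pos_of_dvd hu20 hdvd
    omega
  have hu3 : u = 3 := by
    have hud : u ∣ 3 ^ n := by rw [← hn, hVW]; exact dvd_mul_right u u
    obtain ⟨m, -, hm⟩ := (Nat.dvd_prime_pow Nat.prime_three).1 hud
    have hm0 : m ≠ 0 := by
      rintro rfl
      rw [pow_zero] at hm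
      omega
    have h2pow : ∀ d : ℕ, d.Prime → d ∣ u + 1 → d = 2 := by
      intro d hd hdd
      by_contra hd2
      by_cases hd3 : d = 3
      · subst hd3
        have h3u : 3 ∣ u := by rw [hm]; exact dvd_pow_self 3 hm0
        have : 3 ∣ 1 := (Nat.dvd_add_right h3u).1 hdd
        omega
      · exact hprime d hd hd2 hd3 hdd
    have hpow := Nat.eq_prime_pow_of_unique_prime_dvd (by omega : u + 1 ≠ 0)
      (fun {d} hd hdd => h2pow d hd hdd)
    rw [hm] at hpow
    have := GagSolvC.eq_one_of_three_pow_add_one m _ hpow hm0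
    rw [hm, this, pow_one]
  rw [hVW, hu3]

theorem bad (h : Hyp 3 φ) [Nontrivial V] [Group.IsSolvable Γ]
    (e : pCore 2 Γ ≃* QuaternionGroup 2) : ¬ 3 ∣ Nat.card (commutator Γ) := by
  classical
  haveI : Fact (Nat.Prime 3) := ⟨Nat.prime_three⟩
  have hV9 := bad_u h e
  set S : Subgroup Γ := pCore 2 Γ with hSdef
  haveI hSn : S.Normal := pCore_normal' 2
  obtain ⟨a', ha'⟩ := h.card
  have hΓ : Nat.card Γ = 3 ^ a' * 8 := by rw [ha', hV9]
  have hcardS : Nat.card S = 8 := by
    rw [Nat.card_congr e.toEquiv, Nat.card_eq_fintype_card, QuaternionGroup.card]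
  obtain ⟨haa, -, hzz, hz1, -, -⟩ := GagSolvC.q8_rel
  set a₀ : S := e.symm (QuaternionGroup.a 1) with ha₀
  set z₀ : S := e.symm (QuaternionGroup.a 2) with hz₀
  have haa' : a₀ * a₀ = z₀ := by rw [ha₀, hz₀, ← map_mul, haa]
  have hzz' : z₀ * z₀ = 1 := by rw [hz₀, ← map_mul, hzz, map_one]
  have hz1' : z₀ ≠ 1 := by
    intro hh
    have := congrArg e hh
    rw [hz₀, MulEquiv.apply_symm_apply, map_one] at this
    exact hz1 this
  set a : Γ := (a₀ : Γ) with ha
  set z : Γ := (z₀ : Γ) with hz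
  have haaΓ : a * a = z := congrArg Subtype.val haa'
  have hzzΓ : z * z = 1 := congrArg Subtype.val hzz'
  have hzΓ1 : z ≠ 1 := fun hh => hz1' (Subtype.ext hh)
  have ha4 : orderOf a = 2 ^ (1 + 1) := by
    apply orderOf_eq_prime_pow
    · rw [pow_one, pow_two, haaΓ]; exact hzΓ1
    · have : a ^ 2 ^ (1 + 1) = (a * a) * (a * a) := by
        rw [show (2 : ℕ) ^ (1 + 1) = 4 by norm_num, pow_succ, pow_succ, pow_succ, pow_one]
        group
      rw [this, haaΓ, hzzΓ]
  -- the Fitting subgroup is `S`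
  have hF : fittingSubgroup Γ = S := by
    rw [Cfsg.Agent.Helper22.fittingSubgroup_eq_iSup_pCore]
    apply le_antisymm
    · refine iSup_le ?_
      rintro ⟨q, hq⟩
      haveI := Fact.mk hq
      change pCore q Γ ≤ S
      by_cases hq2 : q = 2
      · rw [hq2]
      · by_cases hq3 : q = 3
        · rw [hq3, h.core]; exact bot_le
        · have hqg : IsPGroup q (pCore q Γ) := Cfsg.Agent.Helper22.isPGroup_pCore q
          obtain ⟨k, hk⟩ := IsPGroup.iff_card.1 hqg
          have hd : q ^ k ∣ 3 ^ a' * 8 := by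
            rw [← hk, ← hΓ]; exact Subgroup.card_subgroup_dvd_card _
          have hk0 : k = 0 := by
            by_contra hk0
            have hq_dvd : q ∣ 3 ^ a' * 8 := dvd_trans (dvd_pow_self q hk0) hd
            rcases (Nat.Prime.dvd_mul hq).1 hq_dvd with h1 | h1
            · exact hq3 ((Nat.prime_dvd_prime_iff_eq hq Nat.prime_three).1 (hq.dvd_of_dvd_pow h1))
            · have : q ∣ 2 ^ 3 := h1
              exact hq2 ((Nat.prime_dvd_prime_iff_eq hq Nat.prime_two).1 (hq.dvd_of_dvd_pow this))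
          rw [hk0, pow_zero] at hk
          rw [Subgroup.card_eq_one.1 hk]; exact bot_le
    · exact le_iSup (fun q : {q : ℕ // q.Prime} => pCore (q : ℕ) Γ) ⟨2, Nat.prime_two⟩
  have hCS : Subgroup.centralizer (S : Set Γ) ≤ S := by
    have := Cfsg.Agent.Helper94.centralizer_fitting_le (G := Γ)
    rwa [hF] at this
  let P : Sylow 3 Γ := default
  have hPcard : Nat.card (P : Subgroup Γ) = 3 ^ a' := by
    rw [P.card_eq_multiplicity, hΓ, Nat.factorization_mul (by positivity) (by norm_num),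
      Nat.Prime.factorization_pow Nat.prime_three]
    have : (8 : ℕ).factorization 3 = 0 := Nat.factorization_eq_zero_of_not_dvd (by norm_num)
    simp [this]
  have hPa : ∀ t ∈ (P : Subgroup Γ), t * a * t⁻¹ = a → t = 1 := by
    intro t htP hta
    obtain ⟨k, hk⟩ := (IsPGroup.iff_orderOf.1 P.isPGroup') ⟨t, htP⟩
    have htk : t ^ (3 ^ k) = 1 := by
      have := pow_orderOf_eq_one (⟨t, htP⟩ : (P : Subgroup Γ))
      rw [hk] at this
      exact congrArg Subtype.val this
    set C : Subgroup Γ := S ⊓ Subgroup.centralizer ({t} : Set Γ) with hC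
    have hmod := GagSolvA.card_modEq_card_inf_centralizer S t 3 k htk
    rw [hcardS] at hmod
    have hdvd : Nat.card C ∣ 8 := hcardS ▸ Subgroup.card_dvd_of_le (inf_le_left : C ≤ S)
    have haC : a ∈ C := by
      refine Subgroup.mem_inf.2 ⟨a₀.2, ?_⟩
      rw [Subgroup.mem_centralizer_singleton_iff]
      calc a * t = (t * a * t⁻¹) * t := by rw [hta]
        _ = t * a := by group
    have h4C : 4 ∣ Nat.card C := by
      have := orderOf_dvd_natCard (⟨a, haC⟩ : C)
      rw [Subgroup.orderOf_mk, ha4] at this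
      exact this
    have hC8 : Nat.card C = 8 := by
      obtain ⟨j, hj3, hj⟩ := (Nat.dvd_prime_pow Nat.prime_two).1 (show Nat.card C ∣ 2 ^ 3 from hdvd)
      rw [hj] at hmod h4C
      interval_cases j
      · omega
      · omega
      · exfalso
        have : (8 : ℕ) % 3 = 2 ^ 2 % 3 := hmod
        omega
      · rw [hj]; norm_num
    have hCeq : C = S := by
      apply Subgroup.eq_of_le_of_card_ge inf_le_left
      rw [hC8, hcardS]
    have htS : t ∈ S := by
      apply hCS
      rw [Subgroup.mem_centralizer_iff]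
      intro s hs
      have : s ∈ C := hCeq ▸ hs
      exact Subgroup.mem_centralizer_singleton_iff.1 (Subgroup.mem_inf.1 this).2
    have ht8 : t ^ 8 = 1 := by
      have := pow_card_eq_one' (G := S) (x := ⟨t, htS⟩)
      rw [hcardS] at this
      exact congrArg Subtype.val this
    have hcop : Nat.Coprime (3 ^ k) 8 := by
      apply Nat.Coprime.pow_left; decide
    have h1 : orderOf t ∣ Nat.gcd (3 ^ k) 8 :=
      Nat.dvd_gcd (orderOf_dvd_of_pow_eq_one htk) (orderOf_dvd_of_pow_eq_one ht8)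
    rw [hcop.gcd_eq_one] at h1
    exact orderOf_eq_one_iff.1 (Nat.dvd_one.1 h1)
  have hinj : Function.Injective (fun g : (P : Subgroup Γ) =>
      (⟨(g : Γ) * a * (g : Γ)⁻¹, hSn.conj_mem a a₀.2 g⟩ : S)) := by
    intro g₁ g₂ h12
    have h12' : (g₁ : Γ) * a * (g₁ : Γ)⁻¹ = g₂ * a * (g₂ : Γ)⁻¹ := congrArg Subtype.val h12
    set t : Γ := (g₂ : Γ)⁻¹ * g₁ with ht
    have htP : t ∈ (P : Subgroup Γ) :=
      (P : Subgroup Γ).mul_mem ((P : Subgroup Γ).inv_mem g₂.2) g₁.2
    have hta : t * a * t⁻¹ = a := by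
      calc t * a * t⁻¹ = (g₂ : Γ)⁻¹ * (g₁ * a * (g₁ : Γ)⁻¹) * g₂ := by rw [ht]; group
        _ = a := by rw [h12']; group
    have ht1 : t = 1 := hPa t htP hta
    apply Subtype.ext
    calc (g₁ : Γ) = g₂ * t := by rw [ht]; group
      _ = g₂ := by rw [ht1, mul_one]
  have hP8 : Nat.card (P : Subgroup Γ) ≤ 8 := by
    have := Nat.card_le_card_of_injective _ hinj
    rwa [hcardS] at this
  have ha1 : a' ≤ 1 := by
    rw [hPcard] at hP8
    by_contra hlt
    push Not at hlt
    have : 3 ^ 2 ≤ 3 ^ a' := Nat.pow_le_pow_right (by norm_num) hlt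
    omega
  have hidx : S.index = 3 ^ a' := by
    have := S.card_mul_index
    rw [hcardS, hΓ] at this
    have h8 : (0 : ℕ) < 8 := by norm_num
    apply Nat.eq_of_mul_eq_mul_left h8
    rw [this, mul_comm]
  have hcyc : IsCyclic (Γ ⧸ S) := by
    have hq : Nat.card (Γ ⧸ S) = 3 ^ a' := by rw [← hidx]; rfl
    interval_cases a'
    · rw [pow_zero] at hq
      haveI : Subsingleton (Γ ⧸ S) := (Nat.card_eq_one_iff_unique.1 hq).1
      infer_instance
    · rw [pow_one] at hq
      exact isCyclic_of_prime_card hq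
  have hcomm : commutator Γ ≤ S := by
    rw [← Subgroup.Normal.quotient_commutative_iff_commutator_le]
    exact ⟨⟨fun x y => hcyc.commGroup.mul_comm x y⟩⟩
  intro hdiv
  have h8 : Nat.card (commutator Γ) ∣ 8 := hcardS ▸ Subgroup.card_dvd_of_le hcomm
  have : 3 ∣ 8 := dvd_trans hdiv h8
  omega

end Cfsg.Agent.Helper80.GagSolvE
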