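import Mathlib
import Cfsg.Prelude.Def_Solvable
import Cfsg.Prelude.Def_Transfer
import Cfsg.Agent.Lib.Helper80.GagSolvE
import Cfsg.Agent.Lib.Helper45.CNFrob

/-!
# Solvable groups acting with `p`-group point stabilizers (helper80), part F: conclusion
-/

set_option autoImplicit false
set_option linter.style.haveILetI false

namespace Cfsg.Agent.Helper80.GagSolvF

open Cfsg Cfsg.Agent.Helper80.GagSolvD

universe u

variable {Γ : Type u} [Group Γ] [Finite Γ] {V : Type*} [Group V] [Finite V]
  {p : ℕ} [hp : Fact p.Prime] {φ : Γ →* MulAut V}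

theorem main (h : Hyp p φ) [Nontrivial V] [Group.IsSolvable Γ] :
    ¬ p ∣ Nat.card (commutator Γ) := by
  by_cases hbad : p = 3 ∧ Nonempty (pCore 2 Γ ≃* QuaternionGroup 2)
  · obtain ⟨hp3, ⟨e⟩⟩ := hbad
    subst hp3
    exact GagSolvE.bad h e
  · exact h.good hbad

theorem conclusion (h : Hyp p φ) [Nontrivial V] [Group.IsSolvable Γ] :
    HasNormalPComplement p Γ ∧ ∀ Q : Sylow p Γ, IsMulCommutative (Q : Subgroup Γ) := by
  have hmain := main h
  constructor
  · have hnil : Group.IsNilpotent (Γ ⧸ commutator Γ) :=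
      (inferInstance : Group.IsNilpotent (Abelianization Γ))
    exact Cfsg.Agent.Helper45.CNFrob.hasNormalPComplement_of_not_dvd (commutator Γ) hnil hmain
  · intro Q
    refine ⟨⟨fun x y => ?_⟩⟩
    apply Subtype.ext
    change (x : Γ) * y = y * x
    set c : Γ := (x : Γ) * y * (x : Γ)⁻¹ * (y : Γ)⁻¹ with hc
    suffices hc1 : c = 1 by
      calc (x : Γ) * y = c * (y * x) := by rw [hc]; group
        _ = y * x := by rw [hc1, one_mul]
    have hcQ : c ∈ (Q : Subgroup Γ) := by
      rw [hc]
      exact (Q : Subgroup Γ).mul_mem ((Q : Subgroup Γ).mul_mem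
        ((Q : Subgroup Γ).mul_mem x.2 y.2) ((Q : Subgroup Γ).inv_mem x.2))
        ((Q : Subgroup Γ).inv_mem y.2)
    have hcD : c ∈ commutator Γ := by
      rw [commutator_def, hc, ← commutatorElement_def]
      exact Subgroup.commutator_mem_commutator (Subgroup.mem_top _) (Subgroup.mem_top _)
    obtain ⟨k, hk⟩ := (IsPGroup.iff_orderOf.1 Q.isPGroup') ⟨c, hcQ⟩
    rw [Subgroup.orderOf_mk] at hk
    have h1 : orderOf c ∣ Nat.card (commutator Γ) := by
      have := orderOf_dvd_natCard (⟨c, hcD⟩ : commutator Γ)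
      rwa [Subgroup.orderOf_mk] at this
    have hcop : (Nat.card (commutator Γ)).Coprime p :=
      ((Nat.Prime.coprime_iff_not_dvd hp.out).2 hmain).symm
    have h2 : (orderOf c).Coprime (Nat.card (commutator Γ)) := by
      rw [hk]; exact (hcop.pow_right k).symm
    exact orderOf_eq_one_iff.1 (Nat.Coprime.eq_one_of_dvd h2 h1)

end Cfsg.Agent.Helper80.GagSolvF
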