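import Mathlib
import Cfsg.Prelude.Def_Solvable
import Cfsg.Prelude.Def_Transfer
import Cfsg.Agent.Lib.Helper80.GagSolvF
import Cfsg.Agent.Lib.Helper46.PCore

/-!
# The group-theoretic core of Gagola's theorem for solvable groups (helper80)

`G` finite solvable, `N` an elementary abelian normal `p`-subgroup contained in every nontrivial
normal subgroup, such that `C_G(x)` is a Sylow `p`-subgroup for every `1 ≠ x ∈ N` and
`|G : C_G(x)| = |N| - 1`.  Then `p` is the unique prime with `O_p(G) ≠ 1`, and `G / O_p(G)` has a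
normal `p`-complement and abelian Sylow `p`-subgroups.
-/

set_option autoImplicit false
set_option linter.style.haveILetI false

namespace Cfsg.Agent.Helper80.GagSolvG

open Cfsg Cfsg.Agent.Helper80.GagSolvD

universe u

variable {G : Type u} [Group G] [Finite G]

theorem pCore_quot_pCore_eq_bot (p : ℕ) : pCore p (G ⧸ pCore p G) = ⊥ := by
  apply Cfsg.Agent.Helper46.pCore_quotient_eq_bot_of
  intro D hD hpow
  apply Cfsg.Agent.Helper46.le_pCore hD
  rw [Cfsg.Agent.Helper46.isPGroup_subgroup_iff]
  intro d hd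
  obtain ⟨k, hk⟩ := hpow d hd
  obtain ⟨j, hj⟩ := Cfsg.Agent.Helper46.pCore_pow_eq_one hk
  refine ⟨k + j, ?_⟩
  rw [pow_add, pow_mul]; exact hj

theorem gt_main [Group.IsSolvable G] (p : ℕ) [hp : Fact p.Prime]
    (N : Subgroup G) [hNn : N.Normal] (hN1 : N ≠ ⊥)
    (hNc : ∀ x ∈ N, ∀ y ∈ N, x * y = y * x) (hNp : ∀ x ∈ N, x ^ p = 1)
    (hmin : ∀ K : Subgroup G, K.Normal → K ≠ ⊥ → N ≤ K)
    (hcent : ∀ x ∈ N, x ≠ 1 →
      Nat.card (Subgroup.centralizer ({x} : Set G)) = p ^ (Nat.card G).factorization p)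
    (hcount : ∀ x ∈ N, x ≠ 1 →
      Nat.card (Subgroup.centralizer ({x} : Set G)) * (Nat.card N - 1) = Nat.card G) :
    (∀ q : ℕ, q.Prime → (pCore q G ≠ ⊥ ↔ q = p)) ∧ HasNormalPComplement p (G ⧸ pCore p G) ∧
      ∀ Q : Sylow p (G ⧸ pCore p G), IsMulCommutative (Q : Subgroup (G ⧸ pCore p G)) := by
  classical
  have hNpg : IsPGroup p N := fun x => ⟨1, by
    rw [pow_one]; exact Subtype.ext (by simpa using hNp x x.2)⟩
  have hNK : N ≤ pCore p G := Cfsg.Agent.Helper46.le_pCore hNn hNpg
  obtain ⟨x₀, hx₀N, hx₀1⟩ : ∃ x ∈ N, x ≠ 1 := by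
    by_contra hcon
    push Not at hcon
    exact hN1 ((Subgroup.eq_bot_iff_forall N).2 hcon)
  have hx₀ord : orderOf x₀ = p := orderOf_eq_prime (hNp x₀ hx₀N) hx₀1
  refine ⟨?_, ?_⟩
  · intro q hq
    constructor
    · intro hne
      haveI := Fact.mk hq
      have hle : N ≤ pCore q G := hmin _ (pCore_normal' q) hne
      have hqg : IsPGroup q (pCore q G) := Cfsg.Agent.Helper46.isPGroup_pCore
      obtain ⟨k, hk⟩ := (IsPGroup.iff_orderOf.1 hqg) ⟨x₀, hle hx₀N⟩
      rw [Subgroup.orderOf_mk, hx₀ord] at hk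
      have hk0 : k ≠ 0 := by
        rintro rfl
        rw [pow_zero] at hk
        exact hp.out.one_lt.ne' hk
      have : q ∣ p := by rw [hk]; exact dvd_pow_self q hk0
      exact (Nat.prime_dvd_prime_iff_eq hq hp.out).1 this
    · rintro rfl hbot
      rw [hbot] at hNK
      exact hN1 (le_bot_iff.1 hNK)
  · set K : Subgroup G := pCore p G with hKdef
    haveI hKn : K.Normal := pCore_normal' p
    have hKp : IsPGroup p K := Cfsg.Agent.Helper46.isPGroup_pCore
    -- `K` centralizes `N`
    have hKcent : ∀ x ∈ N, x ≠ 1 → K ≤ Subgroup.centralizer ({x} : Set G) := by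
      intro x hx hx1
      have := Cfsg.Agent.Helper46.pCore_le_sylow (Sylow.ofCard _ (hcent x hx hx1))
      exact this
    have hKN : ∀ k ∈ K, ∀ x ∈ N, k * x * k⁻¹ = x := by
      intro k hk x hx
      by_cases hx1 : x = 1
      · rw [hx1]; group
      · have := Subgroup.mem_centralizer_singleton_iff.1 (hKcent x hx hx1 hk)
        calc k * x * k⁻¹ = (x * k) * k⁻¹ := by rw [this]
          _ = x := by group
    have hKker : K ≤ (MulAut.conjNormal (H := N)).ker := by
      intro k hk
      rw [MonoidHom.mem_ker]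
      ext x
      rw [MulAut.conjNormal_apply, MulAut.one_apply]
      exact hKN k hk x x.2
    let φ : G ⧸ K →* MulAut N := QuotientGroup.lift K (MulAut.conjNormal (H := N)) hKker
    have hφ : ∀ (g : G) (x : N), ((φ (QuotientGroup.mk g) x : N) : G) = g * x * g⁻¹ := by
      intro g x
      change ((QuotientGroup.lift K (MulAut.conjNormal (H := N)) hKker (QuotientGroup.mk g) x : N)
        : G) = _
      rw [QuotientGroup.lift_mk, MulAut.conjNormal_apply]
    haveI : Nontrivial N := (Subgroup.nontrivial_iff_ne_bot N).2 hN1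
    have hcard : ∃ a : ℕ, Nat.card (G ⧸ K) = p ^ a * (Nat.card N - 1) := by
      obtain ⟨k₀, hk₀⟩ := IsPGroup.iff_card.1 hKp
      set e := (Nat.card G).factorization p with he
      have h1 : Nat.card G = Nat.card (G ⧸ K) * Nat.card K :=
        Subgroup.card_eq_card_quotient_mul_card_subgroup K
      have h2 := hcount x₀ hx₀N hx₀1
      rw [hcent x₀ hx₀N hx₀1] at h2
      have hle : k₀ ≤ e := by
        have hd : Nat.card K ∣ Nat.card (Subgroup.centralizer ({x₀} : Set G)) :=
          Subgroup.card_dvd_of_le (hKcent x₀ hx₀N hx₀1)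
        rw [hk₀, hcent x₀ hx₀N hx₀1] at hd
        exact (Nat.pow_dvd_pow_iff_le_right hp.out.one_lt).1 hd
      refine ⟨e - k₀, ?_⟩
      have hpos : 0 < p ^ k₀ := pow_pos hp.out.pos _
      apply Nat.eq_of_mul_eq_mul_right hpos
      rw [← hk₀, ← h1, ← h2, hk₀]
      have : p ^ e = p ^ (e - k₀) * p ^ k₀ := by rw [← pow_add, Nat.sub_add_cancel hle]
      rw [this]; ring
    have hH : Hyp p φ :=
      { comm := fun x y => Subtype.ext (hNc x x.2 y y.2)
        exp := fun x => Subtype.ext (by simpa using hNp x x.2)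
        stab := by
          intro γ x hx1 hx
          obtain ⟨g, rfl⟩ := QuotientGroup.mk_surjective γ
          have hxG : (x : G) ≠ 1 := fun h => hx1 (Subtype.ext h)
          have h1 : g * (x : G) * g⁻¹ = x := by rw [← hφ g x, hx]
          have hgC : g ∈ Subgroup.centralizer ({(x : G)} : Set G) := by
            rw [Subgroup.mem_centralizer_singleton_iff]
            calc g * (x : G) = (g * (x : G) * g⁻¹) * g := by group
              _ = x * g := by rw [h1]
          refine ⟨(Nat.card G).factorization p, ?_⟩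
          have h2 := pow_card_eq_one' (G := Subgroup.centralizer ({(x : G)} : Set G))
            (x := ⟨g, hgC⟩)
          rw [hcent x x.2 hxG] at h2
          have h3 : g ^ p ^ (Nat.card G).factorization p = 1 := congrArg Subtype.val h2
          rw [← QuotientGroup.mk_pow, h3, QuotientGroup.mk_one]
        card := hcard
        core := pCore_quot_pCore_eq_bot p }
    exact GagSolvF.conclusion hH

end Cfsg.Agent.Helper80.GagSolvG
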