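import Mathlib
import Cfsg.Agent.Lib.Helper80.GalDegB

set_option autoImplicit false
set_option linter.unusedSectionVars false
set_option linter.unusedVariables false
set_option linter.style.haveILetI false
set_option linter.deprecated false

namespace Cfsg.Agent.Helper80.GalDeg

open Cfsg Cfsg.Agent.Helper79

universe u

variable {P : Type u} [Group P] [Finite P]

theorem relZ_structure (p : ℕ) (M : Subgroup P) [M.Normal] (hM : M ≤ Subgroup.center P)
    (hMp : ∀ m ∈ M, m ^ p = 1) (hcyc : IsCyclic (Subgroup.center (P ⧸ M))) :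
    ∃ z : P, z ∈ relZ M ∧ z ^ p ∈ Subgroup.center P ∧
      ∀ g ∈ relZ M, ∃ i : ℕ, ∃ m ∈ M, g = z ^ i * m := by
  obtain ⟨zb, hzb⟩ := IsCyclic.exists_monoid_generator (α := Subgroup.center (P ⧸ M))
  obtain ⟨z, hz⟩ := QuotientGroup.mk'_surjective M (zb : P ⧸ M)
  have hzr : z ∈ relZ M := by
    unfold relZ
    rw [Subgroup.mem_comap, hz]
    exact zb.2
  refine ⟨z, hzr, ?_, ?_⟩
  · apply pow_mem_center_of_comm p z
    · intro x
      exact hM ((mem_relZ M z).1 hzr x)
    · intro x
      exact hMp _ ((mem_relZ M z).1 hzr x)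
  · intro g hg
    have hgc : QuotientGroup.mk' M g ∈ Subgroup.center (P ⧸ M) := hg
    obtain ⟨i, hi⟩ := (Submonoid.mem_powers_iff _ _).1 (hzb ⟨QuotientGroup.mk' M g, hgc⟩)
    have h1 : (QuotientGroup.mk' M z) ^ i = QuotientGroup.mk' M g := by
      have := congrArg (Subtype.val) hi
      rw [Subgroup.coe_pow] at this
      rw [hz]
      exact this
    rw [← map_pow] at h1
    have h2 : (z ^ i)⁻¹ * g ∈ M := by
      have : (QuotientGroup.mk (z ^ i) : P ⧸ M) = QuotientGroup.mk g := h1
      exact QuotientGroup.eq.1 this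
    exact ⟨i, (z ^ i)⁻¹ * g, h2, by group⟩

theorem card_relZ_le (p : ℕ) (hp : 0 < p) (M : Subgroup P) [M.Normal] (hM : M ≤ Subgroup.center P)
    (hMp : ∀ m ∈ M, m ^ p = 1) (hcyc : IsCyclic (Subgroup.center (P ⧸ M))) :
    Nat.card (relZ M) ≤ p * Nat.card (Subgroup.center P) := by
  classical
  obtain ⟨z, hzr, hzp, hall⟩ := relZ_structure p M hM hMp hcyc
  choose i m hm hg using hall
  have hcen : ∀ (g : P) (hgr : g ∈ relZ M), (z ^ (i g hgr % p))⁻¹ * g ∈ Subgroup.center P := by
    intro g hgr
    have h1 : (z ^ (i g hgr % p))⁻¹ * g = (z ^ p) ^ (i g hgr / p) * m g hgr := by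
      have e := hg g hgr
      obtain ⟨k, hk⟩ : ∃ k, k = i g hgr := ⟨_, rfl⟩
      obtain ⟨mm, hmm⟩ : ∃ mm, mm = m g hgr := ⟨_, rfl⟩
      rw [← hk, ← hmm] at e ⊢
      have h2 : z ^ k = z ^ (k % p) * (z ^ p) ^ (k / p) := by
        rw [← pow_mul, ← pow_add, Nat.mod_add_div]
      rw [e, h2]
      group
    rw [h1]
    exact Subgroup.mul_mem _ (Subgroup.pow_mem _ hzp _) (hM (hm g hgr))
  let f : relZ M → Fin p × Subgroup.center P := fun g =>
    (⟨i g.1 g.2 % p, Nat.mod_lt _ hp⟩, ⟨(z ^ (i g.1 g.2 % p))⁻¹ * g.1, hcen g.1 g.2⟩)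
  have hf : Function.Injective f := by
    intro a b hab
    have h1 : i a.1 a.2 % p = i b.1 b.2 % p := by
      have := congrArg (fun t => (t.1 : ℕ)) hab
      exact this
    have h2 : (z ^ (i a.1 a.2 % p))⁻¹ * a.1 = (z ^ (i b.1 b.2 % p))⁻¹ * b.1 := by
      have := congrArg (fun t => ((t.2 : Subgroup.center P) : P)) hab
      exact this
    rw [h1] at h2
    exact Subtype.ext (mul_left_cancel h2)
  have h3 := Nat.card_le_card_of_injective f hf
  rw [Nat.card_prod, Nat.card_fin] at h3
  exact h3

theorem commutator_quotient (M : Subgroup P) [M.Normal] :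
    commutator (P ⧸ M) = (commutator P).map (QuotientGroup.mk' M) := by
  rw [commutator_def, commutator_def, Subgroup.map_commutator,
    Subgroup.map_top_of_surjective _ (QuotientGroup.mk'_surjective M)]

theorem card_map_mk_mul (M K : Subgroup P) [M.Normal] (hMK : M ≤ K) :
    Nat.card (K.map (QuotientGroup.mk' M)) * Nat.card M = Nat.card K := by
  have h1 := Subgroup.index_map K (QuotientGroup.mk' M)
  rw [QuotientGroup.ker_mk', sup_of_le_left hMK,
    MonoidHom.range_eq_top.2 (QuotientGroup.mk'_surjective M), Subgroup.index_top, mul_one] at h1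
  have h2 := Subgroup.card_mul_index (K.map (QuotientGroup.mk' M))
  have h3 := Subgroup.card_mul_index K
  have h4 := Subgroup.card_eq_card_quotient_mul_card_subgroup M
  rw [h1] at h2
  have h5 : 0 < K.index := Nat.pos_of_ne_zero Subgroup.index_ne_zero_of_finite
  apply Nat.eq_of_mul_eq_mul_right h5
  calc Nat.card (K.map (QuotientGroup.mk' M)) * Nat.card M * K.index
      = (Nat.card (K.map (QuotientGroup.mk' M)) * K.index) * Nat.card M := by ring
    _ = Nat.card (P ⧸ M) * Nat.card M := by rw [h2]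
    _ = Nat.card P := h4.symm
    _ = Nat.card K * K.index := h3.symm

theorem card_commutator_quotient (M : Subgroup P) [M.Normal] (hM : M ≤ commutator P) :
    Nat.card (commutator (P ⧸ M)) * Nat.card M = Nat.card (commutator P) := by
  rw [commutator_quotient]
  exact card_map_mk_mul M _ hM

/-- in the central case, the relative centre of a subgroup of order `p` is at most `p` times
the centre -/
theorem card_relZ_le_of_card (p : ℕ) [hp : Fact p.Prime] (hP : IsPGroup p P) (h : Hyp P)
    (hc : Nat.card (commutator P) = p ^ 2) (M : Subgroup P) [M.Normal]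
    (hMc : M ≤ commutator P) (hMz : M ≤ Subgroup.center P) (hM : Nat.card M = p) :
    Nat.card (relZ M) ≤ p * Nat.card (Subgroup.center P) := by
  have h1 := card_commutator_quotient M hMc
  rw [hM, hc, sq] at h1
  have h2 : Nat.card (commutator (P ⧸ M)) = p := Nat.eq_of_mul_eq_mul_right hp.out.pos h1
  have hPq : IsPGroup p (P ⧸ M) := hP.to_quotient M
  have hcyc := isCyclic_center_of_card_commutator p hPq h2 (h.quotient M)
  apply card_relZ_le p hp.out.pos M hMz _ hcyc
  intro m hm
  have h3 : (⟨m, hm⟩ : M) ^ Nat.card M = 1 := pow_card_eq_one'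
  rw [hM] at h3
  have := congrArg Subtype.val h3
  simpa using this

end Cfsg.Agent.Helper80.GalDeg
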