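import Mathlib
import Cfsg.Agent.Lib.Helper80.GalDegC

set_option autoImplicit false
set_option linter.unusedSectionVars false
set_option linter.unusedVariables false
set_option linter.style.haveILetI false
set_option linter.deprecated false

namespace Cfsg.Agent.Helper80.GalDeg

open Cfsg Cfsg.Agent.Helper79

universe u

variable {P : Type u} [Group P] [Finite P]

theorem normal_of_le_center (M : Subgroup P) (hM : M ≤ Subgroup.center P) : M.Normal := by
  constructor
  intro n hn g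
  have h1 := hM hn
  rw [Subgroup.mem_center_iff] at h1
  have : g * n * g⁻¹ = n := by rw [h1 g]; group
  rw [this]
  exact hn

/-- a subgroup of order `p` inside a nontrivial `p`-subgroup -/
theorem exists_subgroup_card_prime (p : ℕ) [hp : Fact p.Prime] (K : Subgroup P)
    (hK : p ∣ Nat.card K) : ∃ N : Subgroup P, N ≤ K ∧ Nat.card N = p := by
  obtain ⟨x, hx⟩ := exists_prime_orderOf_dvd_card' p hK
  refine ⟨Subgroup.zpowers (x : P), ?_, ?_⟩
  · rw [Subgroup.zpowers_le]
    exact x.2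
  · rw [Nat.card_zpowers, Subgroup.orderOf_coe, hx]

theorem card_relZ_bounds (p : ℕ) [hp : Fact p.Prime] (hP : IsPGroup p P) (h : Hyp P)
    (hc : Nat.card (commutator P) = p ^ 2) (M : Subgroup P) [M.Normal]
    (hMc : M ≤ commutator P) (hMz : M ≤ Subgroup.center P)
    (hM : Nat.card M = 1 ∨ Nat.card M = p) :
    Nat.card (Subgroup.center P) ≤ Nat.card (relZ M) ∧
      Nat.card (relZ M) ≤ p * Nat.card (Subgroup.center P) := by
  refine ⟨Subgroup.card_le_of_le (center_le_relZ M), ?_⟩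
  rcases hM with h1 | h1
  · have h2 : M = ⊥ := Subgroup.card_eq_one.1 h1
    subst h2
    rw [relZ_bot_eq]
    have := hp.out.pos
    nlinarith
  · exact card_relZ_le_of_card p hP h hc M hMc hMz h1

theorem caseA (p : ℕ) [hp : Fact p.Prime] (hP : IsPGroup p P) (h : Hyp P)
    (hc : Nat.card (commutator P) = p ^ 2) (hcen : commutator P ≤ Subgroup.center P) : False := by
  classical
  obtain ⟨n, hn⟩ := IsPGroup.iff_card.mp hP
  have hp2 : p ∣ Nat.card (commutator P) := by rw [hc]; exact dvd_pow_self p (by norm_num)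
  obtain ⟨N, hNc, hNp⟩ := exists_subgroup_card_prime p (commutator P) hp2
  have hNz : N ≤ Subgroup.center P := hNc.trans hcen
  haveI hNn : N.Normal := normal_of_le_center N hNz
  have hN1 : N ≠ ⊥ := by
    intro h0
    rw [h0, Subgroup.card_bot] at hNp
    exact hp.out.one_lt.ne hNp
  have hNlt : N < commutator P := by
    refine lt_of_le_of_ne hNc ?_
    intro h0
    rw [h0, hc] at hNp
    have := hp.out.one_lt
    nlinarith
  obtain ⟨χ, hχ⟩ := exists_not_le_irrKer N hN1
  obtain ⟨χ', hχ'N, hχ'deg⟩ := exists_nonlinear_over N hNlt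
  -- the two intersections
  have hcard : ∀ ψ : IrrCharacter P, ¬ commutator P ≤ irrKer ψ →
      Nat.card (irrKer ψ ⊓ commutator P : Subgroup P) = 1 ∨
        Nat.card (irrKer ψ ⊓ commutator P : Subgroup P) = p := by
    intro ψ hψ
    have h1 : Nat.card (irrKer ψ ⊓ commutator P : Subgroup P) ∣ p ^ 2 := by
      rw [← hc]
      exact Subgroup.card_dvd_of_le inf_le_right
    obtain ⟨k, hk2, hk⟩ := (Nat.dvd_prime_pow hp.out).1 h1
    interval_cases k
    · left; rw [hk, pow_zero]
    · right; rw [hk, pow_one]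
    · exfalso
      apply hψ
      have h3 : irrKer ψ ⊓ commutator P = commutator P :=
        Subgroup.eq_of_le_of_card_ge inf_le_right (by rw [hk, hc])
      rw [← h3]
      exact inf_le_left
  have hχc : ¬ commutator P ≤ irrKer χ := fun h0 => hχ (hNc.trans h0)
  have hχ'c : ¬ commutator P ≤ irrKer χ' := fun h0 => hχ'deg ((degree_one_iff χ').2 h0)
  have key : ∀ ψ : IrrCharacter P, ¬ commutator P ≤ irrKer ψ →
      ∃ s : ℕ, (charDegree (ψ : P → ℂ)) ^ 2 * p ^ s = Nat.card P ∧
        Nat.card (Subgroup.center P) ≤ p ^ s ∧ p ^ s ≤ p * Nat.card (Subgroup.center P) := by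
    intro ψ hψ
    haveI : (irrKer ψ ⊓ commutator P : Subgroup P).Normal := inferInstance
    have h1 := sq_mul_card_relZ ψ hcen (irrKer ψ ⊓ commutator P) inf_le_left
      (fun c hc1 hc2 => ⟨hc2, hc1⟩)
    have h2 := card_relZ_bounds p hP h hc (irrKer ψ ⊓ commutator P) inf_le_right
      (inf_le_right.trans hcen) (hcard ψ hψ)
    obtain ⟨s, hs⟩ := IsPGroup.iff_card.mp (hP.to_subgroup (relZ (irrKer ψ ⊓ commutator P)))
    rw [hs] at h1 h2
    exact ⟨s, h1, h2.1, h2.2⟩
  obtain ⟨s, hs1, hs2, hs3⟩ := key χ hχc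
  obtain ⟨t, ht1, ht2, ht3⟩ := key χ' hχ'c
  obtain ⟨ζ, hζ⟩ := IsPGroup.iff_card.mp (hP.to_subgroup (Subgroup.center P))
  obtain ⟨a, -, ha⟩ := (Nat.dvd_prime_pow hp.out).1 (hn ▸ irr_degree_dvd_card χ)
  obtain ⟨b, -, hb⟩ := (Nat.dvd_prime_pow hp.out).1 (hn ▸ irr_degree_dvd_card χ')
  have h2le := hp.out.two_le
  rw [hζ] at hs2 hs3 ht2 ht3
  rw [← pow_succ'] at hs3 ht3
  have e1 : ζ ≤ s := (Nat.pow_le_pow_iff_right h2le).1 hs2
  have e2 : s ≤ ζ + 1 := (Nat.pow_le_pow_iff_right h2le).1 hs3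
  have e3 : ζ ≤ t := (Nat.pow_le_pow_iff_right h2le).1 ht2
  have e4 : t ≤ ζ + 1 := (Nat.pow_le_pow_iff_right h2le).1 ht3
  rw [ha, hn, ← pow_mul, ← pow_add] at hs1
  rw [hb, hn, ← pow_mul, ← pow_add] at ht1
  have e5 : a * 2 + s = n := Nat.pow_right_injective h2le hs1
  have e6 : b * 2 + t = n := Nat.pow_right_injective h2le ht1
  have e7 : a = b := by omega
  have hdeg : charDegree (χ' : P → ℂ) = charDegree (χ : P → ℂ) := by rw [ha, hb, e7]
  have hk := h.same_ker χ' χ hχ'deg hdeg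
  apply hχ
  rw [hk]
  exact hχ'N

end Cfsg.Agent.Helper80.GalDeg
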