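import Mathlib
import Cfsg.Agent.Lib.Helper80.GalDegD

set_option autoImplicit false
set_option linter.unusedSectionVars false
set_option linter.unusedVariables false
set_option linter.style.haveILetI false
set_option linter.deprecated false

namespace Cfsg.Agent.Helper80.GalDeg

open Cfsg Cfsg.Agent.Helper79

universe u

variable {P : Type u} [Group P] [Finite P]

theorem relZ_structure' (p : ℕ) (M : Subgroup P) [M.Normal] (hM : M ≤ Subgroup.center P)
    (hMp : ∀ m ∈ M, m ^ p = 1) (hcyc : IsCyclic (Subgroup.center (P ⧸ M))) :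
    ∃ z : P, z ∈ relZ M ∧ z ^ p ∈ Subgroup.center P ∧
      orderOf (QuotientGroup.mk' M z) = Nat.card (Subgroup.center (P ⧸ M)) ∧
      ∀ g ∈ relZ M, ∃ i : ℕ, ∃ m ∈ M, g = z ^ i * m := by
  obtain ⟨zb, hzb⟩ := IsCyclic.exists_monoid_generator (α := Subgroup.center (P ⧸ M))
  obtain ⟨z, hz⟩ := QuotientGroup.mk'_surjective M (zb : P ⧸ M)
  have hzr : z ∈ relZ M := by
    unfold relZ
    rw [Subgroup.mem_comap, hz]
    exact zb.2
  refine ⟨z, hzr, ?_, ?_, ?_⟩
  · apply pow_mem_center_of_comm p z
    · intro x
      exact hM ((mem_relZ M z).1 hzr x)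
    · intro x
      exact hMp _ ((mem_relZ M z).1 hzr x)
  · rw [hz, Subgroup.orderOf_coe]
    apply orderOf_eq_card_of_forall_mem_zpowers
    intro x
    obtain ⟨i, hi⟩ := (Submonoid.mem_powers_iff _ _).1 (hzb x)
    exact ⟨(i : ℤ), by simp only [zpow_natCast]; exact hi⟩
  · intro g hg
    have hgc : QuotientGroup.mk' M g ∈ Subgroup.center (P ⧸ M) := hg
    obtain ⟨i, hi⟩ := (Submonoid.mem_powers_iff _ _).1 (hzb ⟨QuotientGroup.mk' M g, hgc⟩)
    have h1 : (QuotientGroup.mk' M z) ^ i = QuotientGroup.mk' M g := by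
      have := congrArg (Subtype.val) hi
      rw [Subgroup.coe_pow] at this
      rw [hz]
      exact this
    rw [← map_pow] at h1
    have h2 : (z ^ i)⁻¹ * g ∈ M := by
      have : (QuotientGroup.mk (z ^ i) : P ⧸ M) = QuotientGroup.mk g := h1
      exact QuotientGroup.eq.1 this
    exact ⟨i, (z ^ i)⁻¹ * g, h2, by group⟩

/-- the central part of the derived subgroup -/
abbrev cz (P : Type u) [Group P] : Subgroup P := commutator P ⊓ Subgroup.center P

instance cz_normal : (cz P).Normal := inferInstance

section CaseB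

variable (p : ℕ) [hp : Fact p.Prime] (hP : IsPGroup p P) (h : Hyp P)
  (hc : Nat.card (commutator P) = p ^ 2) (hncen : ¬ commutator P ≤ Subgroup.center P)

include hP hc hncen in
theorem card_cz : Nat.card (cz P) = p := by
  haveI : Group.IsNilpotent P := hP.isNilpotent
  have hc1 : commutator P ≠ ⊥ := by
    intro h0
    apply hncen
    rw [h0]
    exact bot_le
  have h1 := Cfsg.Agent.S0015.normal_inf_center_ne_bot (commutator P) hc1
  have h2 : Nat.card (cz P) ∣ p ^ 2 := by
    rw [← hc]
    exact Subgroup.card_dvd_of_le inf_le_left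
  obtain ⟨k, hk2, hk⟩ := (Nat.dvd_prime_pow hp.out).1 h2
  interval_cases k
  · exfalso
    rw [pow_zero] at hk
    exact h1 (Subgroup.card_eq_one.1 hk)
  · rw [hk, pow_one]
  · exfalso
    apply hncen
    have h3 : cz P = commutator P :=
      Subgroup.eq_of_le_of_card_ge inf_le_left (by rw [hk, hc])
    rw [← h3]
    exact inf_le_right

include hP hc hncen in
theorem cz_lt : cz P < commutator P := by
  refine lt_of_le_of_ne inf_le_left ?_
  intro h0
  have h1 := card_cz p hP hc hncen
  rw [h0, hc] at h1
  have := hp.out.one_lt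
  nlinarith

include hP hc hncen in
theorem card_commutator_quot : Nat.card (commutator (P ⧸ cz P)) = p := by
  have h1 := card_commutator_quotient (cz P) inf_le_left
  rw [card_cz p hP hc hncen, hc, sq] at h1
  exact Nat.eq_of_mul_eq_mul_right hp.out.pos h1

include hP hc hncen in
theorem commutator_quot_le_center :
    commutator (P ⧸ cz P) ≤ Subgroup.center (P ⧸ cz P) :=
  le_center_of_card_prime p (hP.to_quotient _) _ (card_commutator_quot p hP hc hncen)

include hP hc hncen in
theorem commutator_le_relZ : commutator P ≤ relZ (cz P) := by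
  intro y hy
  unfold relZ
  rw [Subgroup.mem_comap]
  apply commutator_quot_le_center p hP hc hncen
  rw [commutator_quotient]
  exact Subgroup.mem_map_of_mem _ hy

include hP h hc hncen in
theorem card_center_quot : Nat.card (Subgroup.center (P ⧸ cz P)) = p := by
  have hcyc := isCyclic_center_of_card_commutator p (hP.to_quotient (cz P))
    (card_commutator_quot p hP hc hncen) (h.quotient (cz P))
  have hNp : ∀ m ∈ cz P, m ^ p = 1 := by
    intro m hm
    have h3 : (⟨m, hm⟩ : cz P) ^ Nat.card (cz P) = 1 := pow_card_eq_one'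
    rw [card_cz p hP hc hncen] at h3
    have := congrArg Subtype.val h3
    simpa using this
  obtain ⟨z, hzr, hzp, hord, hall⟩ := relZ_structure' p (cz P) inf_le_right hNp hcyc
  obtain ⟨c, hcc⟩ := IsPGroup.iff_card.mp
    ((hP.to_quotient (cz P)).to_subgroup (Subgroup.center (P ⧸ cz P)))
  have hle : Nat.card (commutator (P ⧸ cz P)) ∣ Nat.card (Subgroup.center (P ⧸ cz P)) :=
    Subgroup.card_dvd_of_le (commutator_quot_le_center p hP hc hncen)
  rw [card_commutator_quot p hP hc hncen, hcc] at hle
  have hc1 : 1 ≤ c := by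
    rcases Nat.eq_zero_or_pos c with h0 | h0
    · rw [h0, pow_zero] at hle
      exact absurd (Nat.dvd_one.1 hle) hp.out.one_lt.ne'
    · exact h0
  rcases Nat.lt_or_ge c 2 with h2 | h2
  · have : c = 1 := by omega
    rw [hcc, this, pow_one]
  · exfalso
    apply hncen
    intro y hy
    obtain ⟨i, m, hm, hyi⟩ := hall y (commutator_le_relZ p hP hc hncen hy)
    -- (mk y)^p = 1
    have hyp : (QuotientGroup.mk' (cz P) y) ^ p = 1 := by
      have hyc : QuotientGroup.mk' (cz P) y ∈ commutator (P ⧸ cz P) := by
        rw [commutator_quotient]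
        exact Subgroup.mem_map_of_mem _ hy
      have h3 : (⟨_, hyc⟩ : commutator (P ⧸ cz P)) ^ Nat.card (commutator (P ⧸ cz P)) = 1 :=
        pow_card_eq_one'
      rw [card_commutator_quot p hP hc hncen] at h3
      have := congrArg Subtype.val h3
      simpa using this
    have hmk : QuotientGroup.mk' (cz P) y = (QuotientGroup.mk' (cz P) z) ^ i := by
      rw [hyi, map_mul, map_pow]
      have : QuotientGroup.mk' (cz P) m = 1 := by
        rw [← MonoidHom.mem_ker, QuotientGroup.ker_mk']
        exact hm
      rw [this, mul_one]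
    rw [hmk, ← pow_mul] at hyp
    have hdvd := orderOf_dvd_of_pow_eq_one hyp
    rw [hord, hcc] at hdvd
    have h4 : p ^ 2 ∣ i * p := (pow_dvd_pow p h2).trans hdvd
    rw [sq] at h4
    have h5 : p ∣ i := Nat.dvd_of_mul_dvd_mul_right hp.out.pos h4
    obtain ⟨j, hj⟩ := h5
    rw [hyi, hj, pow_mul]
    exact Subgroup.mul_mem _ (Subgroup.pow_mem _ hzp j) ((inf_le_right : cz P ≤ Subgroup.center P) hm)

include hP h hc hncen in
theorem pow_cube_eq_one (g : P) : g ^ (p ^ 3) = 1 := by
  have h1 : (QuotientGroup.mk' (cz P) g) ^ p ∈ Subgroup.center (P ⧸ cz P) := by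
    apply pow_mem_center_of_comm p
    · intro x
      apply commutator_quot_le_center p hP hc hncen
      rw [commutator_def, ← commutatorElement_def]
      exact Subgroup.commutator_mem_commutator (Subgroup.mem_top _) (Subgroup.mem_top _)
    · intro x
      have hyc : (QuotientGroup.mk' (cz P) g) * x * (QuotientGroup.mk' (cz P) g)⁻¹ * x⁻¹
          ∈ commutator (P ⧸ cz P) := by
        rw [commutator_def, ← commutatorElement_def]
        exact Subgroup.commutator_mem_commutator (Subgroup.mem_top _) (Subgroup.mem_top _)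
      have h3 : (⟨_, hyc⟩ : commutator (P ⧸ cz P)) ^ Nat.card (commutator (P ⧸ cz P)) = 1 :=
        pow_card_eq_one'
      rw [card_commutator_quot p hP hc hncen] at h3
      have := congrArg Subtype.val h3
      simpa using this
  have h2 : ((QuotientGroup.mk' (cz P) g) ^ p) ^ p = 1 := by
    have h3 : (⟨_, h1⟩ : Subgroup.center (P ⧸ cz P)) ^ Nat.card (Subgroup.center (P ⧸ cz P)) = 1 :=
      pow_card_eq_one'
    rw [card_center_quot p hP h hc hncen] at h3
    have := congrArg Subtype.val h3
    simpa using this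
  rw [← map_pow, ← map_pow, ← MonoidHom.mem_ker, QuotientGroup.ker_mk'] at h2
  have h3 : (⟨_, h2⟩ : cz P) ^ Nat.card (cz P) = 1 := pow_card_eq_one'
  rw [card_cz p hP hc hncen] at h3
  have h4 := congrArg Subtype.val h3
  simp only [Subgroup.coe_pow, Subgroup.coe_one] at h4
  rw [← h4, ← pow_mul, ← pow_mul]
  congr 1
  ring

end CaseB

end Cfsg.Agent.Helper80.GalDeg
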