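import Mathlib
import Cfsg.Agent.Lib.Helper80.GalDegE
import Cfsg.Agent.Lib.Helper79.Integrality

set_option autoImplicit false
set_option linter.unusedSectionVars false
set_option linter.unusedVariables false
set_option linter.style.haveILetI false
set_option linter.deprecated false

namespace Cfsg.Agent.Helper80.GalDeg

open Cfsg Cfsg.Agent.Helper79

universe u

variable {P : Type u} [Group P] [Finite P]

section CaseB

variable (p : ℕ) [hp : Fact p.Prime] (hP : IsPGroup p P) (h : Hyp P)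
  (hc : Nat.card (commutator P) = p ^ 2) (hncen : ¬ commutator P ≤ Subgroup.center P)

include hP hc hncen in
theorem degree_bound (χ : IrrCharacter P) :
    p * (charDegree (χ : P → ℂ)) ^ 2 ≤ Nat.card P := by
  classical
  have hNcard := card_cz p hP hc hncen
  obtain ⟨y0, hy0c, hy0N⟩ := SetLike.exists_of_lt (cz_lt p hP hc hncen)
  have hy0r : y0 ∈ relZ (cz P) := commutator_le_relZ p hP hc hncen hy0c
  have hcomm : ∀ g : P, y0 * g * y0⁻¹ * g⁻¹ ∈ cz P := (mem_relZ (cz P) y0).1 hy0r
  have hcen : ∀ g : P, ∀ x : P, x * (y0 * g * y0⁻¹ * g⁻¹) = (y0 * g * y0⁻¹ * g⁻¹) * x := by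
    intro g x
    have := (inf_le_right : cz P ≤ Subgroup.center P) (hcomm g)
    rw [Subgroup.mem_center_iff] at this
    exact this x
  let φ : P →* cz P :=
    { toFun := fun g => ⟨y0 * g * y0⁻¹ * g⁻¹, hcomm g⟩
      map_one' := by
        apply Subtype.ext
        simp
      map_mul' := by
        intro a b
        apply Subtype.ext
        simp only [Subgroup.coe_mul]
        have h1 := hcen b a⁻¹
        calc y0 * (a * b) * y0⁻¹ * (a * b)⁻¹
            = y0 * a * y0⁻¹ * ((y0 * b * y0⁻¹ * b⁻¹) * a⁻¹) := by group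
          _ = y0 * a * y0⁻¹ * (a⁻¹ * (y0 * b * y0⁻¹ * b⁻¹)) := by rw [h1]
          _ = y0 * a * y0⁻¹ * a⁻¹ * (y0 * b * y0⁻¹ * b⁻¹) := by group }
  set C : Subgroup P := φ.ker with hC
  have hmemC : ∀ g : P, g ∈ C ↔ y0 * g * y0⁻¹ * g⁻¹ = 1 := by
    intro g
    rw [hC, MonoidHom.mem_ker]
    constructor
    · intro h1
      exact congrArg Subtype.val h1
    · intro h1
      exact Subtype.ext h1
  have hcommC : ∀ g : P, g ∈ C → y0 * g = g * y0 := by
    intro g hg
    have h1 := (hmemC g).1 hg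
    rw [mul_inv_eq_one] at h1
    rw [mul_inv_eq_iff_eq_mul] at h1
    exact h1
  have hidx : Nat.card P ≤ p * Nat.card C := by
    have h1 := Subgroup.card_mul_index C
    have h2 : C.index = Nat.card φ.range := Subgroup.index_ker φ
    have h3 : Nat.card φ.range ≤ Nat.card (cz P) := Subgroup.card_le_card_group _
    rw [hNcard] at h3
    rw [← h1, h2]
    calc Nat.card C * Nat.card φ.range ≤ Nat.card C * p := Nat.mul_le_mul_left _ h3
      _ = p * Nat.card C := by ring
  set D : Subgroup P := cz P ⊔ Subgroup.zpowers y0 with hD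
  have hNC : cz P ≤ C := by
    intro n hn
    rw [hmemC]
    have := (inf_le_right : cz P ≤ Subgroup.center P) hn
    rw [Subgroup.mem_center_iff] at this
    have h1 : y0 * n = n * y0 := this y0
    rw [h1]
    group
  have hy0C : y0 ∈ C := by
    rw [hmemC]; group
  have hDC : D ≤ C := sup_le hNC (Subgroup.zpowers_le.2 hy0C)
  have hDcomm : D ≤ commutator P := sup_le inf_le_left (Subgroup.zpowers_le.2 hy0c)
  have hDcard : Nat.card D = p ^ 2 := by
    have h1 : Nat.card D ∣ p ^ 2 := by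
      rw [← hc]; exact Subgroup.card_dvd_of_le hDcomm
    have h2 : p ∣ Nat.card D := by
      rw [← hNcard]; exact Subgroup.card_dvd_of_le le_sup_left
    obtain ⟨k, hk2, hk⟩ := (Nat.dvd_prime_pow hp.out).1 h1
    interval_cases k
    · exfalso
      rw [hk, pow_zero] at h2
      exact hp.out.one_lt.ne' (Nat.dvd_one.1 h2)
    · exfalso
      apply hy0N
      have h3 : cz P = D := Subgroup.eq_of_le_of_card_ge le_sup_left (by rw [hk, hNcard, pow_one])
      rw [h3]
      exact (le_sup_right : Subgroup.zpowers y0 ≤ D) (Subgroup.mem_zpowers y0)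
    · exact hk
  have hDZ : D.subgroupOf C ≤ Subgroup.center C := by
    intro d hd
    rw [Subgroup.mem_center_iff]
    intro x
    apply Subtype.ext
    simp only [Subgroup.coe_mul]
    have hdD : (d : P) ∈ D := hd
    have hle : D ≤ Subgroup.centralizer ({(x : P)} : Set P) := by
      apply sup_le
      · intro n hn
        rw [Subgroup.mem_centralizer_singleton_iff]
        have := (inf_le_right : cz P ≤ Subgroup.center P) hn
        rw [Subgroup.mem_center_iff] at this
        exact (this (x : P)).symm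
      · rw [Subgroup.zpowers_le, Subgroup.mem_centralizer_singleton_iff]
        exact hcommC (x : P) x.2
    have := hle hdD
    rw [Subgroup.mem_centralizer_singleton_iff] at this
    exact this.symm
  have hDcard' : Nat.card (D.subgroupOf C) = p ^ 2 := by
    rw [← hDcard]
    exact Nat.card_congr (Subgroup.subgroupOfEquivOfLe hDC).toEquiv
  obtain ⟨n, hexp, hsq⟩ := res_expansion χ C
  set d := charDegree (χ : P → ℂ) with hd
  set c := Nat.card C with hcC
  have hdeg : ∀ ψ : IrrCharacter C, p ^ 2 * (charDegree (ψ : C → ℂ)) ^ 2 ≤ c := by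
    intro ψ
    have := card_central_mul_sq_le ψ (D.subgroupOf C) hDZ
    rwa [hDcard'] at this
  have hdsum : d = ∑ ψ : IrrCharacter C, n ψ * charDegree (ψ : C → ℂ) := by
    have h1 := hexp 1
    rw [Subgroup.coe_one, (irr_one_eq χ).1] at h1
    have h2 : ((d : ℕ) : ℂ) = ((∑ ψ : IrrCharacter C, n ψ * charDegree (ψ : C → ℂ) : ℕ) : ℂ) := by
      rw [h1]
      push_cast
      apply Finset.sum_congr rfl
      intro ψ _
      rw [(irr_one_eq ψ).1]
    exact_mod_cast h2
  set supp := Finset.univ.filter (fun ψ : IrrCharacter C => n ψ ≠ 0) with hsupp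
  have hdsum' : d = ∑ ψ ∈ supp, n ψ * charDegree (ψ : C → ℂ) := by
    rw [hdsum, hsupp, Finset.sum_filter]
    apply Finset.sum_congr rfl
    intro ψ _
    by_cases h : n ψ = 0
    · simp [h]
    · simp [h]
  set S := ∑ ψ : IrrCharacter C, (n ψ) ^ 2 with hS
  set S1 := ∑ ψ ∈ supp, (n ψ) ^ 2 with hS1
  set DD := ∑ ψ ∈ supp, (charDegree (ψ : C → ℂ)) ^ 2 with hDD
  have h1 : d ^ 2 ≤ S1 * DD := by
    rw [hdsum']
    exact Finset.sum_mul_sq_le_sq_mul_sq supp _ _
  have h2 : S1 ≤ S := Finset.sum_le_sum_of_subset_of_nonneg (Finset.filter_subset _ _)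
    (fun _ _ _ => Nat.zero_le _)
  have h3 : p ^ 2 * DD ≤ supp.card * c := by
    rw [hDD, Finset.mul_sum]
    calc ∑ ψ ∈ supp, p ^ 2 * (charDegree (ψ : C → ℂ)) ^ 2 ≤ ∑ ψ ∈ supp, c :=
          Finset.sum_le_sum (fun ψ _ => hdeg ψ)
      _ = supp.card * c := by rw [Finset.sum_const, smul_eq_mul]
  have h4 : supp.card ≤ S1 := by
    rw [hS1, Finset.card_eq_sum_ones]
    apply Finset.sum_le_sum
    intro ψ hψ
    have : n ψ ≠ 0 := (Finset.mem_filter.1 hψ).2
    exact Nat.one_le_iff_ne_zero.2 (pow_ne_zero 2 this)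
  have hcpos : 0 < c := Nat.card_pos
  have h5 : S ≤ p := by
    have : S * c ≤ p * c := hsq.trans hidx
    exact Nat.le_of_mul_le_mul_right this hcpos
  have h6 : p ^ 2 * d ^ 2 ≤ p * Nat.card P := by
    calc p ^ 2 * d ^ 2 ≤ p ^ 2 * (S1 * DD) := Nat.mul_le_mul_left _ h1
      _ = S1 * (p ^ 2 * DD) := by ring
      _ ≤ S * (supp.card * c) := Nat.mul_le_mul h2 h3
      _ ≤ S * (S * c) := Nat.mul_le_mul_left _ (Nat.mul_le_mul_right _ (h4.trans h2))
      _ ≤ p * Nat.card P := Nat.mul_le_mul h5 hsq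
  have h7 : p * (p * d ^ 2) ≤ p * Nat.card P := by
    calc p * (p * d ^ 2) = p ^ 2 * d ^ 2 := by ring
      _ ≤ p * Nat.card P := h6
  exact Nat.le_of_mul_le_mul_left h7 hp.out.pos

end CaseB

/-- the number of irreducible characters of a given nonlinear degree is bounded by the number of
available Galois twists -/
theorem card_degree_le (p : ℕ) [hp : Fact p.Prime] (hP : IsPGroup p P) (h : Hyp P) (e : ℕ)
    (hexp : ∀ g : P, g ^ (p ^ e) = 1) (hdiv : p ∣ Nat.card P) (d : ℕ) (hd : d ≠ 1) :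
    (Finset.univ.filter (fun χ : IrrCharacter P => charDegree (χ : P → ℂ) = d)).card
      ≤ (p ^ e).totient := by
  classical
  rcases (Finset.univ.filter (fun χ : IrrCharacter P => charDegree (χ : P → ℂ) = d)).eq_empty_or_nonempty
    with h0 | ⟨χ0, hχ0⟩
  · rw [h0, Finset.card_empty]
    exact Nat.zero_le _
  have hχ0d : charDegree (χ0 : P → ℂ) = d := (Finset.mem_filter.1 hχ0).2
  have hex : ∀ χ : IrrCharacter P, ∃ k : ℕ, Nat.Coprime k (p ^ e) ∧
      (charDegree (χ : P → ℂ) = d → ∀ g : P, (χ : P → ℂ) g = (χ0 : P → ℂ) (g ^ k)) := by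
    intro χ
    by_cases hχ : charDegree (χ : P → ℂ) = d
    · obtain ⟨k, hk, hkk⟩ := h χ0 χ (by rw [hχ0d]; exact hd) (by rw [hχ0d, hχ])
      refine ⟨k, ?_, fun _ => hkk⟩
      apply Nat.Coprime.pow_right
      exact Nat.Coprime.coprime_dvd_right hdiv hk
    · exact ⟨1, Nat.coprime_one_left _, fun h1 => absurd h1 hχ⟩
  choose k hk1 hk2 using hex
  haveI : NeZero (p ^ e) := ⟨pow_ne_zero e hp.out.ne_zero⟩
  let f : IrrCharacter P → (ZMod (p ^ e))ˣ := fun χ => ZMod.unitOfCoprime (k χ) (hk1 χ)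
  have hinj : Set.InjOn f
      (Finset.univ.filter (fun χ : IrrCharacter P => charDegree (χ : P → ℂ) = d) : Finset _) := by
    intro χ hχ χ' hχ' hff
    have hχd : charDegree (χ : P → ℂ) = d := (Finset.mem_filter.1 hχ).2
    have hχ'd : charDegree (χ' : P → ℂ) = d := (Finset.mem_filter.1 hχ').2
    have h1 : ((k χ : ℕ) : ZMod (p ^ e)) = ((k χ' : ℕ) : ZMod (p ^ e)) := by
      have := congrArg (fun u : (ZMod (p ^ e))ˣ => (u : ZMod (p ^ e))) hff
      simp only [f, ZMod.coe_unitOfCoprime] at this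
      exact this
    rw [ZMod.natCast_eq_natCast_iff] at h1
    apply Subtype.ext
    funext g
    rw [hk2 χ hχd g, hk2 χ' hχ'd g]
    have h3 : g ^ k χ = g ^ k χ' := by
      rw [pow_eq_pow_iff_modEq]
      exact Nat.ModEq.of_dvd (orderOf_dvd_of_pow_eq_one (hexp g)) h1
    rw [h3]
  have h2 := Finset.card_le_card_of_injOn (t := (Finset.univ : Finset (ZMod (p ^ e))ˣ)) f
    (fun _ _ => Finset.mem_coe.2 (Finset.mem_univ _)) hinj
  rw [Finset.card_univ, ZMod.card_units_eq_totient] at h2
  exact h2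

end Cfsg.Agent.Helper80.GalDeg
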