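import Mathlib
import Cfsg.Agent.Lib.Helper80.GalDegF

set_option autoImplicit false
set_option linter.unusedSectionVars false
set_option linter.unusedVariables false
set_option linter.style.haveILetI false
set_option linter.deprecated false

namespace Cfsg.Agent.Helper80.GalDeg

open Cfsg Cfsg.Agent.Helper79

universe u

variable {P : Type u} [Group P] [Finite P]

/-- degree formula for nonlinear characters when the derived subgroup has order `p` -/
theorem sq_mul_card_center (p : ℕ) [hp : Fact p.Prime] (hP : IsPGroup p P)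
    (hc : Nat.card (commutator P) = p) (χ : IrrCharacter P)
    (hχ : charDegree (χ : P → ℂ) ≠ 1) :
    (charDegree (χ : P → ℂ)) ^ 2 * Nat.card (Subgroup.center P) = Nat.card P := by
  have hcen : commutator P ≤ Subgroup.center P := le_center_of_card_prime p hP _ hc
  have hker : ∀ c ∈ commutator P, c ∈ irrKer χ → c ∈ (⊥ : Subgroup P) := by
    intro c hc1 hc2
    by_contra hcb
    rw [Subgroup.mem_bot] at hcb
    apply hχ
    rw [degree_one_iff]
    have h1 : Nat.card (irrKer χ ⊓ commutator P : Subgroup P) ∣ p := by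
      rw [← hc]
      exact Subgroup.card_dvd_of_le inf_le_right
    rcases (Nat.dvd_prime hp.out).1 h1 with h2 | h2
    · exfalso
      have h3 := Subgroup.card_eq_one.1 h2
      have h4 : c ∈ irrKer χ ⊓ commutator P := ⟨hc2, hc1⟩
      rw [h3, Subgroup.mem_bot] at h4
      exact hcb h4
    · have h3 : irrKer χ ⊓ commutator P = commutator P :=
        Subgroup.eq_of_le_of_card_ge inf_le_right (by rw [h2, hc])
      rw [← h3]
      exact inf_le_left
  have := sq_mul_card_relZ χ hcen ⊥ bot_le hker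
  rwa [relZ_bot_eq] at this

theorem geo_bound (p : ℕ) (hp : 2 ≤ p) (m : ℕ) :
    p ^ 2 * ∑ j ∈ Finset.Ico 1 m, (p ^ j) ^ 2 < p ^ (2 * m + 1) := by
  induction m with
  | zero =>
    simp
    omega
  | succ m ih =>
    rcases Nat.eq_zero_or_pos m with h0 | h0
    · subst h0
      simp
      positivity
    · rw [Finset.sum_Ico_succ_top h0, mul_add]
      have h1 : p ^ 2 * (p ^ m) ^ 2 = p ^ (2 * m + 2) := by ring
      have h2 : p ^ (2 * (m + 1) + 1) = p ^ (2 * m + 1) * p ^ 2 := by ring
      have h3 : p ^ (2 * m + 2) = p ^ (2 * m + 1) * p := by ring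
      rw [h1, h2]
      have h4 : 0 < p ^ (2 * m + 1) := by positivity
      have h5 : 1 + p ≤ p ^ 2 := by nlinarith
      calc p ^ 2 * ∑ j ∈ Finset.Ico 1 m, (p ^ j) ^ 2 + p ^ (2 * m + 2)
          < p ^ (2 * m + 1) + p ^ (2 * m + 2) := by omega
        _ = p ^ (2 * m + 1) * (1 + p) := by rw [h3]; ring
        _ ≤ p ^ (2 * m + 1) * p ^ 2 := Nat.mul_le_mul_left _ h5

theorem caseB (p : ℕ) [hp : Fact p.Prime] (hP : IsPGroup p P) (h : Hyp P)
    (hc : Nat.card (commutator P) = p ^ 2) (hncen : ¬ commutator P ≤ Subgroup.center P) :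
    False := by
  classical
  have hNcard := card_cz p hP hc hncen
  have hNlt := cz_lt p hP hc hncen
  obtain ⟨n, hn⟩ := IsPGroup.iff_card.mp hP
  have h2le := hp.out.two_le
  obtain ⟨χ', hχ'N, hχ'deg⟩ := exists_nonlinear_over (cz P) hNlt
  obtain ⟨ψ', hψ'⟩ := exists_deflate (cz P) χ' hχ'N
  have hψ'deg : charDegree (ψ' : P ⧸ cz P → ℂ) = charDegree (χ' : P → ℂ) := by
    rw [← hψ', charDegree_inflate]
  have hform := sq_mul_card_center p (hP.to_quotient (cz P)) (card_commutator_quot p hP hc hncen)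
    ψ' (by rw [hψ'deg]; exact hχ'deg)
  rw [card_center_quot p hP h hc hncen, hψ'deg] at hform
  have hPQ := Subgroup.card_eq_card_quotient_mul_card_subgroup (cz P)
  rw [hNcard, ← hform, hn] at hPQ
  obtain ⟨m, -, hm⟩ := (Nat.dvd_prime_pow hp.out).1 (hn ▸ irr_degree_dvd_card χ')
  rw [hm] at hPQ
  have hnm : n = 2 * m + 2 := by
    have h1 : p ^ n = p ^ (2 * m + 2) := by rw [hPQ]; ring
    exact Nat.pow_right_injective h2le h1
  -- the characters not containing N in the kernel
  set S := Finset.univ.filter (fun χ : IrrCharacter P => ¬ cz P ≤ irrKer χ) with hS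
  have hsum := sum_sq_degree_of_not_le_ker (cz P)
  have hidx : (cz P).index = p ^ (2 * m + 1) := by
    have h1 := Subgroup.card_mul_index (cz P)
    rw [hNcard, hn, hnm] at h1
    have h2 : p * (cz P).index = p * p ^ (2 * m + 1) := by rw [h1]; ring
    exact Nat.eq_of_mul_eq_mul_left hp.out.pos h2
  rw [hidx, hn, hnm] at hsum
  have hdegS : ∀ χ ∈ S, ∃ j ∈ Finset.Ico 1 m, charDegree (χ : P → ℂ) = p ^ j := by
    intro χ hχ
    have hχN : ¬ cz P ≤ irrKer χ := (Finset.mem_filter.1 hχ).2
    obtain ⟨j, -, hj⟩ := (Nat.dvd_prime_pow hp.out).1 (hn ▸ irr_degree_dvd_card χ)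
    refine ⟨j, ?_, hj⟩
    rw [Finset.mem_Ico]
    have hb := degree_bound p hP hc hncen χ
    rw [hj, hn, hnm, ← pow_mul, ← pow_succ'] at hb
    have hb' : j * 2 + 1 ≤ 2 * m + 2 := (Nat.pow_le_pow_iff_right h2le).1 hb
    have hj0 : j ≠ 0 := by
      intro h0
      apply hχN
      rw [h0, pow_zero] at hj
      exact (inf_le_left : cz P ≤ commutator P).trans ((degree_one_iff χ).1 hj)
    have hjm : j ≠ m := by
      intro h0
      apply hχN
      have hdeg : charDegree (χ' : P → ℂ) = charDegree (χ : P → ℂ) := by rw [hm, hj, h0]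
      rw [h.same_ker χ' χ hχ'deg hdeg]
      exact hχ'N
    omega
  have hexp3 : ∀ g : P, g ^ (p ^ 3) = 1 := pow_cube_eq_one p hP h hc hncen
  have hdivP : p ∣ Nat.card P := by
    rw [hn, hnm]
    exact dvd_pow_self p (by omega)
  have htot : (p ^ 3).totient = p ^ 2 * (p - 1) := Nat.totient_prime_pow hp.out (by norm_num)
  have hcount : ∀ d : ℕ, d ≠ 1 →
      (S.filter (fun χ : IrrCharacter P => charDegree (χ : P → ℂ) = d)).card ≤ p ^ 2 * (p - 1) := by
    intro d hd
    rw [← htot]
    refine le_trans (Finset.card_le_card ?_) (card_degree_le p hP h 3 hexp3 hdivP d hd)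
    intro χ hχ
    rw [Finset.mem_filter] at hχ ⊢
    exact ⟨Finset.mem_univ _, hχ.2⟩
  have h1 : ∑ χ ∈ S, (charDegree (χ : P → ℂ)) ^ 2
      = ∑ d ∈ S.image (fun χ : IrrCharacter P => charDegree (χ : P → ℂ)),
          (S.filter (fun χ : IrrCharacter P => charDegree (χ : P → ℂ) = d)).card • d ^ 2 :=
    Finset.sum_comp (fun d => d ^ 2) (fun χ : IrrCharacter P => charDegree (χ : P → ℂ))
  have hsub : S.image (fun χ : IrrCharacter P => charDegree (χ : P → ℂ)) ⊆ (Finset.Ico 1 m).image (fun j => p ^ j) := by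
    intro d hd
    obtain ⟨χ, hχ, rfl⟩ := Finset.mem_image.1 hd
    obtain ⟨j, hj, hjd⟩ := hdegS χ hχ
    exact Finset.mem_image.2 ⟨j, hj, hjd.symm⟩
  have h2 : ∑ d ∈ S.image (fun χ : IrrCharacter P => charDegree (χ : P → ℂ)),
        (S.filter (fun χ : IrrCharacter P => charDegree (χ : P → ℂ) = d)).card • d ^ 2
      ≤ ∑ d ∈ S.image (fun χ : IrrCharacter P => charDegree (χ : P → ℂ)), (p ^ 2 * (p - 1)) * d ^ 2 := by
    apply Finset.sum_le_sum
    intro d hd
    rw [smul_eq_mul]
    apply Nat.mul_le_mul_right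
    apply hcount
    obtain ⟨χ, hχ, rfl⟩ := Finset.mem_image.1 hd
    obtain ⟨j, hj, hjd⟩ := hdegS χ hχ
    rw [hjd]
    rw [Finset.mem_Ico] at hj
    intro h0
    have : p ^ j = p ^ 0 := by rw [h0, pow_zero]
    have := Nat.pow_right_injective h2le this
    omega
  have h3 : ∑ d ∈ S.image (fun χ : IrrCharacter P => charDegree (χ : P → ℂ)), (p ^ 2 * (p - 1)) * d ^ 2
      ≤ ∑ d ∈ (Finset.Ico 1 m).image (fun j => p ^ j), (p ^ 2 * (p - 1)) * d ^ 2 :=
    Finset.sum_le_sum_of_subset hsub
  have h4 : ∑ d ∈ (Finset.Ico 1 m).image (fun j => p ^ j), (p ^ 2 * (p - 1)) * d ^ 2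
      = ∑ j ∈ Finset.Ico 1 m, (p ^ 2 * (p - 1)) * (p ^ j) ^ 2 := by
    apply Finset.sum_image
    intro a _ b _ hab
    exact Nat.pow_right_injective h2le hab
  have h5 := geo_bound p h2le m
  have h6 : p ^ (2 * m + 2) - p ^ (2 * m + 1) ≤ (p ^ 2 * (p - 1)) * ∑ j ∈ Finset.Ico 1 m, (p ^ j) ^ 2 := by
    rw [← hsum, Finset.mul_sum, ← h4]
    exact (le_of_eq h1).trans (h2.trans h3)
  have h7 : (p ^ 2 * (p - 1)) * ∑ j ∈ Finset.Ico 1 m, (p ^ j) ^ 2 < (p - 1) * p ^ (2 * m + 1) := by
    have hp1 : 0 < p - 1 := by omega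
    calc (p ^ 2 * (p - 1)) * ∑ j ∈ Finset.Ico 1 m, (p ^ j) ^ 2
        = (p - 1) * (p ^ 2 * ∑ j ∈ Finset.Ico 1 m, (p ^ j) ^ 2) := by ring
      _ < (p - 1) * p ^ (2 * m + 1) := Nat.mul_lt_mul_of_pos_left h5 hp1
  have h8 : (p - 1) * p ^ (2 * m + 1) = p ^ (2 * m + 2) - p ^ (2 * m + 1) := by
    rw [Nat.sub_mul, one_mul]
    congr 1
    ring
  omega

theorem card_commutator_le (p : ℕ) [hp : Fact p.Prime] :
    ∀ (n : ℕ) (P : Type u) [Group P] [Finite P], Nat.card P = n → IsPGroup p P → Hyp P →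
      Nat.card (commutator P) ≤ p := by
  intro n
  induction n using Nat.strong_induction_on with
  | _ n ih =>
    intro P _ _ hn hP h
    obtain ⟨e, he⟩ := IsPGroup.iff_card.mp (hP.to_subgroup (commutator P))
    have h2le := hp.out.two_le
    rcases Nat.lt_or_ge e 2 with h1 | h1
    · rw [he]
      calc p ^ e ≤ p ^ 1 := Nat.pow_le_pow_right hp.out.pos (by omega)
        _ = p := pow_one p
    rcases Nat.eq_or_lt_of_le h1 with h2 | h2
    · exfalso
      rw [← h2] at he
      by_cases hcen : commutator P ≤ Subgroup.center P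
      · exact caseA p hP h he hcen
      · exact caseB p hP h he hcen
    · exfalso
      haveI : Group.IsNilpotent P := hP.isNilpotent
      have hc1 : commutator P ≠ ⊥ := by
        intro h0
        rw [h0, Subgroup.card_bot] at he
        have : 1 < p ^ e := Nat.one_lt_pow (by omega) hp.out.one_lt
        omega
      have h3 := Cfsg.Agent.S0015.normal_inf_center_ne_bot (commutator P) hc1
      obtain ⟨k, hk⟩ := IsPGroup.iff_card.mp (hP.to_subgroup (cz P))
      have hk0 : k ≠ 0 := by
        intro h0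
        rw [h0, pow_zero] at hk
        exact h3 (Subgroup.card_eq_one.1 hk)
      have hdiv : p ∣ Nat.card (cz P) := by rw [hk]; exact dvd_pow_self p hk0
      obtain ⟨M, hM1, hM2⟩ := exists_subgroup_card_prime p (cz P) hdiv
      haveI hMn : M.Normal := normal_of_le_center M (hM1.trans inf_le_right)
      have hMc : M ≤ commutator P := hM1.trans inf_le_left
      have h4 := card_commutator_quotient M hMc
      rw [hM2, he] at h4
      have h5 := Subgroup.card_eq_card_quotient_mul_card_subgroup M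
      rw [hM2, hn] at h5
      have h6 : Nat.card (P ⧸ M) < n := by
        have : 0 < Nat.card (P ⧸ M) := Nat.card_pos
        have := hp.out.one_lt
        nlinarith
      have h7 := ih (Nat.card (P ⧸ M)) h6 (P ⧸ M) rfl (hP.to_quotient M) (h.quotient M)
      have h8 : p ^ e = p ^ (e - 1) * p := by
        rw [← pow_succ]; congr 1; omega
      rw [h8] at h4
      have h9 : Nat.card (commutator (P ⧸ M)) = p ^ (e - 1) :=
        Nat.eq_of_mul_eq_mul_right hp.out.pos h4
      rw [h9] at h7
      have h10 : p ^ 2 ≤ p ^ (e - 1) := Nat.pow_le_pow_right hp.out.pos (by omega)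
      have := hp.out.one_lt
      nlinarith

theorem forward (p : ℕ) [hp : Fact p.Prime] (hP : IsPGroup p P) (hna : ¬ IsMulCommutative P)
    (h : Hyp P) : IsCyclic (Subgroup.center P) ∧ Nat.card (commutator P) = p := by
  have h1 := card_commutator_le p (Nat.card P) P rfl hP h
  have h2 : Nat.card (commutator P) = p := by
    have h3 : Nat.card (commutator P) ∣ p ^ 1 := by
      obtain ⟨e, he⟩ := IsPGroup.iff_card.mp (hP.to_subgroup (commutator P))
      rw [he] at h1 ⊢
      apply pow_dvd_pow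
      by_contra hcon
      have : p ^ 2 ≤ p ^ e := Nat.pow_le_pow_right hp.out.pos (by omega)
      have := hp.out.one_lt
      nlinarith
    rw [pow_one] at h3
    rcases (Nat.dvd_prime hp.out).1 h3 with h4 | h4
    · exfalso
      apply hna
      have h5 : commutator P = ⊥ := Subgroup.card_eq_one.1 h4
      refine ⟨⟨fun a b => ?_⟩⟩
      have h6 : a * b * a⁻¹ * b⁻¹ ∈ commutator P := by
        rw [commutator_def, ← commutatorElement_def]
        exact Subgroup.commutator_mem_commutator (Subgroup.mem_top a) (Subgroup.mem_top b)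
      rw [h5, Subgroup.mem_bot] at h6
      show a * b = b * a
      rw [mul_inv_eq_one, mul_inv_eq_iff_eq_mul] at h6
      exact h6
    · exact h4
  exact ⟨isCyclic_center_of_card_commutator p hP h2 h, h2⟩

end Cfsg.Agent.Helper80.GalDeg
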