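import Mathlib
import Cfsg.Agent.Lib.Helper80.GalDegG

set_option autoImplicit false
set_option linter.unusedSectionVars false
set_option linter.unusedVariables false
set_option linter.style.haveILetI false
set_option linter.deprecated false

namespace Cfsg.Agent.Helper80.GalDeg

open Cfsg Cfsg.Agent.Helper79

universe u

variable {P : Type u} [Group P] [Finite P]

theorem not_mem_irrKer_of_commutator (p : ℕ) [hp : Fact p.Prime]
    (hc : Nat.card (commutator P) = p) (θ : IrrCharacter P)
    (hθ : charDegree (θ : P → ℂ) ≠ 1) (c : P) (hc1 : c ∈ commutator P) (hc2 : c ≠ 1) :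
    c ∉ irrKer θ := by
  intro hck
  apply hθ
  rw [degree_one_iff]
  have h1 : Nat.card (irrKer θ ⊓ commutator P : Subgroup P) ∣ p := by
    rw [← hc]
    exact Subgroup.card_dvd_of_le inf_le_right
  rcases (Nat.dvd_prime hp.out).1 h1 with h2 | h2
  · exfalso
    have h3 := Subgroup.card_eq_one.1 h2
    have h4 : c ∈ irrKer θ ⊓ commutator P := ⟨hck, hc1⟩
    rw [h3, Subgroup.mem_bot] at h4
    exact hc2 h4
  · have h3 : irrKer θ ⊓ commutator P = commutator P :=
      Subgroup.eq_of_le_of_card_ge inf_le_right (by rw [h2, hc])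
    rw [← h3]
    exact inf_le_left

theorem irr_eq_zero_off_center (p : ℕ) [hp : Fact p.Prime] (hP : IsPGroup p P)
    (hc : Nat.card (commutator P) = p) (θ : IrrCharacter P)
    (hθ : charDegree (θ : P → ℂ) ≠ 1) (g : P) (hg : g ∉ Subgroup.center P) :
    (θ : P → ℂ) g = 0 := by
  have hcen : commutator P ≤ Subgroup.center P := le_center_of_card_prime p hP _ hc
  rw [Subgroup.mem_center_iff] at hg
  push Not at hg
  obtain ⟨x, hx⟩ := hg
  set c := g * x * g⁻¹ * x⁻¹ with hcdef
  have hcc : c ∈ commutator P := by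
    rw [commutator_def, hcdef, ← commutatorElement_def]
    exact Subgroup.commutator_mem_commutator (Subgroup.mem_top g) (Subgroup.mem_top x)
  have hc1 : c ≠ 1 := by
    intro h1
    apply hx
    rw [hcdef, mul_inv_eq_one, mul_inv_eq_iff_eq_mul] at h1
    exact h1.symm
  have hck := not_mem_irrKer_of_commutator p hc θ hθ c hcc hc1
  have hcz' : c⁻¹ ∈ Subgroup.center P := Subgroup.inv_mem _ (hcen hcc)
  have hck' : c⁻¹ ∉ irrKer θ := fun h => hck (by simpa using Subgroup.inv_mem _ h)
  have h3 : (x⁻¹)⁻¹ * g * x⁻¹ = c⁻¹ * g := by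
    rw [hcdef]; group
  exact irr_eq_zero_of_comm θ g x⁻¹ c⁻¹ hcz' h3 hck'

theorem irr_pow_central (θ : IrrCharacter P) (z : P) (hz : z ∈ Subgroup.center P) (i : ℕ) (g : P) :
    (θ : P → ℂ) (z ^ i * g) = ((θ : P → ℂ) z / (θ : P → ℂ) 1) ^ i * (θ : P → ℂ) g := by
  have h1 : (θ : P → ℂ) 1 ≠ 0 := irr_one_ne_zero θ
  induction i with
  | zero => simp
  | succ i ih =>
    have h2 := irr_central_mul θ z hz (z ^ i * g)
    have h3 : z ^ (i + 1) * g = z * (z ^ i * g) := by rw [pow_succ']; group
    have h4 : (θ : P → ℂ) (z * (z ^ i * g))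
        = (θ : P → ℂ) z / (θ : P → ℂ) 1 * (θ : P → ℂ) (z ^ i * g) := by
      field_simp
      linear_combination h2
    rw [h3, h4, ih, pow_succ]
    ring

/-- in a cyclic centre, elements of order dividing `p` lie in the derived subgroup of order `p` -/
theorem mem_commutator_of_pow_eq_one (p : ℕ) [hp : Fact p.Prime]
    (hcyc : IsCyclic (Subgroup.center P)) (hc : Nat.card (commutator P) = p)
    (hcen : commutator P ≤ Subgroup.center P) (w : P) (hw : w ∈ Subgroup.center P)
    (hwp : w ^ p = 1) : w ∈ commutator P := by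
  classical
  haveI := Fintype.ofFinite (Subgroup.center P)
  set A : Finset (Subgroup.center P) := Finset.univ.filter (fun a => a ^ p = 1) with hA
  set B : Finset (Subgroup.center P) :=
    Finset.univ.filter (fun a => (a : P) ∈ commutator P) with hB
  have hBA : B ⊆ A := by
    intro a ha
    rw [hB, Finset.mem_filter] at ha
    rw [hA, Finset.mem_filter]
    refine ⟨Finset.mem_univ _, ?_⟩
    have h3 : (⟨(a : P), ha.2⟩ : commutator P) ^ Nat.card (commutator P) = 1 := pow_card_eq_one'
    rw [hc] at h3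
    have h4 := congrArg Subtype.val h3
    apply Subtype.ext
    simpa using h4
  have hBcard : B.card = p := by
    rw [← hc, hB]
    have h1 : Nat.card ((commutator P).subgroupOf (Subgroup.center P)) = Nat.card (commutator P) :=
      Nat.card_congr (Subgroup.subgroupOfEquivOfLe hcen).toEquiv
    rw [← h1, Nat.card_eq_fintype_card, Fintype.card_subtype]
    rfl
  have hAcard : A.card ≤ p := IsCyclic.card_pow_eq_one_le hp.out.pos
  have hAB : B = A := Finset.eq_of_subset_of_card_le hBA (by rw [hBcard]; exact hAcard)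
  have hwA : (⟨w, hw⟩ : Subgroup.center P) ∈ A := by
    rw [hA, Finset.mem_filter]
    refine ⟨Finset.mem_univ _, ?_⟩
    apply Subtype.ext
    simpa using hwp
  rw [← hAB, hB, Finset.mem_filter] at hwA
  exact hwA.2

end Cfsg.Agent.Helper80.GalDeg
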