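import Mathlib
import Cfsg.Agent.Lib.Helper80.GalDegH

set_option autoImplicit false
set_option linter.unusedSectionVars false
set_option linter.unusedVariables false
set_option linter.style.haveILetI false
set_option linter.deprecated false

namespace Cfsg.Agent.Helper80.GalDeg

open Cfsg Cfsg.Agent.Helper79

universe u

variable {P : Type u} [Group P] [Finite P]

theorem backward (p : ℕ) [hp : Fact p.Prime] (hP : IsPGroup p P)
    (hcyc : IsCyclic (Subgroup.center P)) (hc : Nat.card (commutator P) = p) : Hyp P := by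
  classical
  intro χ ψ hχ hdeg
  have hψ : charDegree (ψ : P → ℂ) ≠ 1 := by rw [← hdeg]; exact hχ
  have hcen : commutator P ≤ Subgroup.center P := le_center_of_card_prime p hP _ hc
  obtain ⟨n, hn⟩ := IsPGroup.iff_card.mp hP
  obtain ⟨zb, hzb⟩ := IsCyclic.exists_monoid_generator (α := Subgroup.center P)
  obtain ⟨z0, hz0⟩ : ∃ z0 : P, z0 = (zb : P) := ⟨_, rfl⟩
  have hz0c : z0 ∈ Subgroup.center P := by rw [hz0]; exact zb.2
  have hgen : ∀ z ∈ Subgroup.center P, ∃ i : ℕ, z0 ^ i = z := by
    intro z hz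
    obtain ⟨i, hi⟩ := (Submonoid.mem_powers_iff _ _).1 (hzb ⟨z, hz⟩)
    refine ⟨i, ?_⟩
    have := congrArg Subtype.val hi
    rw [hz0]
    simpa using this
  obtain ⟨o, ho⟩ : ∃ o : ℕ, o = orderOf z0 := ⟨_, rfl⟩
  have hopos : 0 < o := by rw [ho]; exact orderOf_pos z0
  have hocard : o = Nat.card (Subgroup.center P) := by
    rw [ho, hz0, Subgroup.orderOf_coe]
    apply orderOf_eq_card_of_forall_mem_zpowers
    intro x
    obtain ⟨i, hi⟩ := (Submonoid.mem_powers_iff _ _).1 (hzb x)
    exact ⟨(i : ℤ), by simp only [zpow_natCast]; exact hi⟩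
  have hpo : p ∣ o := by
    rw [hocard, ← hc]
    exact Subgroup.card_dvd_of_le hcen
  have hprim : ∀ θ : IrrCharacter P, charDegree (θ : P → ℂ) ≠ 1 →
      IsPrimitiveRoot ((θ : P → ℂ) z0 / (θ : P → ℂ) 1) o := by
    intro θ hθ
    have h1 : (θ : P → ℂ) 1 ≠ 0 := irr_one_ne_zero θ
    rw [IsPrimitiveRoot.iff_def]
    constructor
    · have h2 := irr_pow_central θ z0 hz0c o 1
      rw [mul_one, ho, pow_orderOf_eq_one, ← ho] at h2
      have h3 : (((θ : P → ℂ) z0 / (θ : P → ℂ) 1) ^ o - 1) * (θ : P → ℂ) 1 = 0 := by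
        linear_combination -h2
      rcases mul_eq_zero.1 h3 with h4 | h4
      · exact sub_eq_zero.1 h4
      · exact absurd h4 h1
    · intro k hk
      have h2 := irr_pow_central θ z0 hz0c k 1
      rw [mul_one, hk, one_mul] at h2
      have hker : z0 ^ k ∈ irrKer θ := h2
      rw [ho]
      apply orderOf_dvd_of_pow_eq_one
      by_contra hne
      have hHle : Subgroup.zpowers (z0 ^ k) ≤ irrKer θ := Subgroup.zpowers_le.2 hker
      have hHcen : Subgroup.zpowers (z0 ^ k) ≤ Subgroup.center P :=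
        Subgroup.zpowers_le.2 (Subgroup.pow_mem _ hz0c k)
      obtain ⟨e, he⟩ := IsPGroup.iff_card.mp (hP.to_subgroup (Subgroup.zpowers (z0 ^ k)))
      have he0 : e ≠ 0 := by
        intro h0
        rw [h0, pow_zero] at he
        have h5 := Subgroup.card_eq_one.1 he
        apply hne
        have hm : z0 ^ k ∈ Subgroup.zpowers (z0 ^ k) := Subgroup.mem_zpowers _
        rw [h5, Subgroup.mem_bot] at hm
        exact hm
      have hdiv : p ∣ Nat.card (Subgroup.zpowers (z0 ^ k)) := by
        rw [he]; exact dvd_pow_self p he0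
      obtain ⟨x, hx⟩ := exists_prime_orderOf_dvd_card' p hdiv
      have hxo : orderOf (x : P) = p := by rw [Subgroup.orderOf_coe, hx]
      have hx1 : (x : P) ≠ 1 := by
        intro h5
        rw [h5, orderOf_one] at hxo
        exact hp.out.one_lt.ne hxo
      have hxp : (x : P) ^ p = 1 := by
        rw [← hxo]; exact pow_orderOf_eq_one _
      have hxc := mem_commutator_of_pow_eq_one p hcyc hc hcen x (hHcen x.2) hxp
      exact not_mem_irrKer_of_commutator p hc θ hθ x hxc hx1 (hHle x.2)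
  haveI : NeZero o := ⟨hopos.ne'⟩
  obtain ⟨i, hi, hil⟩ := (hprim χ hχ).eq_pow_of_pow_eq_one ((hprim ψ hψ).pow_eq_one)
  have hicop : Nat.Coprime i o :=
    ((hprim χ hχ).pow_iff_coprime hopos i).1 (by rw [hil]; exact hprim ψ hψ)
  have hicop' : Nat.Coprime i (Nat.card P) := by
    rw [hn]
    apply Nat.Coprime.pow_right
    exact Nat.Coprime.coprime_dvd_right hpo hicop
  refine ⟨i, hicop', ?_⟩
  intro g
  have hone : (ψ : P → ℂ) 1 = (χ : P → ℂ) 1 := by
    rw [(irr_one_eq ψ).1, (irr_one_eq χ).1, hdeg]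
  by_cases hg : g ∈ Subgroup.center P
  · obtain ⟨j, rfl⟩ := hgen g hg
    have h1 := irr_pow_central ψ z0 hz0c j 1
    have h2 := irr_pow_central χ z0 hz0c (j * i) 1
    rw [mul_one] at h1 h2
    rw [← pow_mul, h1, h2, ← hil, hone, ← pow_mul, mul_comm i j]
  · rw [irr_eq_zero_off_center p hP hc ψ hψ g hg]
    symm
    apply irr_eq_zero_off_center p hP hc χ hχ
    intro hgi
    apply hg
    have hcop : Nat.Coprime i (orderOf g) := hicop'.coprime_dvd_right (orderOf_dvd_natCard g)
    obtain ⟨m, hm⟩ := exists_pow_eq_self_of_coprime hcop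
    rw [← hm]
    exact Subgroup.pow_mem _ hgi m

/-- the full equivalence -/
theorem main (p : ℕ) [hp : Fact p.Prime] (hP : IsPGroup p P) (hna : ¬ IsMulCommutative P) :
    Hyp P ↔ (IsCyclic (Subgroup.center P) ∧ Nat.card (commutator P) = p) :=
  ⟨fun h => forward p hP hna h, fun h => backward p hP h.1 h.2⟩

end Cfsg.Agent.Helper80.GalDeg
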