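import Mathlib
import Cfsg.Agent.Lib.Helper80.Gallagher
import Cfsg.Agent.Lib.Helper80.FSInduced

/-!
# Counting linear characters in a subgroup of the character group (helper80)

`card_subgroup_le` generalizes `card_linear_le` to a subgroup `R` of the group of linear
characters and a property `P` of irreducible characters that holds on the `R`-orbit of
`Ind_I^G ψ`.
-/

set_option autoImplicit false

namespace Cfsg.Agent.Helper80

open scoped ComplexConjugate
open Cfsg

universe u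

section Main

variable {G : Type u} [Group G] [Fintype G]

theorem card_subgroup_le (N : Subgroup G) (hN : N.Normal)
    (hmin : ∀ M : Subgroup G, M.Normal → M ≤ N → M = ⊥ ∨ M = N) (hna : ¬ IsMulCommutative ↥N)
    (φ : IrrCharacter ↥N) (I : Subgroup G)
    (hI : ∀ g : G, g ∈ I ↔ ∀ n n' : ↥N, (n' : G) = g * (n : G) * g⁻¹ →
      (φ : ↥N → ℂ) n' = (φ : ↥N → ℂ) n)
    (hNI : N ≤ I) (ψ : IrrCharacter ↥I)
    (hψ : ∀ n : ↥N, (ψ : ↥I → ℂ) (Subgroup.inclusion hNI n) = (φ : ↥N → ℂ) n)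
    (R : Subgroup (G →* ℂˣ)) (P : IrrCharacter G → Prop)
    (hP : ∀ χ₀ : IrrCharacter G, (χ₀ : G → ℂ) = indFun I (ψ : ↥I → ℂ) → ∀ μ ∈ R, P (μ • χ₀)) :
    Nat.card ↥R ≤ I.index * Nat.card {χ : IrrCharacter G //
        charDegree (χ : G → ℂ) = charDegree (φ : ↥N → ℂ) * I.index ∧ P χ} := by
  classical
  have hfinG : Finite G := Finite.of_fintype G
  have : Fintype ↥N := Fintype.ofFinite _
  have : Fintype ↥I := Fintype.ofFinite _
  have hT : ∀ g : G, g ∈ I ↔ Helper81.conjFun N hN (φ : ↥N → ℂ) g = (φ : ↥N → ℂ) := by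
    intro g
    rw [hI g]
    constructor
    · intro h
      funext n
      rw [Helper81.conjFun_apply]
      exact h n _ rfl
    · intro h n n' hn'
      have h1 := congrFun h n
      rw [Helper81.conjFun_apply] at h1
      rw [← h1]
      apply congrArg
      exact Subtype.ext hn'
  have hres : Helper81.resTo hNI (ψ : ↥I → ℂ) = (φ : ↥N → ℂ) := by
    funext n
    exact hψ n
  have hφφ : classInner (φ : ↥N → ℂ) (φ : ↥N → ℂ) ≠ 0 := by
    rw [Helper81.irr_orthonormal φ.2 φ.2, if_pos rfl]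
    exact one_ne_zero
  have hne : classInner (Helper81.resTo hNI (ψ : ↥I → ℂ)) (φ : ↥N → ℂ) ≠ 0 := by
    rw [hres]; exact hφφ
  obtain ⟨hirr0, -⟩ := Helper81.clifford_corr_irr N I hN hNI φ.2 hT ψ.2 hne
  set χ₀ : IrrCharacter G := ⟨indFun I (ψ : ↥I → ℂ), hirr0⟩ with hχ₀
  -- the stabilizer of `χ₀` consists of characters trivial on `I`
  have hstab : ∀ μ : G →* ℂˣ, μ • χ₀ = χ₀ → ∀ i ∈ I, μ i = 1 := by
    intro μ hμ
    set ν : ↥I →* ℂˣ := μ.comp I.subtype with hν
    have hμN : ∀ n ∈ N, μ n = 1 := hom_trivial_on_minimal_normal N hN hmin hna μ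
    have hind : indFun I ((ν • ψ : IrrCharacter ↥I) : ↥I → ℂ) = indFun I (ψ : ↥I → ℂ) := by
      have h1 : ((μ • χ₀ : IrrCharacter G) : G → ℂ) = (χ₀ : G → ℂ) := by rw [hμ]
      funext g
      have h2 := congrFun h1 g
      rw [Helper74.Lin.smul_apply] at h2
      have h3 := indFun_twist I (ψ : ↥I → ℂ) μ g
      have h4 : (χ₀ : G → ℂ) g = indFun I (ψ : ↥I → ℂ) g := rfl
      rw [h4] at h2
      rw [h2] at h3
      exact h3
    have hres' : Helper81.resTo hNI ((ν • ψ : IrrCharacter ↥I) : ↥I → ℂ) = (φ : ↥N → ℂ) := by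
      funext n
      change ((ν ⟨(n : G), hNI n.2⟩ : ℂˣ) : ℂ) * (ψ : ↥I → ℂ) ⟨(n : G), hNI n.2⟩ = _
      have : ν ⟨(n : G), hNI n.2⟩ = 1 := hμN n n.2
      rw [this]
      simp only [Units.val_one, one_mul]
      exact hψ n
    have hne' : classInner (Helper81.resTo hNI ((ν • ψ : IrrCharacter ↥I) : ↥I → ℂ))
        (φ : ↥N → ℂ) ≠ 0 := by
      rw [hres']; exact hφφ
    have heq := Helper81.clifford_corr_inj N I hN hNI φ.2 hT (ν • ψ : IrrCharacter ↥I).2 ψ.2
      hne' hne hind
    have hν1 : ν = 1 := by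
      apply hom_eq_one_of_mul_eq (Subgroup.inclusion hNI) ψ
      · have : (fun n : ↥N => (ψ : ↥I → ℂ) (Subgroup.inclusion hNI n)) = (φ : ↥N → ℂ) :=
          funext hψ
        rw [this]
        exact φ.2
      · intro n
        exact hμN n n.2
      · intro y
        have := congrFun heq y
        rw [Helper74.Lin.smul_apply] at this
        exact this
    intro i hi
    have := DFunLike.congr_fun hν1 ⟨i, hi⟩
    simpa [hν] using this
  -- the degree of `χ₀`
  have hdeg0 : charDegree (χ₀ : G → ℂ) = charDegree (φ : ↥N → ℂ) * I.index := by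
    have h1 : (χ₀ : G → ℂ) 1 = ((charDegree (φ : ↥N → ℂ) * I.index : ℕ) : ℂ) := by
      change indFun I (ψ : ↥I → ℂ) 1 = _
      rw [Helper81.indFun_apply]
      have hx : ∀ x : G, extendByZero I (ψ : ↥I → ℂ) (x⁻¹ * 1 * x) = (ψ : ↥I → ℂ) 1 := by
        intro x
        have hx : x⁻¹ * 1 * x ∈ I := by simp
        rw [Helper81.extendByZero_apply_mem I _ hx]
        apply congrArg
        apply Subtype.ext
        simp
      simp only [hx, Finset.sum_const, Finset.card_univ, nsmul_eq_mul]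
      have hψ1 : (ψ : ↥I → ℂ) 1 = (charDegree (φ : ↥N → ℂ) : ℂ) := by
        have := hψ 1
        rw [map_one] at this
        rw [this, irr_one]
      rw [hψ1]
      have hcard : Nat.card G = Nat.card ↥I * I.index := (Subgroup.card_mul_index I).symm
      have hI0 : (Nat.card ↥I : ℂ) ≠ 0 := by exact_mod_cast Nat.card_pos.ne'
      rw [← Nat.card_eq_fintype_card, hcard]
      push_cast
      field_simp
    have h2 : charDegree (χ₀ : G → ℂ) = ⌊((χ₀ : G → ℂ) 1).re⌋₊ := rfl
    rw [h2, h1, Complex.natCast_re, Nat.floor_natCast]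
  have hdeg : ∀ μ : G →* ℂˣ, charDegree ((μ • χ₀ : IrrCharacter G) : G → ℂ) =
      charDegree (χ₀ : G → ℂ) := by
    intro μ
    unfold charDegree
    rw [Helper74.Lin.smul_apply, map_one]
    simp
  -- counting
  have hidx : (MulAction.stabilizer ↥R χ₀).index =
      (MulAction.orbit ↥R χ₀).ncard := MulAction.index_stabilizer _ _
  have hmul := Subgroup.card_mul_index (MulAction.stabilizer ↥R χ₀)
  have hstabcard : Nat.card (MulAction.stabilizer ↥R χ₀) ≤ I.index := by
    refine le_trans ?_ (card_hom_trivial_on_le I)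
    apply Nat.card_le_card_of_injective
      (fun μ : MulAction.stabilizer ↥R χ₀ =>
        (⟨(μ.1 : G →* ℂˣ), hstab (μ.1 : G →* ℂˣ) μ.2⟩ : {μ : G →* ℂˣ // ∀ i ∈ I, μ i = 1}))
    intro a b h
    have h' : (a.1 : G →* ℂˣ) = (b.1 : G →* ℂˣ) :=
      congrArg (fun z : {μ : G →* ℂˣ // ∀ i ∈ I, μ i = 1} => z.1) h
    exact Subtype.ext (Subtype.ext h')
  have horb : (MulAction.orbit ↥R χ₀).ncard ≤ Nat.card {χ : IrrCharacter G //
      charDegree (χ : G → ℂ) = charDegree (φ : ↥N → ℂ) * I.index ∧ P χ} := by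
    rw [← Nat.card_coe_set_eq]
    apply Nat.card_le_card_of_injective
      (fun x : MulAction.orbit ↥R χ₀ =>
        (⟨x.1, by
          obtain ⟨μ, hμ⟩ := x.2
          rw [← hμ]
          refine ⟨?_, hP χ₀ rfl (μ : G →* ℂˣ) μ.2⟩
          change charDegree (((μ : G →* ℂˣ) • χ₀ : IrrCharacter G) : G → ℂ) = _
          rw [hdeg (μ : G →* ℂˣ), hdeg0]⟩ : {χ : IrrCharacter G //
            charDegree (χ : G → ℂ) = charDegree (φ : ↥N → ℂ) * I.index ∧ P χ}))
    intro a b h
    have h' : a.1 = b.1 :=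
      congrArg (fun z : {χ : IrrCharacter G //
        charDegree (χ : G → ℂ) = charDegree (φ : ↥N → ℂ) * I.index ∧ P χ} => z.1) h
    exact Subtype.ext h'
  rw [← hmul, hidx]
  exact Nat.mul_le_mul hstabcard horb

end Main

end Cfsg.Agent.Helper80
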