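import Mathlib
import Cfsg.Agent.Lib.Helper43.OMin4
import Cfsg.Agent.Lib.Helper5.OrthAut7
import Cfsg.Agent.Lib.Helper14.OrthAutCount

set_option autoImplicit false
set_option linter.unusedSectionVars false

/-!
# (CM) for helper13's S2606 server: a `p`-semilinear semisimilarity centralises the similarities
modulo `PSO`.
-/

namespace Cfsg.Agent.Helper80.OMinOdd

open Matrix QuadraticMap Cfsg.Agent.Helper13 Cfsg.Agent.Helper43 Cfsg.Agent.Helper43.OGam
open Cfsg.Agent.Helper5.OrthAut Cfsg.Agent.Helper16.OSemiAut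

theorem comm_mem_psoAut {F : Type*} [Field F] [Fintype F] {ι : Type} [Fintype ι] [DecidableEq ι]
    (Q : QuadraticForm F (ι → F)) (hQ : (polarBilin Q).Nondegenerate) {p : ℕ} [Fact p.Prime]
    [CharP F p] (hp : p ≠ 2) (k : ℕ) (hcard : Fintype.card ι = 2 * k)
    (L₀ M : GamO ⇑Q)
    (hL₀ : ∀ (c : F) (x : ι → F),
      (L₀ : Equiv.Perm (ι → F)) (c • x) = c ^ p • (L₀ : Equiv.Perm (ι → F)) x)
    (hM : M ∈ Lin ⇑Q) :
    Theta ⇑Q (L₀ * M * L₀⁻¹ * M⁻¹) ∈ Cfsg.psoAut F ⇑Q := by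
  classical
  suffices hmain : ∃ (s : GL ι F) (_ : s ∈ SOG Q) (c : F), ∀ x,
      ((L₀ * M * L₀⁻¹ * M⁻¹ : GamO ⇑Q) : Equiv.Perm (ι → F)) x =
        c • ((s : Matrix ι ι F) *ᵥ x) by
    obtain ⟨s, hsSO, c, hL'⟩ := hmain
    have hL'' : ∀ x, ((L₀ * M * L₀⁻¹ * M⁻¹ : GamO ⇑Q) : Equiv.Perm (ι → F)) x =
        c • ((((⟨s, SOG_le_NO Q hsSO⟩ : ↥(NO (⇑Q))) : GL ι F) : Matrix ι ι F) *ᵥ x) := hL'
    rw [Theta_eq_Phi (⇑Q) _ ⟨s, SOG_le_NO Q hsSO⟩ c hL'', ← fSO_range]
    exact ⟨⟨s, hsSO⟩, rfl⟩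
  rcases isEmpty_or_nonempty ι with hem | hne
  · exact ⟨1, one_mem _, 1, fun x => Subsingleton.elim _ _⟩
  · obtain ⟨i₀⟩ := hne
    have : Nonempty ι := ⟨i₀⟩
    -- the field automorphism of `L₀` is the Frobenius
    have hsemi : ∀ (c : F) (x : ι → F),
        toAdd (⇑Q) L₀ (c • x) = sig (⇑Q) L₀ c • toAdd (⇑Q) L₀ x := sig_spec (⇑Q) L₀
    have hσ₀ : ∀ c : F, sig (⇑Q) L₀ c = c ^ p := by
      intro c
      obtain ⟨x, hx⟩ := (L₀ : Equiv.Perm (ι → F)).surjective (Pi.single i₀ 1)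
      have h1 := hsemi c x
      rw [toAdd_apply, toAdd_apply, hL₀, hx] at h1
      have h3 := congrFun h1 i₀
      simpa using h3.symm
    -- the matrix of `M`
    have hlinM : ∀ (c : F) (x : ι → F),
        toAdd (⇑Q) M (c • x) = (RingEquiv.refl F) c • toAdd (⇑Q) M x := hM
    set g : GL ι F := colGL (RingEquiv.refl F) (toAdd (⇑Q) M) hlinM with hgdef
    have hg : ∀ x, (M : Equiv.Perm (ι → F)) x = (g : Matrix ι ι F) *ᵥ x := by
      intro x
      have := colMat_mulVec (RingEquiv.refl F) (toAdd (⇑Q) M) hlinM x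
      rw [hgdef, colGL_coe]
      exact this.symm
    have hsigM : sig (⇑Q) M = 1 := Cfsg.Agent.Helper14.OrthAutCount.sig_unique (⇑Q) M 1 hM
    have hsimM : ∀ x, Q ((g : Matrix ι ι F) *ᵥ x) = (mu (⇑Q) M : F) * Q x := by
      intro x
      rw [← hg]
      have := mu_spec (⇑Q) M x
      rw [hsigM, toAdd_apply] at this
      exact this
    have hgGO : g ∈ GO Q := ⟨mu (⇑Q) M, hsimM⟩
    set gG : ↥(GO Q) := ⟨g, hgGO⟩ with hgG
    set ν : F := (mult Q gG : F) with hν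
    have hν0 : ν ≠ 0 := Units.ne_zero _
    have hgm : gmat Q gG = (g : Matrix ι ι F) := rfl
    have hdet := det_sq Q hQ gG
    rw [hcard, hgm] at hdet
    have hsim : ∀ x, Q ((g : Matrix ι ι F) *ᵥ x) = ν * Q x := by
      intro x
      have := mult_spec Q gG x
      rw [hgm] at this
      exact this
    -- the matrix of `L₀ M L₀⁻¹`
    set G₀ : GL ι F := colGL (sig (⇑Q) L₀) (toAdd (⇑Q) L₀) hsemi with hG₀
    set g' : GL ι F := semiGL G₀ (sig (⇑Q) L₀) g with hg'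
    have hg'mv : ∀ x, (g' : Matrix ι ι F) *ᵥ ((L₀ : Equiv.Perm (ι → F)) x) =
        (L₀ : Equiv.Perm (ι → F)) ((g : Matrix ι ι F) *ᵥ x) := by
      intro x
      exact semiGL_mulVec (sig (⇑Q) L₀) (toAdd (⇑Q) L₀) hsemi g x
    set gh : GL ι F := g' * g⁻¹ with hgh
    have hA : ∀ x, ((L₀ * M * L₀⁻¹ * M⁻¹ : GamO ⇑Q) : Equiv.Perm (ι → F)) x =
        (gh : Matrix ι ι F) *ᵥ x := by
      intro x
      obtain ⟨y, rfl⟩ := (M : Equiv.Perm (ι → F)).surjective x
      obtain ⟨z, rfl⟩ := (L₀ : Equiv.Perm (ι → F)).surjective y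
      show (L₀ : Equiv.Perm (ι → F)) ((M : Equiv.Perm (ι → F))
        ((L₀ : Equiv.Perm (ι → F))⁻¹ ((M : Equiv.Perm (ι → F))⁻¹
          ((M : Equiv.Perm (ι → F)) ((L₀ : Equiv.Perm (ι → F)) z))))) = _
      rw [perm_inv_apply, perm_inv_apply, hg ((L₀ : Equiv.Perm (ι → F)) z), hgh, Units.val_mul,
        Matrix.mulVec_mulVec, Matrix.mul_assoc, ← Units.val_mul, inv_mul_cancel, Units.val_one,
        Matrix.mul_one, hg'mv, hg]
    -- multipliers
    have hσν : sig (⇑Q) L₀ ν = ν ^ p := hσ₀ ν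
    have hB : ∀ y, Q ((g' : Matrix ι ι F) *ᵥ y) = ν ^ p * Q y := by
      intro y
      obtain ⟨x, rfl⟩ := (L₀ : Equiv.Perm (ι → F)).surjective y
      rw [hg'mv]
      have h1 := mu_spec (⇑Q) L₀ ((g : Matrix ι ι F) *ᵥ x)
      have h2 := mu_spec (⇑Q) L₀ x
      rw [toAdd_apply] at h1 h2
      rw [h1, h2, hsim, map_mul, hσν]
      ring
    have hC : ∀ x, Q (((g⁻¹ : GL ι F) : Matrix ι ι F) *ᵥ x) = ν⁻¹ * Q x := by
      intro x
      have h1 := hsim (((g⁻¹ : GL ι F) : Matrix ι ι F) *ᵥ x)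
      rw [Matrix.mulVec_mulVec, ← Units.val_mul, mul_inv_cancel, Units.val_one,
        Matrix.one_mulVec] at h1
      rw [h1]
      field_simp
    have hD : ∀ x, Q ((gh : Matrix ι ι F) *ᵥ x) = (ν ^ p * ν⁻¹) * Q x := by
      intro x
      rw [hgh, Units.val_mul, ← Matrix.mulVec_mulVec, hB, hC]
      ring
    -- the exponent
    obtain ⟨m, hm⟩ : ∃ m, p = 2 * m + 1 := by
      rcases (Fact.out : p.Prime).eq_two_or_odd' with h | h
      · exact absurd h hp
      · exact h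
    set c : F := ν ^ m with hc
    have hc0 : c ≠ 0 := pow_ne_zero _ hν0
    have hcc : c * c = ν ^ p * ν⁻¹ := by
      rw [hc, hm, pow_succ, mul_assoc, mul_inv_cancel₀ hν0, mul_one, ← pow_add]
      congr 1
      ring
    -- determinants
    set d : F := (g : Matrix ι ι F).det with hd
    have hd0 : d ≠ 0 := by
      have h1 : ((g⁻¹ : GL ι F) : Matrix ι ι F).det * d = 1 := by
        rw [hd, ← Matrix.det_mul, ← Units.val_mul, inv_mul_cancel, Units.val_one, Matrix.det_one]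
      intro h
      rw [h, mul_zero] at h1
      exact zero_ne_one h1
    have hdetginv : ((g⁻¹ : GL ι F) : Matrix ι ι F).det = d⁻¹ := by
      have h1 : ((g⁻¹ : GL ι F) : Matrix ι ι F).det * d = 1 := by
        rw [hd, ← Matrix.det_mul, ← Units.val_mul, inv_mul_cancel, Units.val_one, Matrix.det_one]
      exact eq_inv_of_mul_eq_one_left h1
    have hdetmap : ((g : Matrix ι ι F).map (sig (⇑Q) L₀)).det = sig (⇑Q) L₀ d :=
      (RingEquiv.map_det (sig (⇑Q) L₀) (g : Matrix ι ι F)).symm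
    have hdetg' : (g' : Matrix ι ι F).det = d ^ p := by
      rw [hg', semiGL_coe, Matrix.det_units_conj, hdetmap, hσ₀]
    have hdetgh : (gh : Matrix ι ι F).det = c ^ (2 * k) := by
      rw [hgh, Units.val_mul, Matrix.det_mul, hdetg', hdetginv, hm, pow_succ, mul_assoc,
        mul_inv_cancel₀ hd0, mul_one, pow_mul, hdet, hc, ← pow_mul, ← pow_mul]
      congr 1
      ring
    -- the special isometry
    set cu : Fˣ := Units.mk0 c hc0 with hcu
    set s : GL ι F := (sclHom cu)⁻¹ * gh with hs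
    have hsmv : ∀ x, (s : Matrix ι ι F) *ᵥ x = c⁻¹ • ((gh : Matrix ι ι F) *ᵥ x) := by
      intro x
      rw [hs, Units.val_mul, ← Matrix.mulVec_mulVec, ← map_inv, sclHom_mulVec]
      simp [hcu]
    have hsSO : s ∈ SOG Q := by
      rw [mem_SOG_iff]
      constructor
      · show s ∈ Cfsg.isometryGroup F ⇑Q
        rw [mem_iso_iff]
        intro x
        rw [hsmv, QuadraticMap.map_smul, smul_eq_mul, hD, ← hcc]
        field_simp
      · rw [hs, Units.val_mul, Matrix.det_mul, ← map_inv, sclHom_det, hcard, hdetgh]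
        simp only [hcu, Units.val_inv_eq_inv_val, Units.val_mk0]
        rw [← mul_pow, inv_mul_cancel₀ hc0, one_pow]
    refine ⟨s, hsSO, c, fun x => ?_⟩
    rw [hsmv, hA, smul_smul, mul_inv_cancel₀ hc0, one_smul]

end Cfsg.Agent.Helper80.OMinOdd
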