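import Mathlib
import Cfsg.Prelude.Def_Characters
import Cfsg.Agent.Lib.Helper81.CharCorr
import Cfsg.Agent.Lib.Helper81.CharProd
import Cfsg.Agent.Lib.Helper81.CharRam
import Cfsg.Agent.Lib.Helper75.GaloisTwistChar
import Cfsg.Agent.Lib.Helper3.CharNilpotent

/-!
# Irreducible products `χ · χ^σ` force primitivity (helper80)

If `χ ∈ Irr(G)` and the product of `χ` with a Galois conjugate `g ↦ χ (g ^ k)` is irreducible,
then `χ` is not induced from an irreducible character of any proper subgroup.
-/

set_option autoImplicit false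
set_option linter.style.haveILetI false

namespace Cfsg.Agent.Helper80

open scoped ComplexConjugate
open Cfsg Cfsg.Agent.Helper81

universe u

section Prim

variable {G : Type u} [Group G] [Fintype G]

theorem classInner_ne_zero_symm {α β : G → ℂ} (h : classInner α β ≠ 0) : classInner β α ≠ 0 := by
  rw [classInner_conj_symm]
  intro h0
  apply h
  have := congrArg conj h0
  simpa using this

/-- If `χ = Ind_T^G η` is irreducible and `χ · χ^σ` is irreducible, then `T = G`. -/
theorem top_of_prod_irr {χ : G → ℂ} (hχ : IsIrrCharacter G χ)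
    (k : ℕ) (hk : k.Coprime (Nat.card G))
    (hirr : IsIrrCharacter G (fun g => χ g * χ (g ^ k)))
    (T : Subgroup G) {η : T → ℂ} (hη : IsIrrCharacter T η) (hind : indFun T η = χ) : T = ⊤ := by
  classical
  letI : Fintype T := Fintype.ofFinite T
  have hkT : k.Coprime (Nat.card T) :=
    Nat.Coprime.coprime_dvd_right (Subgroup.card_subgroup_dvd_card T) hk
  have hηc : IsCharacter T η := IsIrrCharacter.isCharacter hη
  set η' : T → ℂ := fun t => η (t ^ k) with hη'def
  have hη' : IsCharacter T η' := Cfsg.Agent.Helper75.galois_twist_char hηc k hkT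
  have hprod : IsCharacter T (η * η') := isCharacter_mul hηc hη'
  obtain ⟨e, he0, he⟩ := irr_one_pos hη
  have hprod1 : (η * η') 1 = (e : ℂ) * e := by
    simp only [Pi.mul_apply, hη'def, one_pow, he]
  have hprod0 : η * η' ≠ 0 := by
    intro h0
    have := congrFun h0 1
    rw [hprod1] at this
    have h2 : (e : ℂ) ≠ 0 := by exact_mod_cast he0.ne'
    exact mul_ne_zero h2 h2 (by simpa using this)
  obtain ⟨ξ, hξ, hξne⟩ := exists_irr_constituent hprod hprod0
  -- restriction of χ to T contains η
  have hχc : IsCharacter G χ := IsIrrCharacter.isCharacter hχ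
  have hχcl := isClassFunction_of_isCharacter hχc
  set resχ : T → ℂ := fun t => χ t with hresχ
  have hresχc : IsCharacter T resχ := isCharacter_restrict T hχc
  have h1 : classInner η resχ = 1 := by
    rw [← frobenius_reciprocity T η hχcl, hind, irr_orthonormal hχ hχ, if_pos rfl]
  have h1' : classInner resχ η ≠ 0 := classInner_ne_zero_symm (by rw [h1]; exact one_ne_zero)
  obtain ⟨Δ₁, hΔ₁, hsplit⟩ := exists_add_of_classInner_ne_zero hresχc hη h1'
  set Δ₁' : T → ℂ := fun t => Δ₁ (t ^ k) with hΔ₁'def
  have hΔ₁' : IsCharacter T Δ₁' := Cfsg.Agent.Helper75.galois_twist_char hΔ₁ k hkT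
  set ψ : G → ℂ := fun g => χ g * χ (g ^ k) with hψdef
  set R : T → ℂ := η * Δ₁' + Δ₁ * η' + Δ₁ * Δ₁' with hRdef
  have hR : IsCharacter T R :=
    isCharacter_add (isCharacter_add (isCharacter_mul hηc hΔ₁') (isCharacter_mul hΔ₁ hη'))
      (isCharacter_mul hΔ₁ hΔ₁')
  have hresψ : (fun t : T => ψ t) = η * η' + R := by
    funext t
    have e1 : χ (t : G) = η t + Δ₁ t := by
      have := congrFun hsplit t
      simpa [hresχ] using this
    have e2 : χ ((t : G) ^ k) = η (t ^ k) + Δ₁ (t ^ k) := by
      have := congrFun hsplit (t ^ k)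
      simpa [hresχ] using this
    simp only [hψdef, hRdef, hη'def, hΔ₁'def, Pi.add_apply, Pi.mul_apply, e1, e2]
    ring
  obtain ⟨m₁, hm₁⟩ := exists_nat_classInner_char hprod (IsIrrCharacter.isCharacter hξ)
  obtain ⟨m₂, hm₂⟩ := exists_nat_classInner_char hR (IsIrrCharacter.isCharacter hξ)
  have hm₁0 : m₁ ≠ 0 := by
    intro h0
    apply hξne
    rw [hm₁, h0]; simp
  have hresψξ : classInner (fun t : T => ψ t) ξ ≠ 0 := by
    rw [hresψ, classInner_add_left, hm₁, hm₂]
    have : m₁ + m₂ ≠ 0 := by omega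
    exact_mod_cast this
  have hψc : IsCharacter G ψ := IsIrrCharacter.isCharacter hirr
  have hψcl := isClassFunction_of_isCharacter hψc
  have hfr : classInner (indFun T ξ) ψ ≠ 0 := by
    rw [frobenius_reciprocity T ξ hψcl]
    exact classInner_ne_zero_symm hresψξ
  have hindξ : IsCharacter G (indFun T ξ) := isCharacter_indFun T (IsIrrCharacter.isCharacter hξ)
  obtain ⟨Δ₂, hΔ₂, hsplit₂⟩ := exists_add_of_classInner_ne_zero hindξ hirr hfr
  obtain ⟨Δ₃, hΔ₃, hsplit₃⟩ := exists_add_of_classInner_ne_zero hprod hξ hξne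
  obtain ⟨x, hx⟩ := char_one_nat (IsIrrCharacter.isCharacter hξ)
  obtain ⟨d₂, hd₂⟩ := char_one_nat hΔ₂
  obtain ⟨d₃, hd₃⟩ := char_one_nat hΔ₃
  have hχ1 : χ 1 = (T.index : ℂ) * e := by
    rw [← hind, indFun_one, he]
  have eq1 : (T.index : ℂ) * x = ((T.index : ℂ) * e) * ((T.index : ℂ) * e) + d₂ := by
    have := congrFun hsplit₂ 1
    rw [indFun_one, hx] at this
    simp only [Pi.add_apply, hd₂] at this
    rw [this, hψdef]
    simp only [one_pow, hχ1]
  have eq2 : (e : ℂ) * e = x + d₃ := by
    have := congrFun hsplit₃ 1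
    rw [hprod1] at this
    simp only [Pi.add_apply, hx, hd₃] at this
    exact this
  have eq1' : T.index * x = (T.index * e) * (T.index * e) + d₂ := by exact_mod_cast eq1
  have eq2' : e * e = x + d₃ := by exact_mod_cast eq2
  have hi0 : 0 < T.index := Nat.pos_of_ne_zero Subgroup.index_ne_zero_of_finite
  have hi1 : T.index = 1 := by
    by_contra hne
    have hi2 : 2 ≤ T.index := by omega
    have hA : T.index * x ≤ T.index * (e * e) := Nat.mul_le_mul_left _ (by omega)
    have hB : (T.index * e) * (T.index * e) ≤ T.index * (e * e) := by omega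
    have hC : (T.index * e) * (T.index * e) = T.index * (T.index * (e * e)) := by ring
    rw [hC] at hB
    have hee : 0 < e * e := Nat.mul_pos he0 he0
    have hD : T.index * (e * e) < T.index * (T.index * (e * e)) := by
      apply Nat.mul_lt_mul_of_pos_left _ hi0
      calc e * e = 1 * (e * e) := by ring
        _ < T.index * (e * e) := Nat.mul_lt_mul_of_pos_right (by omega) hee
    omega
  exact Subgroup.index_eq_one.mp hi1

/-- A faithful irreducible character that is not induced from a proper subgroup: every abelian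
normal subgroup is central. -/
theorem abelian_normal_le_center {χ : G → ℂ} (hχ : IsIrrCharacter G χ)
    (hfaith : ∀ g : G, χ g = χ 1 → g = 1)
    (hprim : ∀ (T : Subgroup G) (η : T → ℂ), IsIrrCharacter T η → indFun T η = χ → T = ⊤)
    (A : Subgroup G) (hAn : A.Normal) (hAc : ∀ a b : A, a * b = b * a) :
    A ≤ Subgroup.center G := by
  classical
  intro g hgA
  letI : Fintype A := Fintype.ofFinite _
  have hχA : IsCharacter A (fun a : A => χ a) :=
    isCharacter_restrict A (IsIrrCharacter.isCharacter hχ)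
  have hχA0 : (fun a : A => χ a) ≠ 0 := by
    intro h
    have h1 := congrFun h 1
    obtain ⟨n, hn, hn1⟩ := irr_one_pos hχ
    simp only [OneMemClass.coe_one, Pi.zero_apply] at h1
    rw [hn1] at h1
    have : n = 0 := by exact_mod_cast h1
    omega
  obtain ⟨θ, hθ, hne⟩ := exists_irr_constituent hχA hχA0
  obtain ⟨lam, hlam⟩ := Cfsg.Agent.Helper3.irr_abelian_hom hAc θ hθ
  set T := Cfsg.Agent.Helper3.inertiaSubgroup A hAn θ with hT
  letI : Fintype T := Fintype.ofFinite _
  have hT' : ∀ x : G, x ∈ T ↔ conjFun A hAn θ x = θ :=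
    fun x => Cfsg.Agent.Helper3.mem_inertiaSubgroup A hAn θ x
  have hAT : A ≤ T := Cfsg.Agent.Helper3.le_inertiaSubgroup A hAn
    (isClassFunction_of_isCharacter (IsIrrCharacter.isCharacter hθ))
  obtain ⟨ψ, hψ, hind, _⟩ := clifford_corr_surj A T hAn hAT hθ hT' hχ hne
  have htop : T = ⊤ := hprim T ψ hψ hind
  have hall : ∀ x : G, conjFun A hAn θ x = θ := fun x => by
    have : x ∈ T := by rw [htop]; exact Subgroup.mem_top x
    exact this
  have hset : conjSet A hAn θ = {θ} := by
    ext φ
    simp only [conjSet, Set.mem_ofPred_eq, Set.mem_singleton_iff]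
    constructor
    · rintro ⟨x, rfl⟩; exact hall x
    · rintro rfl; exact ⟨1, (conjFun_one A hAn φ).symm⟩
  have hcl := clifford A hAn hχ hθ hne
  rw [hset, finsum_mem_singleton] at hcl
  set e := classInner (fun a : A => χ a) θ with he_def
  have hval : ∀ a : A, χ a = e * θ a := fun a => by
    have := congrFun hcl a
    simpa using this
  have hθ1 : θ 1 = 1 := by rw [hlam]; simp
  have he : χ 1 = e := by
    have := hval 1
    simpa [hθ1] using this
  have hnormθ : ‖θ ⟨g, hgA⟩‖ = 1 := by
    rw [hlam]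
    have hpow : (lam ⟨g, hgA⟩ : ℂ) ^ (Fintype.card A) = 1 := by
      rw [← Units.val_pow_eq_pow_val, ← map_pow, pow_card_eq_one, map_one, Units.val_one]
    exact Complex.norm_eq_one_of_pow_eq_one hpow Fintype.card_ne_zero
  have hnorm : ‖χ g‖ = ‖χ 1‖ := by
    have := hval ⟨g, hgA⟩
    simp only at this
    rw [this, norm_mul, hnormθ, mul_one, he]
  obtain ⟨n, ρ, hirr, hρ⟩ := hχ
  subst hρ
  have h1 : ‖ρ.character g‖ = (Module.finrank ℂ (Fin n → ℂ) : ℝ) := by
    rw [hnorm, Representation.char_one]; simp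
  obtain ⟨ω, hω⟩ := (Cfsg.Agent.Helper3.norm_char_eq_iff ρ g).mp h1
  rw [Subgroup.mem_center_iff]
  intro x
  have h2 : ρ (x * g) = ρ (g * x) := by
    rw [map_mul, map_mul, hω]
    ext v i
    simp
  have hinj : ∀ a b : G, ρ a = ρ b → a = b := by
    intro a b hab
    have : ρ (a * b⁻¹) = 1 := by rw [map_mul, hab, ← map_mul, mul_inv_cancel, map_one]
    have h3 : ρ.character (a * b⁻¹) = ρ.character 1 := by
      unfold Representation.character; rw [this, map_one ρ]
    have := hfaith _ h3
    exact mul_inv_eq_one.mp this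
  exact hinj _ _ h2

end Prim

end Cfsg.Agent.Helper80
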