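import Mathlib
import Cfsg.Prelude.Def_Characters
import Cfsg.Agent.Lib.Helper81.CharCore

/-!
# The character of the image of an equivariant idempotent (helper80)

For a representation `L` of `G` on a finite-dimensional space `E` and an idempotent `P` on `E`
commuting with `L`, the character of `L` splits as `π + π'` with `π g = tr (L g ∘ P)`, both
summands being characters.
-/

set_option autoImplicit false
set_option linter.style.haveILetI false

namespace Cfsg.Agent.Helper80

open Cfsg Cfsg.Agent.Helper81

universe u v

section Proj

variable {G : Type u} [Group G] {E : Type v} [AddCommGroup E] [Module ℂ E]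
  [FiniteDimensional ℂ E]

theorem character_split_of_proj (L : Representation ℂ G E) (P : E →ₗ[ℂ] E)
    (hP : P ∘ₗ P = P) (hcomm : ∀ g : G, L g ∘ₗ P = P ∘ₗ L g) :
    ∃ π π' : G → ℂ, IsCharacter G π ∧ IsCharacter G π' ∧
      (∀ g, L.character g = π g + π' g) ∧
      (∀ g, π g = LinearMap.trace ℂ E (L g ∘ₗ P)) := by
  classical
  have hPP : ∀ v, P (P v) = P v := fun v => by
    have := LinearMap.congr_fun hP v
    simpa using this
  have hc : ∀ g v, L g (P v) = P (L g v) := fun g v => by
    have := LinearMap.congr_fun (hcomm g) v
    simpa using this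
  let W : Subrepresentation L :=
    ⟨LinearMap.range P, by
      rintro g v ⟨w, rfl⟩
      exact ⟨L g w, (hc g w).symm⟩⟩
  let W' : Subrepresentation L :=
    ⟨LinearMap.ker P, by
      intro g v hv
      rw [LinearMap.mem_ker] at hv ⊢
      rw [← hc, hv, map_zero]⟩
  have hcompl : IsCompl (LinearMap.range P) (LinearMap.ker P) := by
    constructor
    · rw [disjoint_iff]
      ext v
      simp only [Submodule.mem_inf, LinearMap.mem_range, LinearMap.mem_ker, Submodule.mem_bot]
      constructor
      · rintro ⟨⟨w, rfl⟩, h2⟩
        rw [hPP] at h2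
        exact h2
      · rintro rfl
        exact ⟨⟨0, map_zero _⟩, map_zero _⟩
    · rw [codisjoint_iff]
      ext v
      simp only [Submodule.mem_top, iff_true]
      rw [Submodule.mem_sup]
      refine ⟨P v, ⟨v, rfl⟩, v - P v, ?_, by abel⟩
      rw [LinearMap.mem_ker, map_sub, hPP, sub_self]
  have hWW' : IsCompl W W' := by
    constructor
    · rw [disjoint_iff]
      apply Subrepresentation.toSubmodule_injective
      exact hcompl.inf_eq_bot
    · rw [codisjoint_iff]
      apply Subrepresentation.toSubmodule_injective
      exact hcompl.sup_eq_top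
  refine ⟨W.toRepresentation.character, W'.toRepresentation.character,
    isCharacter_of_rep _, isCharacter_of_rep _, fun g => character_eq_add_of_isCompl hWW' g, ?_⟩
  intro g
  let N : Bool → Submodule ℂ E := fun b => cond b (LinearMap.range P) (LinearMap.ker P)
  have hint : DirectSum.IsInternal N := by
    rw [DirectSum.isInternal_submodule_iff_isCompl N (i := true) (j := false) (by decide)
      (by ext b; cases b <;> simp)]
    exact hcompl
  have hf : ∀ b, Set.MapsTo (L g ∘ₗ P) (N b) (N b) := by
    intro b
    cases b
    · intro v hv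
      change v ∈ LinearMap.ker P at hv
      change (L g ∘ₗ P) v ∈ LinearMap.ker P
      rw [LinearMap.mem_ker] at hv
      rw [LinearMap.comp_apply, hv, map_zero]
      exact Submodule.zero_mem _
    · intro v hv
      change (L g ∘ₗ P) v ∈ LinearMap.range P
      rw [LinearMap.comp_apply, hc]
      exact ⟨_, rfl⟩
  have hfin : ∀ b, Module.Finite ℂ (N b) := fun b => by cases b <;> infer_instance
  have hfree : ∀ b, Module.Free ℂ (N b) := fun b => by cases b <;> infer_instance
  have htr := LinearMap.trace_eq_sum_trace_restrict hint hf
  rw [Fintype.sum_bool] at htr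
  rw [htr]
  have h0 : (L g ∘ₗ P).restrict (hf false) = 0 := by
    ext ⟨v, hv⟩
    change v ∈ LinearMap.ker P at hv
    rw [LinearMap.mem_ker] at hv
    change (L g ∘ₗ P) v = 0
    rw [LinearMap.comp_apply, hv, map_zero]
  have h1 : (L g ∘ₗ P).restrict (hf true) = W.toRepresentation g := by
    ext ⟨v, hv⟩
    obtain ⟨w, rfl⟩ := hv
    change (L g ∘ₗ P) (P w) = L g (P w)
    rw [LinearMap.comp_apply, hPP]
  rw [h0, h1, map_zero, add_zero]
  rfl

end Proj

end Cfsg.Agent.Helper80
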