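import Mathlib
import Cfsg.Prelude.Def_Characters
import Cfsg.Agent.Lib.Helper80.ProjChar
import Cfsg.Agent.Lib.Helper79.CenterDegree

/-!
# The conjugation character on the span of `ρ(A)` (helper80)

For an irreducible representation `ρ` of `G` with character `χ` and a normal subgroup `A` on
which `χ` vanishes off the centre of `G`, the conjugation action of `G` on `End V` has the
equivariant idempotent `P X = c ∑_{a ∈ A} tr(X ρ(a)⁻¹) ρ(a)`.  Its image affords the character
`π g = c ∑_{a ∈ A} χ(g a g⁻¹ a⁻¹)`, and `χ̄ χ = π + π'` with `π'` a character.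
-/

set_option autoImplicit false
set_option linter.style.haveILetI false
set_option linter.unusedSectionVars false

namespace Cfsg.Agent.Helper80

open scoped ComplexConjugate
open Cfsg

universe u

section ProjA

variable {G : Type u} [Group G] [Fintype G] {n : ℕ} (ρ : Representation ℂ G (Fin n → ℂ))

/-- the functional `X ↦ tr (X ρ(a)⁻¹)` -/
noncomputable def ellA (a : G) : Module.End ℂ (Fin n → ℂ) →ₗ[ℂ] ℂ :=
  (LinearMap.trace ℂ (Fin n → ℂ)) ∘ₗ (LinearMap.mulRight ℂ (ρ a⁻¹))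

theorem ellA_apply (a : G) (X : Module.End ℂ (Fin n → ℂ)) :
    ellA ρ a X = LinearMap.trace ℂ (Fin n → ℂ) (X * ρ a⁻¹) := rfl

/-- the projection onto the span of `ρ(A)` (up to the scalar `c`) -/
noncomputable def projA (A : Subgroup G) [Fintype A] (c : ℂ) :
    Module.End ℂ (Module.End ℂ (Fin n → ℂ)) :=
  c • ∑ a : A, (ellA ρ (a : G)).smulRight (ρ (a : G))

theorem projA_apply (A : Subgroup G) [Fintype A] (c : ℂ) (X : Module.End ℂ (Fin n → ℂ)) :
    projA ρ A c X =
      c • ∑ a : A, (LinearMap.trace ℂ (Fin n → ℂ) (X * ρ (a : G)⁻¹)) • ρ (a : G) := by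
  simp [projA, LinearMap.sum_apply, ellA_apply]

theorem linHom_apply_mul (g : G) (X : Module.End ℂ (Fin n → ℂ)) :
    (Representation.linHom ρ ρ) g X = ρ g * X * ρ g⁻¹ := by
  rw [Representation.linHom_apply, Module.End.mul_eq_comp, Module.End.mul_eq_comp,
    LinearMap.comp_assoc]

theorem linHom_comp_projA (A : Subgroup G) [hA : A.Normal] [Fintype A] (c : ℂ) (g : G) :
    (Representation.linHom ρ ρ) g ∘ₗ projA ρ A c =
      projA ρ A c ∘ₗ (Representation.linHom ρ ρ) g := by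
  apply LinearMap.ext
  intro X
  rw [LinearMap.comp_apply, LinearMap.comp_apply, linHom_apply_mul, linHom_apply_mul,
    projA_apply, projA_apply]
  rw [mul_smul_comm, smul_mul_assoc, Finset.mul_sum, Finset.sum_mul]
  congr 1
  rw [← Equiv.sum_comp (MulAut.conjNormal g : A ≃* A).toEquiv
    (fun a : A => (LinearMap.trace ℂ (Fin n → ℂ) (ρ g * X * ρ g⁻¹ * ρ (a : G)⁻¹)) • ρ (a : G))]
  apply Finset.sum_congr rfl
  intro a _
  simp only [MulEquiv.toEquiv_eq_coe, MulEquiv.coe_toEquiv, MulAut.conjNormal_apply]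
  rw [mul_smul_comm, smul_mul_assoc]
  have h1 : ρ g * ρ (a : G) * ρ g⁻¹ = ρ (g * a * g⁻¹) := by rw [map_mul, map_mul]
  have h2 : LinearMap.trace ℂ (Fin n → ℂ) (ρ g * X * ρ g⁻¹ * ρ (g * (a : G) * g⁻¹)⁻¹) =
      LinearMap.trace ℂ (Fin n → ℂ) (X * ρ (a : G)⁻¹) := by
    have e1 : (g * (a : G) * g⁻¹)⁻¹ = g * (a : G)⁻¹ * g⁻¹ := by group
    have e0 : ρ (g * (a : G)⁻¹ * g⁻¹) = ρ g * ρ (a : G)⁻¹ * ρ g⁻¹ := by rw [map_mul, map_mul]
    rw [e1, e0]
    have e2 : ρ g * X * ρ g⁻¹ * (ρ g * ρ (a : G)⁻¹ * ρ g⁻¹) =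
        ρ g * (X * ρ (a : G)⁻¹ * ρ g⁻¹) := by
      have e3 : ρ g⁻¹ * ρ g = 1 := by rw [← map_mul, inv_mul_cancel, map_one]
      calc ρ g * X * ρ g⁻¹ * (ρ g * ρ (a : G)⁻¹ * ρ g⁻¹)
          = ρ g * X * (ρ g⁻¹ * ρ g) * ρ (a : G)⁻¹ * ρ g⁻¹ := by simp only [mul_assoc]
        _ = ρ g * (X * ρ (a : G)⁻¹ * ρ g⁻¹) := by rw [e3, mul_one]; simp only [mul_assoc]
    rw [e2, LinearMap.trace_mul_comm, mul_assoc, ← map_mul, inv_mul_cancel, map_one, mul_one]
  rw [h1, h2]

/-- the number of elements of `A` that are central in `G` -/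
noncomputable def zA (A : Subgroup G) [Fintype A] : ℕ :=
  open scoped Classical in
  (Finset.univ.filter (fun s : A => (s : G) ∈ Subgroup.center G)).card

theorem zA_pos (A : Subgroup G) [Fintype A] : 0 < zA A := by
  classical
  unfold zA
  apply Finset.card_pos.mpr
  exact ⟨1, by simp⟩

theorem projA_rho [ρ.IsIrreducible] (A : Subgroup G) [Fintype A] (c : ℂ)
    (hvan : ∀ x ∈ A, x ∉ Subgroup.center G → ρ.character x = 0) (b : G) (hb : b ∈ A) :
    projA ρ A c (ρ b) = (c * ((zA A : ℂ) * n)) • ρ b := by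
  classical
  rw [projA_apply]
  let e : A ≃ A := (Equiv.inv A).trans (Equiv.mulRight ⟨b, hb⟩)
  rw [← Equiv.sum_comp e
    (fun a : A => (LinearMap.trace ℂ (Fin n → ℂ) (ρ b * ρ (a : G)⁻¹)) • ρ (a : G))]
  have hterm : ∀ s : A,
      (LinearMap.trace ℂ (Fin n → ℂ) (ρ b * ρ ((e s : A) : G)⁻¹)) • ρ ((e s : A) : G) =
      if (s : G) ∈ Subgroup.center G then (n : ℂ) • ρ b else 0 := by
    intro s
    have he : ((e s : A) : G) = (s : G)⁻¹ * b := by
      simp [e]
    rw [he]
    have h1 : ρ b * ρ ((s : G)⁻¹ * b)⁻¹ = ρ (s : G) := by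
      rw [← map_mul]
      congr 1
      group
    rw [h1]
    split_ifs with hs
    · obtain ⟨l, hl, hl1⟩ := Cfsg.Agent.Helper79.center_scalar ρ (s : G) hs
      have hl0 : l ≠ 0 := by
        intro h0
        rw [h0] at hl1
        simp at hl1
      have h2 : ρ ((s : G)⁻¹ * b) = l⁻¹ • ρ b := by
        have h3 : ρ (s : G) * ρ ((s : G)⁻¹ * b) = ρ b := by
          rw [← map_mul]
          congr 1
          group
        rw [hl, smul_mul_assoc, one_mul] at h3
        rw [← h3, smul_smul, inv_mul_cancel₀ hl0, one_smul]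
      rw [h2, hl, map_smul, LinearMap.trace_one, smul_smul]
      congr 1
      simp only [Module.finrank_fintype_fun_eq_card, Fintype.card_fin, smul_eq_mul]
      field_simp
    · have := hvan (s : G) s.2 hs
      unfold Representation.character at this
      rw [this, zero_smul]
  simp only [hterm]
  rw [Finset.sum_ite, Finset.sum_const_zero, add_zero, Finset.sum_const]
  rw [← Nat.cast_smul_eq_nsmul ℂ, smul_smul, smul_smul]
  congr 1
  unfold zA
  rw [mul_assoc]

theorem projA_idem [ρ.IsIrreducible] (A : Subgroup G) [Fintype A] (c : ℂ)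
    (hc : c * ((zA A : ℂ) * n) = 1)
    (hvan : ∀ x ∈ A, x ∉ Subgroup.center G → ρ.character x = 0) :
    projA ρ A c ∘ₗ projA ρ A c = projA ρ A c := by
  apply LinearMap.ext
  intro X
  rw [LinearMap.comp_apply]
  conv_lhs => rw [projA_apply ρ A c X]
  rw [map_smul, map_sum]
  conv_rhs => rw [projA_apply ρ A c X]
  congr 1
  apply Finset.sum_congr rfl
  intro a _
  rw [map_smul, projA_rho ρ A c hvan (a : G) a.2, hc, one_smul]

theorem trace_linHom_comp_projA (A : Subgroup G) [Fintype A] (c : ℂ) (g : G) :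
    LinearMap.trace ℂ (Module.End ℂ (Fin n → ℂ))
      ((Representation.linHom ρ ρ) g ∘ₗ projA ρ A c) =
      c * ∑ a : A, ρ.character (g * (a : G) * g⁻¹ * (a : G)⁻¹) := by
  have h1 : (Representation.linHom ρ ρ) g ∘ₗ projA ρ A c =
      c • ∑ a : A, (ellA ρ (a : G)).smulRight ((Representation.linHom ρ ρ) g (ρ (a : G))) := by
    apply LinearMap.ext
    intro X
    simp only [projA, LinearMap.comp_apply, LinearMap.smul_apply, LinearMap.sum_apply,
      LinearMap.smulRight_apply, map_smul, map_sum]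
  rw [h1, map_smul, map_sum, smul_eq_mul]
  congr 1
  apply Finset.sum_congr rfl
  intro a _
  rw [LinearMap.trace_smulRight, ellA_apply, linHom_apply_mul]
  unfold Representation.character
  have e0 : ρ (g * (a : G) * g⁻¹ * (a : G)⁻¹) = ρ g * ρ (a : G) * ρ g⁻¹ * ρ (a : G)⁻¹ := by
    rw [map_mul, map_mul, map_mul]
  rw [e0]

/-- The conjugation character `χ̄χ` splits off the character `π g = c ∑_{a ∈ A} χ([g, a])`. -/
theorem exists_subchar [ρ.IsIrreducible] (A : Subgroup G) [hA : A.Normal] [Fintype A]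
    (hvan : ∀ x ∈ A, x ∉ Subgroup.center G → ρ.character x = 0) :
    ∃ π π' : G → ℂ, IsCharacter G π ∧ IsCharacter G π' ∧
      (∀ g, ρ.character g⁻¹ * ρ.character g = π g + π' g) ∧
      (∀ g, π g = ((zA A : ℂ) * n)⁻¹ *
        ∑ a : A, ρ.character (g * (a : G) * g⁻¹ * (a : G)⁻¹)) := by
  have hn : (n : ℂ) ≠ 0 := by
    haveI := Cfsg.Agent.Helper81.nontrivial_of_isIrreducible ρ
    intro h0
    have : n = 0 := by exact_mod_cast h0
    subst this
    exact not_subsingleton (Fin 0 → ℂ) inferInstance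
  have hz : (zA A : ℂ) ≠ 0 := by exact_mod_cast (zA_pos A).ne'
  have hc : ((zA A : ℂ) * n)⁻¹ * ((zA A : ℂ) * n) = 1 := inv_mul_cancel₀ (mul_ne_zero hz hn)
  obtain ⟨π, π', hπ, hπ', hsum, hform⟩ := character_split_of_proj
    (Representation.linHom ρ ρ) (projA ρ A ((zA A : ℂ) * n)⁻¹)
    (projA_idem ρ A _ hc hvan) (fun g => linHom_comp_projA ρ A _ g)
  refine ⟨π, π', hπ, hπ', ?_, ?_⟩
  · intro g
    rw [← hsum g, Representation.char_linHom]
  · intro g
    rw [hform g, trace_linHom_comp_projA]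

end ProjA

end Cfsg.Agent.Helper80
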