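import Mathlib

/-!
# Commutator sums are invariant under coprime powers (helper80)

Let `A` be a normal subgroup of a finite group `G` and `f : G → ℂ` a function vanishing on the
non-central elements of `A`.  Then `∑_{a ∈ A} f (g a g⁻¹ a⁻¹)` does not change when `g` is
replaced by `g ^ k` with `k` prime to `|G|`.
-/

set_option autoImplicit false

namespace Cfsg.Agent.Helper80

universe u

section Comm

variable {G : Type u} [Group G]

theorem comm_pow_left {g a : G} (hz : g * a * g⁻¹ * a⁻¹ ∈ Subgroup.center G) (j : ℕ) :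
    g ^ j * a * (g ^ j)⁻¹ * a⁻¹ = (g * a * g⁻¹ * a⁻¹) ^ j := by
  induction j with
  | zero => simp
  | succ j ih =>
    set z := g * a * g⁻¹ * a⁻¹ with hzdef
    have hgag : g * a * g⁻¹ = z * a := by rw [hzdef]; group
    have hc := Subgroup.mem_center_iff.mp hz
    calc g ^ (j + 1) * a * (g ^ (j + 1))⁻¹ * a⁻¹
        = g ^ j * (g * a * g⁻¹) * (g ^ j)⁻¹ * a⁻¹ := by rw [pow_succ]; group
      _ = g ^ j * (z * a) * (g ^ j)⁻¹ * a⁻¹ := by rw [hgag]
      _ = (g ^ j * z) * a * (g ^ j)⁻¹ * a⁻¹ := by group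
      _ = (z * g ^ j) * a * (g ^ j)⁻¹ * a⁻¹ := by rw [hc (g ^ j)]
      _ = z * (g ^ j * a * (g ^ j)⁻¹ * a⁻¹) := by group
      _ = z * z ^ j := by rw [ih]
      _ = z ^ (j + 1) := by rw [pow_succ']

theorem comm_pow_right {g a : G} (hz : g * a * g⁻¹ * a⁻¹ ∈ Subgroup.center G) (j : ℕ) :
    g * a ^ j * g⁻¹ * (a ^ j)⁻¹ = (g * a * g⁻¹ * a⁻¹) ^ j := by
  induction j with
  | zero => simp
  | succ j ih =>
    set z := g * a * g⁻¹ * a⁻¹ with hzdef
    have hgag : g * a * g⁻¹ = z * a := by rw [hzdef]; group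
    have hc := Subgroup.mem_center_iff.mp hz
    have ih' : g * a ^ j * g⁻¹ = z ^ j * a ^ j := by rw [← ih]; group
    have hcj : ∀ x : G, x * z ^ j = z ^ j * x := fun x =>
      Subgroup.mem_center_iff.mp (Subgroup.pow_mem _ hz j) x
    calc g * a ^ (j + 1) * g⁻¹ * (a ^ (j + 1))⁻¹
        = (g * a ^ j * g⁻¹) * (g * a * g⁻¹) * (a ^ (j + 1))⁻¹ := by rw [pow_succ]; group
      _ = (z ^ j * a ^ j) * (z * a) * (a ^ (j + 1))⁻¹ := by rw [ih', hgag]
      _ = z ^ j * (a ^ j * z) * a * (a ^ (j + 1))⁻¹ := by group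
      _ = z ^ j * (z * a ^ j) * a * (a ^ (j + 1))⁻¹ := by rw [hc (a ^ j)]
      _ = z ^ j * z * (a ^ j * a * (a ^ (j + 1))⁻¹) := by group
      _ = z ^ j * z := by rw [← pow_succ a j, mul_inv_cancel, mul_one]
      _ = z ^ (j + 1) := by rw [pow_succ]

variable [Fintype G]

theorem sum_comm_pow_eq (A : Subgroup G) [hA : A.Normal] [Fintype A] (f : G → ℂ)
    (hvan : ∀ x ∈ A, x ∉ Subgroup.center G → f x = 0)
    (g : G) (k : ℕ) (hk : k.Coprime (Nat.card G)) :
    ∑ a : A, f (g ^ k * (a : G) * (g ^ k)⁻¹ * (a : G)⁻¹) =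
      ∑ a : A, f (g * (a : G) * g⁻¹ * (a : G)⁻¹) := by
  classical
  have hkA : (Nat.card A).Coprime k :=
    (Nat.Coprime.coprime_dvd_right (Subgroup.card_subgroup_dvd_card A) hk).symm
  rw [← Equiv.sum_comp (powCoprime hkA) (fun a : A => f (g * (a : G) * g⁻¹ * (a : G)⁻¹))]
  apply Finset.sum_congr rfl
  intro a _
  have hpc : ((powCoprime hkA a : A) : G) = (a : G) ^ k := rfl
  rw [hpc]
  have hmemA : ∀ (x : G) (b : G), b ∈ A → x * b * x⁻¹ * b⁻¹ ∈ A := fun x b hb =>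
    A.mul_mem (hA.conj_mem b hb x) (A.inv_mem hb)
  have hkg : k.Coprime (orderOf g) :=
    Nat.Coprime.coprime_dvd_right (orderOf_dvd_natCard g) hk
  have hka : k.Coprime (orderOf (a : G)) :=
    Nat.Coprime.coprime_dvd_right (orderOf_dvd_natCard (a : G)) hk
  obtain ⟨k', hk'⟩ := exists_pow_eq_self_of_coprime hkg
  obtain ⟨k'', hk''⟩ := exists_pow_eq_self_of_coprime hka
  by_cases hz : g * (a : G) * g⁻¹ * (a : G)⁻¹ ∈ Subgroup.center G
  · rw [comm_pow_left hz k, comm_pow_right hz k]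
  · have h1 : g ^ k * (a : G) * (g ^ k)⁻¹ * (a : G)⁻¹ ∉ Subgroup.center G := by
      intro h
      apply hz
      have := comm_pow_left h k'
      rw [hk'] at this
      rw [this]
      exact Subgroup.pow_mem _ h k'
    have h2 : g * (a : G) ^ k * g⁻¹ * ((a : G) ^ k)⁻¹ ∉ Subgroup.center G := by
      intro h
      apply hz
      have := comm_pow_right h k''
      rw [hk''] at this
      rw [this]
      exact Subgroup.pow_mem _ h k''
    rw [hvan _ (hmemA _ _ a.2) h1, hvan _ (hmemA _ _ (A.pow_mem a.2 k)) h2]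

end Comm

end Cfsg.Agent.Helper80
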