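import Mathlib
import Cfsg.Prelude.Def_Characters
import Cfsg.Agent.Lib.Helper80.CharBasic
import Cfsg.Agent.Lib.Helper80.FrobSchur
import Cfsg.Agent.Lib.Helper80.ProdIrr
import Cfsg.Agent.Lib.Helper80.ProdIrr2
import Cfsg.Agent.Lib.Helper80.ProdIrr3
import Cfsg.Agent.Lib.Helper3.CharDecomp

/-!
# Irreducible products `χ · χ^σ`: normal subgroups of class two are central (helper80)
-/

set_option autoImplicit false
set_option linter.style.haveILetI false
set_option linter.unusedSectionVars false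

namespace Cfsg.Agent.Helper80

open scoped ComplexConjugate
open Cfsg Cfsg.Agent.Helper81

universe u

section Assembly

variable {G : Type u} [Group G] [Fintype G]

theorem sum_mul_char_nat {α β : G → ℂ} (hα : IsCharacter G α) (hβ : IsCharacter G β) :
    ∃ m : ℕ, ∑ g, α g * β g = (Nat.card G : ℂ) * m := by
  obtain ⟨m, hm⟩ := exists_nat_classInner_char hα (Cfsg.Agent.Helper3.isCharacter_conj hβ)
  refine ⟨m, ?_⟩
  unfold classInner at hm
  simp only [Complex.conj_conj] at hm
  have hG0 : (Nat.card G : ℂ) ≠ 0 := by exact_mod_cast (Nat.card_pos (α := G)).ne'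
  rw [← hm, ← mul_assoc, mul_inv_cancel₀ hG0, one_mul]

theorem char_eq_zero_of_comm_central {n : ℕ} (ρ : Representation ℂ G (Fin n → ℂ))
    [ρ.IsIrreducible] (hfaith : ∀ g, ρ.character g = ρ.character 1 → g = 1) (x b : G)
    (hz : b * x * b⁻¹ * x⁻¹ ∈ Subgroup.center G) (hne : b * x ≠ x * b) :
    ρ.character x = 0 := by
  set z := b * x * b⁻¹ * x⁻¹ with hzdef
  obtain ⟨l, hl, _⟩ := Cfsg.Agent.Helper79.center_scalar ρ z hz
  have h1 : ρ.character (b * x * b⁻¹) = ρ.character x := Representation.char_conj ρ x b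
  have h2 : b * x * b⁻¹ = z * x := by rw [hzdef]; group
  have h3 : ρ.character (z * x) = l * ρ.character x := by
    unfold Representation.character
    rw [map_mul, hl, smul_mul_assoc, one_mul, map_smul, smul_eq_mul]
  by_contra h0
  have hl1 : l = 1 := by
    have : l * ρ.character x = 1 * ρ.character x := by rw [← h3, ← h2, h1, one_mul]
    exact mul_right_cancel₀ h0 this
  have hρz : ρ z = 1 := by rw [hl, hl1, one_smul]
  have hχz : ρ.character z = ρ.character 1 := by
    unfold Representation.character; rw [hρz, map_one ρ]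
  have hz1 : b * x * b⁻¹ * x⁻¹ = 1 := hfaith z hχz
  apply hne
  calc b * x = (b * x * b⁻¹ * x⁻¹) * x * b := by group
    _ = x * b := by rw [hz1, one_mul]

theorem class_two_normal_le_center {χ : G → ℂ} (hχ : IsIrrCharacter G χ)
    (hfaith : ∀ g : G, χ g = χ 1 → g = 1) (k : ℕ) (hk : k.Coprime (Nat.card G))
    (hirr : IsIrrCharacter G (fun g => χ g * χ (g ^ k)))
    (habel : ∀ B : Subgroup G, B.Normal → (∀ a b : B, a * b = b * a) → B ≤ Subgroup.center G)
    (A : Subgroup G) (hA : A.Normal)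
    (hA2 : ∀ a ∈ A, ∀ b ∈ A, a * b * a⁻¹ * b⁻¹ ∈ Subgroup.center G) :
    A ≤ Subgroup.center G := by
  classical
  by_contra hnot
  obtain ⟨a₀, ha₀, ha₀c⟩ := SetLike.not_le_iff_exists.mp hnot
  haveI := hA
  letI : Fintype A := Fintype.ofFinite A
  have hG0 : (Nat.card G : ℂ) ≠ 0 := by exact_mod_cast (Nat.card_pos (α := G)).ne'
  -- the centre of A is central in G
  have hZA : ∀ x ∈ A, (∀ b ∈ A, b * x = x * b) → x ∈ Subgroup.center G := by
    intro x hx hcomm
    have hB := habel ((Subgroup.center A).map A.subtype) inferInstance (by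
      rintro ⟨_, ⟨u, hu, rfl⟩⟩ ⟨_, ⟨v, hv, rfl⟩⟩
      apply Subtype.ext
      have := Subgroup.mem_center_iff.mp hv u
      have h2 := congrArg (Subtype.val : A → G) this
      simpa using h2)
    apply hB
    refine ⟨⟨x, hx⟩, ?_, rfl⟩
    change (⟨x, hx⟩ : A) ∈ Subgroup.center A
    rw [Subgroup.mem_center_iff]
    intro b
    apply Subtype.ext
    exact hcomm b b.2
  have hχc : IsCharacter G χ := IsIrrCharacter.isCharacter hχ
  have hχinv : ∀ g, χ g⁻¹ = conj (χ g) := fun g => isCharacter_inv hχc g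
  obtain ⟨n, ρ, hρ, hρχ⟩ := hχ
  haveI := hρ
  have hvan : ∀ x ∈ A, x ∉ Subgroup.center G → ρ.character x = 0 := by
    intro x hx hxc
    have : ¬ ∀ b ∈ A, b * x = x * b := fun h => hxc (hZA x hx h)
    push Not at this
    obtain ⟨b, hb, hbx⟩ := this
    exact char_eq_zero_of_comm_central ρ (by rw [hρχ]; exact hfaith) x b (hA2 b hb x hx) hbx
  obtain ⟨π, π', hπ, hπ', hsum, hform⟩ := exists_subchar ρ A hvan
  rw [hρχ] at hsum hform hvan
  set c : ℂ := ((zA A : ℂ) * n)⁻¹ with hcdef
  have hn1 : χ 1 = n := by rw [← hρχ, Representation.char_one]; simp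
  have hn0 : (n : ℂ) ≠ 0 := by
    haveI := Cfsg.Agent.Helper81.nontrivial_of_isIrreducible ρ
    intro h0
    have : n = 0 := by exact_mod_cast h0
    subst this
    exact not_subsingleton (Fin 0 → ℂ) inferInstance
  have hz0 : (zA A : ℂ) ≠ 0 := by exact_mod_cast (zA_pos A).ne'
  -- Galois invariance of π
  have hπpow : ∀ (j : ℕ), j.Coprime (Nat.card G) → ∀ g, π (g ^ j) = π g := by
    intro j hj g
    rw [hform, hform, sum_comm_pow_eq A χ hvan g j hj]
  have hπreal : ∀ g, conj (π g) = π g := by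
    intro g
    rw [← isCharacter_inv hπ g]
    have hN : 0 < Nat.card G := Nat.card_pos
    have hco : (Nat.card G - 1).Coprime (Nat.card G) := by
      rcases Nat.lt_or_ge 1 (Nat.card G) with h | h
      · exact (Nat.coprime_self_sub_left (by omega)).mpr (Nat.coprime_one_left _)
      · have : Nat.card G = 1 := by omega
        rw [this]
        exact Nat.coprime_one_right _
    have hginv : g⁻¹ = g ^ (Nat.card G - 1) := by
      rw [inv_eq_iff_mul_eq_one, ← pow_succ', Nat.sub_add_cancel hN, pow_card_eq_one']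
    rw [hginv, hπpow _ hco]
  -- the norm of π is at least two
  have hone : IsIrrCharacter G (fun _ : G => (1 : ℂ)) := isIrrCharacter_one
  have hπ1 : classInner π (fun _ => (1 : ℂ)) ≠ 0 := by
    unfold classInner
    simp only [map_one, mul_one]
    have h1 : ∑ g : G, π g = c * ∑ a : A, ((Nat.card G : ℂ) * χ a * χ (a : G)⁻¹ / χ 1) := by
      simp only [hform]
      rw [← Finset.mul_sum, Finset.sum_comm]
      congr 1
      apply Finset.sum_congr rfl
      intro a _
      have := irr_sum_conj_mul (⟨χ, ⟨n, ρ, hρ, hρχ⟩⟩ : IrrCharacter G) (a : G) (a : G)⁻¹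
      exact this
    rw [h1]
    have h2 : ∑ a : A, ((Nat.card G : ℂ) * χ a * χ (a : G)⁻¹ / χ 1) =
        ((Nat.card G : ℂ) / n) * ((∑ a : A, Complex.normSq (χ a) : ℝ) : ℂ) := by
      rw [Complex.ofReal_sum, Finset.mul_sum]
      apply Finset.sum_congr rfl
      intro a _
      rw [hχinv, hn1, ← Complex.mul_conj]
      ring
    rw [h2]
    have h3 : 0 < ∑ a : A, Complex.normSq (χ a) := by
      have hle : Complex.normSq (χ ((1 : A) : G)) ≤ ∑ a : A, Complex.normSq (χ a) :=
        Finset.single_le_sum (f := fun a : A => Complex.normSq (χ a))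
          (fun a _ => Complex.normSq_nonneg _) (Finset.mem_univ (1 : A))
      have hpos : 0 < Complex.normSq (χ ((1 : A) : G)) := by
        rw [Complex.normSq_pos, OneMemClass.coe_one, hn1]
        exact hn0
      linarith
    have h3' : ((∑ a : A, Complex.normSq (χ a) : ℝ) : ℂ) ≠ 0 := by
      exact_mod_cast h3.ne'
    have hc0 : c ≠ 0 := inv_ne_zero (mul_ne_zero hz0 hn0)
    exact mul_ne_zero (inv_ne_zero hG0)
      (mul_ne_zero hc0 (mul_ne_zero (div_ne_zero hG0 hn0) h3'))
  obtain ⟨Δ, hΔ, hπΔ⟩ := exists_add_of_classInner_ne_zero hπ hone hπ1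
  have hcardA : zA A < Fintype.card A := by
    unfold zA
    rw [← Finset.card_univ]
    apply Finset.card_lt_card
    rw [Finset.filter_ssubset]
    exact ⟨⟨a₀, ha₀⟩, Finset.mem_univ _, ha₀c⟩
  have hΔ0 : Δ ≠ 0 := by
    intro h0
    have h1 := congrFun hπΔ 1
    rw [h0, hform] at h1
    simp only [one_mul, inv_one, mul_one, Pi.add_apply, Pi.zero_apply, add_zero] at h1
    have h2 : ∀ a : A, χ ((a : G) * (a : G)⁻¹) = n := fun a => by rw [mul_inv_cancel, hn1]
    simp only [h2, Finset.sum_const, Finset.card_univ, nsmul_eq_mul] at h1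
    rw [hcdef] at h1
    have h3 : (Fintype.card A : ℂ) = zA A := by
      field_simp at h1
      exact h1
    have : Fintype.card A = zA A := by exact_mod_cast h3
    omega
  obtain ⟨mΔ, hmΔ⟩ := exists_nat_classInner_char hΔ hΔ
  have hmΔ0 : mΔ ≠ 0 := by
    intro h0
    apply hΔ0
    apply classInner_self_eq_zero
    rw [hmΔ, h0]; simp
  obtain ⟨ma, hma⟩ := exists_nat_classInner_char (IsIrrCharacter.isCharacter hone) hΔ
  obtain ⟨mb, hmb⟩ := exists_nat_classInner_char hΔ (IsIrrCharacter.isCharacter hone)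
  have hππ : classInner π π = ((1 + ma + mb + mΔ : ℕ) : ℂ) := by
    rw [hπΔ, classInner_add_left, classInner_add_right, classInner_add_right,
      irr_orthonormal hone hone, if_pos rfl, hma, hmb, hmΔ]
    push_cast
    ring
  -- the four sums
  have hkchar : IsCharacter G (fun g => π' (g ^ k)) :=
    Cfsg.Agent.Helper75.galois_twist_char hπ' k hk
  obtain ⟨m₁, hm₁⟩ := sum_mul_char_nat hπ hπ
  obtain ⟨m₂, hm₂⟩ := sum_mul_char_nat hπ hkchar
  obtain ⟨m₃, hm₃⟩ := sum_mul_char_nat hπ' hπ
  obtain ⟨m₄, hm₄⟩ := sum_mul_char_nat hπ' hkchar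
  have hm₁' : m₁ = 1 + ma + mb + mΔ := by
    have h1 : classInner π π = (m₁ : ℂ) := by
      unfold classInner
      simp only [hπreal]
      rw [hm₁, ← mul_assoc, inv_mul_cancel₀ hG0, one_mul]
    rw [hππ] at h1
    exact_mod_cast h1.symm
  have hψψ : classInner (fun g => χ g * χ (g ^ k)) (fun g => χ g * χ (g ^ k)) = 1 := by
    rw [irr_orthonormal hirr hirr, if_pos rfl]
  have hexp : ∀ g : G, (χ g * χ (g ^ k)) * conj (χ g * χ (g ^ k)) =
      π g * π g + π g * π' (g ^ k) + π' g * π g + π' g * π' (g ^ k) := by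
    intro g
    have e1 := hsum g
    have e2 := hsum (g ^ k)
    rw [hπpow k hk g] at e2
    rw [map_mul, ← hχinv, ← hχinv]
    calc χ g * χ (g ^ k) * (χ g⁻¹ * χ (g ^ k)⁻¹)
        = (χ g⁻¹ * χ g) * (χ (g ^ k)⁻¹ * χ (g ^ k)) := by ring
      _ = (π g + π' g) * (π g + π' (g ^ k)) := by rw [e1, e2]
      _ = _ := by ring
  unfold classInner at hψψ
  simp only [hexp, Finset.sum_add_distrib] at hψψ
  rw [hm₁, hm₂, hm₃, hm₄] at hψψ
  have hfin : ((m₁ + m₂ + m₃ + m₄ : ℕ) : ℂ) = 1 := by
    push_cast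
    rw [← hψψ]
    field_simp
  have : m₁ + m₂ + m₃ + m₄ = 1 := by exact_mod_cast hfin
  omega

end Assembly

end Cfsg.Agent.Helper80
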