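import Mathlib
import Cfsg.Prelude.Def_Characters
import Cfsg.Prelude.Def_Blocks
import Cfsg.Agent.Lib.Helper80.RPDDefs
import Cfsg.Agent.Lib.Helper90.RPDMIN
import Cfsg.Agent.Lib.Helper90.RPDAB
import Cfsg.Agent.Lib.Helper8.RPDEL2
import Cfsg.Agent.Lib.Helper8.RPDQUOT
import Cfsg.Agent.Lib.Helper12.RPDCEN
import Cfsg.Agent.Lib.Helper12.RPDFRAT
import Cfsg.Agent.Lib.Helper26.RPDHQ
import Cfsg.Agent.Lib.Helper23.RPDDAG
import Cfsg.Agent.Lib.Helper34.RPDRE
import Cfsg.Agent.Lib.Helper5.RPDRO

/-!
# S4861: the induction (helper80, RPD server)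
-/

set_option autoImplicit false
set_option linter.style.haveILetI false

namespace Cfsg.Agent.Helper80.RPD

open Cfsg Cfsg.Agent

universe u

/-- (MAIN) the induction -/
theorem main (p : ℕ) [Fact p.Prime] : ∀ (n : ℕ) (G : Type u) [Group G] [Finite G],
    Nat.card G = n → Hyp p G → ∀ P : Sylow p G, (P : Subgroup G).Normal := by
  intro n
  induction n using Nat.strong_induction_on with
  | _ n ih =>
  intro G _ _ hcard hyp P
  obtain ⟨h2, ⟨L, hLn, hLs, hLi⟩, hreal⟩ := hyp
  by_cases hL : L = ⊥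
  · subst hL
    rw [Subgroup.index_bot] at hLi
    have hP : (P : Subgroup G) = ⊥ := by
      apply Subgroup.eq_bot_of_card_eq
      obtain ⟨k, hk⟩ := IsPGroup.iff_card.1 P.isPGroup'
      rcases Nat.eq_zero_or_pos k with h0 | hpos
      · rw [hk, h0, pow_zero]
      · exfalso
        apply hLi
        have h1 : p ∣ Nat.card ↥(P : Subgroup G) := by
          rw [hk]
          exact dvd_pow_self p hpos.ne'
        exact dvd_trans h1 (Subgroup.card_subgroup_dvd_card _)
    rw [hP]
    infer_instance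
  · obtain ⟨N, hN, hN1, hNL, hmin⟩ := Helper90.RPD.exists_min_normal L hLn hL
    haveI := hN
    have hcomm := Helper90.RPD.min_normal_comm L N hLs hN hNL hmin
    have hcardq : Nat.card (G ⧸ N) < n := by
      rw [← hcard, ← Subgroup.index_eq_card, ← Subgroup.index_mul_card N]
      have h1 : 1 < Nat.card ↥N := (Subgroup.one_lt_card_iff_ne_bot N).2 hN1
      have h2 : 0 < N.index := Nat.pos_of_ne_zero (Subgroup.index_ne_zero_of_finite)
      nlinarith
    have hq := ih (Nat.card (G ⧸ N)) hcardq (G ⧸ N) rfl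
      (Helper26.RPD.hyp_quotient p N ⟨h2, ⟨L, hLn, hLs, hLi⟩, hreal⟩)
    obtain ⟨hM, k, hk⟩ := Helper8.RPD.sup_normal_of_quotient p N hq P
    haveI := hM
    rcases hmin ⁅N, (P : Subgroup G) ⊔ N⁆ inferInstance (Subgroup.commutator_le_left _ _) with h0 | h1
    · apply Helper12.RPD.sylow_normal_of_commute p N P hM
      intro n hn x hx
      have h3 : n * x * n⁻¹ * x⁻¹ ∈ ⁅N, (P : Subgroup G) ⊔ N⁆ := by
        rw [← commutatorElement_def]
        exact Subgroup.commutator_mem_commutator hn (le_sup_left (a := (P : Subgroup G)) hx)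
      rw [h0, Subgroup.mem_bot, ← commutatorElement_def, commutatorElement_eq_one_iff_mul_comm] at h3
      exact h3
    · have hdag : ∀ χ : IrrCharacter G, ¬ p ∣ charDegree (χ : G → ℂ) →
          ∀ n ∈ N, (χ : G → ℂ) n = (χ : G → ℂ) 1 := fun χ hχ =>
        Helper23.RPD.dagger p N ((P : Subgroup G) ⊔ N) hN hM hcomm le_sup_right ⟨k, hk⟩ (le_of_eq h1.symm) χ hχ
      have hkey : (∃ χ : IrrCharacter G, (∀ g : G, ((χ : G → ℂ) g).im = 0) ∧
          ∃ n ∈ N, (χ : G → ℂ) n ≠ (χ : G → ℂ) 1) → False := by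
        rintro ⟨χ, hχr, n, hn, hne⟩
        exact hne (hdag χ (hreal χ hχr) n hn)
      rcases Nat.even_or_odd (Nat.card ↥N) with heven | hodd
      · have hsq := Helper8.RPD.min_normal_sq N hN hcomm hmin heven
        rcases Helper12.RPD.frattini_dichotomy p N hN hcomm hmin P hM with hP | ⟨hi, hs⟩
        · exact hP
        · exact (hkey (Helper34.RPD.real_over_even N _ hN hcomm hsq hN1 hi hs)).elim
      · exfalso
        apply hkey
        apply Helper5.RPD.real_over_odd h2 N hN hcomm hodd
        by_contra hall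
        push Not at hall
        have h4 : ⁅N, (P : Subgroup G) ⊔ N⁆ = ⊥ := by
          rw [Subgroup.commutator_eq_bot_iff_le_centralizer]
          intro n hn
          rw [Subgroup.mem_centralizer_iff]
          intro m _
          exact hall n hn m
        rw [h1] at h4
        exact hN1 h4

end Cfsg.Agent.Helper80.RPD
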