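import Mathlib
import Cfsg.Prelude.Def_Characters
import Cfsg.Prelude.Def_Blocks
import Cfsg.Agent.Lib.Helper80.OddIndexReal
import Cfsg.Agent.Lib.Helper80.FrobSchur2
import Cfsg.Agent.Lib.Helper79.DegreeRatio

/-!
# Real characters of a normal subgroup of odd index lie under real characters (helper80, RPD)
-/

set_option autoImplicit false
set_option linter.style.haveILetI false

namespace Cfsg.Agent.Helper80.RPD

open Cfsg Cfsg.Agent.Helper80
open scoped ComplexConjugate

universe u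

/-- (SA) a real character of a normal subgroup of odd index lies under a real character -/
theorem real_under_real {G : Type u} [Group G] [Finite G] (N : Subgroup G) [hN : N.Normal]
    (hodd : Odd N.index) (θ : IrrCharacter ↥N) (hθ : ∀ n : ↥N, ((θ : ↥N → ℂ) n).im = 0) :
    ∃ χ : IrrCharacter G, (∀ g : G, ((χ : G → ℂ) g).im = 0) ∧
      charDegree (θ : ↥N → ℂ) ∣ charDegree (χ : G → ℂ) := by
  classical
  haveI : Fintype G := Fintype.ofFinite G
  haveI : Fintype ↥N := Fintype.ofFinite _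
  haveI : Fintype (IrrCharacter G) := @Fintype.ofFinite _ Helper81.irr_finite
  have hE := fs_restrict_sum N hodd θ
  -- the indicator of θ is nonzero
  have hθν : (Nat.card ↥N : ℂ)⁻¹ * ∑ u : ↥N, (θ : ↥N → ℂ) (u * u) ≠ 0 := by
    intro h0
    obtain ⟨s, hs⟩ := (irr_fs θ).2.1.1 h0
    exact hs (hθ s)
  obtain ⟨χ, hχ⟩ : ∃ χ : IrrCharacter G,
      conj ((Nat.card G : ℂ)⁻¹ * ∑ u : G, (χ : G → ℂ) (u * u)) *
        classInner (fun n : ↥N => (χ : G → ℂ) n) (θ : ↥N → ℂ) ≠ 0 := by
    by_contra h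
    push Not at h
    rw [Finset.sum_eq_zero (fun χ _ => h χ)] at hE
    apply hθν
    have := hE.symm
    rwa [map_eq_zero] at this
  have hν : (Nat.card G : ℂ)⁻¹ * ∑ u : G, (χ : G → ℂ) (u * u) ≠ 0 := by
    intro h
    apply hχ
    rw [h, map_zero, zero_mul]
  have he : classInner (fun n : ↥N => (χ : G → ℂ) n) (θ : ↥N → ℂ) ≠ 0 := by
    intro h
    apply hχ
    rw [h, mul_zero]
  refine ⟨χ, ?_, ?_⟩
  · by_contra hnr
    push Not at hnr
    exact hν ((irr_fs χ).2.1.2 hnr)
  · obtain ⟨r, hr, -⟩ := Helper79.degree_ratio_dvd_index N χ.2 θ.2 he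
    rw [irr_one χ, irr_one θ] at hr
    refine ⟨r, ?_⟩
    have : (charDegree (χ : G → ℂ) : ℂ) = ((r * charDegree (θ : ↥N → ℂ) : ℕ) : ℂ) := by
      rw [hr]; push_cast; ring
    have h2 : charDegree (χ : G → ℂ) = r * charDegree (θ : ↥N → ℂ) := by exact_mod_cast this
    rw [h2, mul_comm]

end Cfsg.Agent.Helper80.RPD
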