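import Mathlib
import Cfsg.Prelude.Def_Characters
import Cfsg.Prelude.Def_Blocks
import Cfsg.Agent.Lib.Helper80.RPDDefs
import Cfsg.Agent.Lib.Helper80.RPDSA
import Cfsg.Agent.Lib.Helper80.RPDMain

/-!
# S4861: reduction to the subgroup generated by the `2`-elements (helper80, RPD server)
-/

set_option autoImplicit false
set_option linter.style.haveILetI false

namespace Cfsg.Agent.Helper80.RPD

open Cfsg

universe u

/-- the subgroup generated by the `q`-elements is normal -/
theorem closure_pow_normal {G : Type u} [Group G] (q : ℕ) :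
    (Subgroup.closure {g : G | ∃ k : ℕ, orderOf g = q ^ k}).Normal := by
  constructor
  intro n hn g
  induction hn using Subgroup.closure_induction with
  | mem x hx =>
    apply Subgroup.subset_closure
    obtain ⟨k, hk⟩ := hx
    refine ⟨k, ?_⟩
    rw [← hk]
    exact orderOf_injective (MulAut.conj g).toMonoidHom (MulAut.conj g).injective x
  | one => simp
  | mul x y _ _ hx hy =>
    have : g * (x * y) * g⁻¹ = (g * x * g⁻¹) * (g * y * g⁻¹) := by group
    rw [this]
    exact Subgroup.mul_mem _ hx hy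
  | inv x _ hx =>
    have : g * x⁻¹ * g⁻¹ = (g * x * g⁻¹)⁻¹ := by group
    rw [this]
    exact Subgroup.inv_mem _ hx

/-- the subgroup generated by the `q`-elements has index prime to `q` -/
theorem not_dvd_index_closure_pow {G : Type u} [Group G] [Finite G] (q : ℕ) [Fact q.Prime] :
    ¬ q ∣ (Subgroup.closure {g : G | ∃ k : ℕ, orderOf g = q ^ k}).index := by
  let S : Sylow q G := default
  have hle : (S : Subgroup G) ≤ Subgroup.closure {g : G | ∃ k : ℕ, orderOf g = q ^ k} := by
    intro x hx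
    apply Subgroup.subset_closure
    obtain ⟨k, hk⟩ := (IsPGroup.iff_orderOf.1 S.isPGroup') ⟨x, hx⟩
    refine ⟨k, ?_⟩
    rw [← hk, ← Subgroup.orderOf_coe]
  intro h
  exact S.not_dvd_index (dvd_trans h (Subgroup.index_dvd_of_le hle))

/-- the reduction step for general `K`, `L` -/
theorem final_aux {G : Type u} [Group G] [Finite G] (p : ℕ) [Fact p.Prime] (K L : Subgroup G)
    (hKn : K.Normal) (hKodd : Odd K.index)
    (hK2 : Subgroup.closure {g : ↥K | ∃ k : ℕ, orderOf g = 2 ^ k} = ⊤)
    (hLn : L.Normal) (hsolv : Group.IsSolvable ↥L) (hLi : ¬ p ∣ L.index)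
    (hreal : ∀ χ : Cfsg.IrrCharacter G, (∀ g : G, ((χ : G → ℂ) g).im = 0) →
      ¬ p ∣ Cfsg.charDegree (χ : G → ℂ))
    (Q : Sylow p ↥K) : (Q : Subgroup ↥K).Normal := by
  haveI := hKn
  haveI := hLn
  apply main p (Nat.card ↥K) ↥K rfl ?_ Q
  refine ⟨hK2, ⟨L.subgroupOf K, hLn.subgroupOf K, ?_, ?_⟩, ?_⟩
  · let f : ↥(L.subgroupOf K) →* ↥L :=
      { toFun := fun x => ⟨((x : ↥K) : G), x.2⟩
        map_one' := rfl
        map_mul' := fun _ _ => rfl }
    have hf : Function.Injective f := by
      intro x y hxy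
      apply Subtype.ext
      apply Subtype.ext
      exact congrArg (fun z : ↥L => (z : G)) hxy
    exact Group.isSolvable_of_isSolvable_injective hf
  · intro h
    apply hLi
    have h1 : (L.subgroupOf K).index = L.relIndex K := rfl
    rw [h1] at h
    exact dvd_trans h (Subgroup.relIndex_dvd_index_of_normal L K)
  · intro θ hθ hdvd
    obtain ⟨χ, hχ, hd⟩ := real_under_real K hKodd θ hθ
    exact hreal χ hχ (dvd_trans hdvd hd)

/-- the statement of S4861 -/
theorem final {G : Type u} [Group G] [Finite G] (p : ℕ) [Fact p.Prime]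
    (hsolv : Group.IsSolvable ↥(Subgroup.closure {g : G | ∃ k : ℕ, orderOf g = p ^ k}))
    (hreal : ∀ χ : Cfsg.IrrCharacter G, (∀ g : G, ((χ : G → ℂ) g).im = 0) →
      ¬ p ∣ Cfsg.charDegree (χ : G → ℂ))
    (Q : Sylow p ↥(Subgroup.closure {g : G | ∃ k : ℕ, orderOf g = 2 ^ k})) :
    (Q : Subgroup ↥(Subgroup.closure {g : G | ∃ k : ℕ, orderOf g = 2 ^ k})).Normal := by
  refine final_aux p _ _ (closure_pow_normal 2) ?_ ?_ (closure_pow_normal p) hsolv
    (not_dvd_index_closure_pow p) hreal Q
  · rw [← Nat.not_even_iff_odd, even_iff_two_dvd]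
    exact not_dvd_index_closure_pow 2
  · have h1 : {g : ↥(Subgroup.closure {g : G | ∃ k : ℕ, orderOf g = 2 ^ k}) |
          ∃ k : ℕ, orderOf g = 2 ^ k} =
        Subtype.val ⁻¹' {g : G | ∃ k : ℕ, orderOf g = 2 ^ k} := by
      ext g
      simp only [Set.mem_setOf_eq, Set.mem_preimage, Subgroup.orderOf_coe]
    rw [h1]
    exact Subgroup.closure_closure_coe_preimage

end Cfsg.Agent.Helper80.RPD
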