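import Mathlib
import Cfsg.Prelude.Def_Characters
import Cfsg.Prelude.Def_Blocks
import Cfsg.Agent.Lib.Helper80.RPDFinal
import Cfsg.Agent.Lib.Helper80.BrauerOdd
import Cfsg.Agent.Lib.Helper79.DegreeRatio

/-!
# S4864: reduction to a normal `p'`-subgroup of odd index (helper80, RPD4 server)
-/

set_option autoImplicit false
set_option linter.style.haveILetI false

namespace Cfsg.Agent.Helper80.RPD4

open Cfsg Cfsg.Agent.Helper80

universe u

/-- an element inverted by conjugation lies in every normal subgroup of odd index -/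
theorem mem_of_real_of_odd_index {G : Type u} [Group G] [Finite G] (K : Subgroup G)
    [hK : K.Normal] (hodd : Odd K.index) (x : G) (hx : IsConj x x⁻¹) : x ∈ K := by
  obtain ⟨c, hc⟩ := isConj_iff.1 hx
  obtain ⟨i, hi⟩ := hodd
  have hg : c⁻¹ * x⁻¹ * c = x := by rw [← hc]; group
  have h3 := inv_trick x c hg i
  have hkk : c ^ (2 * i + 1) ∈ K := by
    rw [← hi]; exact Subgroup.pow_index_mem K c
  set k := c ^ (2 * i + 1) with hk
  -- x * x ∈ K
  have hxx : x * x ∈ K := by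
    have h4 : x * x = (x * k⁻¹ * x⁻¹) * k := by
      calc x * x = x * (k⁻¹ * x⁻¹ * k) := by rw [h3]
        _ = (x * k⁻¹ * x⁻¹) * k := by group
    rw [h4]
    exact K.mul_mem (hK.conj_mem k⁻¹ (K.inv_mem hkk) x) hkk
  have hxm : x ^ (2 * i + 1) ∈ K := by
    rw [← hi]; exact Subgroup.pow_index_mem K x
  have h5 : x = x ^ (2 * i + 1) * ((x * x) ^ i)⁻¹ := by
    rw [← pow_two, ← pow_mul, pow_succ]
    group
  rw [h5]
  exact K.mul_mem hxm (K.inv_mem (K.pow_mem hxx i))

/-- a normal `p`-subgroup lies in every Sylow `p`-subgroup -/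
theorem le_sylow_of_normal {G : Type u} [Group G] [Finite G] (p : ℕ) [Fact p.Prime]
    (R : Subgroup G) [hR : R.Normal] (hRp : IsPGroup p R) (P : Sylow p G) :
    R ≤ (P : Subgroup G) := by
  obtain ⟨Q, hQ⟩ := hRp.exists_le_sylow
  obtain ⟨g, hg⟩ := MulAction.exists_smul_eq G Q P
  intro r hr
  have h1 : g⁻¹ * r * g⁻¹⁻¹ ∈ R := hR.conj_mem r hr g⁻¹
  have h2 : g⁻¹ * r * g⁻¹⁻¹ ∈ (Q : Subgroup G) := hQ h1
  rw [← hg, Sylow.coe_subgroup_smul, Subgroup.mem_pointwise_smul_iff_inv_smul_mem]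
  have h3 : (MulAut.conj g)⁻¹ • r = g⁻¹ * r * g⁻¹⁻¹ := by
    rw [← map_inv, MulAut.smul_def, MulAut.conj_apply]
  rw [h3]
  exact h2

/-- (RED) the statement of S4864 from the main theorem for `p'`-groups `K` of odd index -/
theorem red {G : Type u} [Group G] [Finite G] (p : ℕ) [Fact p.Prime]
    (hmain : ∀ (Γ : Type u) [Group Γ] [Finite Γ] (K : Subgroup Γ) [K.Normal],
      ¬ p ∣ Nat.card K → Odd K.index →
      (∀ χ : IrrCharacter Γ, (∀ g : Γ, ((χ : Γ → ℂ) g).im = 0) → ¬ p ∣ charDegree (χ : Γ → ℂ)) →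
      ∀ (P : Sylow p Γ) (x : Γ), x ∈ K → IsConj x x⁻¹ →
        ∃ g : Γ, g * x * g⁻¹ ∈ Subgroup.centralizer ((P : Subgroup Γ) : Set Γ))
    (hsolv : Group.IsSolvable ↥(Subgroup.closure {g : G | ∃ k : ℕ, orderOf g = p ^ k}))
    (hreal : ∀ χ : Cfsg.IrrCharacter G, (∀ g : G, ((χ : G → ℂ) g).im = 0) →
      ¬ p ∣ Cfsg.charDegree (χ : G → ℂ))
    (P : Sylow p G) (x : G) (hx : IsConj x x⁻¹) :
    ∃ y ∈ Subgroup.normalizer ((P : Subgroup G) : Set G), IsConj x y := by
  classical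
  set K₀ : Subgroup G := Subgroup.closure {g : G | ∃ k : ℕ, orderOf g = 2 ^ k} with hK₀
  haveI hK₀n : K₀.Normal := RPD.closure_pow_normal 2
  have hK₀odd : Odd K₀.index := by
    rw [← Nat.not_even_iff_odd, even_iff_two_dvd]
    exact RPD.not_dvd_index_closure_pow 2
  let Q : Sylow p ↥K₀ := default
  haveI hQn : (Q : Subgroup ↥K₀).Normal := RPD.final p hsolv hreal Q
  haveI hQc : (Q : Subgroup ↥K₀).Characteristic := Sylow.characteristic_of_normal Q hQn
  set R : Subgroup G := (Q : Subgroup ↥K₀).map K₀.subtype with hR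
  haveI hRn : R.Normal := ConjAct.normal_of_characteristic_of_normal
  have hRp : IsPGroup p R := Q.isPGroup'.map K₀.subtype
  have hRK : R ≤ K₀ := Subgroup.map_subtype_le _
  have hRP : R ≤ (P : Subgroup G) := le_sylow_of_normal p R hRp P
  -- the quotient
  let π : G →* G ⧸ R := QuotientGroup.mk' R
  have hπ : Function.Surjective π := QuotientGroup.mk'_surjective R
  have hker : π.ker = R := QuotientGroup.ker_mk' R
  set K : Subgroup (G ⧸ R) := K₀.map π with hK
  haveI hKn : K.Normal := hK₀n.map π hπ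
  have hKodd : Odd K.index := by
    rw [hK, Subgroup.index_map_eq K₀ hπ (by rw [hker]; exact hRK)]
    exact hK₀odd
  have hpK : ¬ p ∣ Nat.card K := by
    let f : ↥K₀ →* G ⧸ R := π.comp K₀.subtype
    have hrange : f.range = K := by
      rw [hK, MonoidHom.range_eq_map, ← Subgroup.map_map]
      congr 1
      rw [← MonoidHom.range_eq_map, Subgroup.range_subtype]
    have hkerf : f.ker = (Q : Subgroup ↥K₀) := by
      ext k
      rw [MonoidHom.mem_ker]
      show π (k : G) = 1 ↔ _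
      rw [← MonoidHom.mem_ker, hker, hR, Subgroup.mem_map]
      constructor
      · rintro ⟨k', hk', hkk'⟩
        have : k' = k := Subtype.ext hkk'
        rwa [← this]
      · intro hk
        exact ⟨k, hk, rfl⟩
    have h1 := Subgroup.index_ker f
    rw [hrange, hkerf] at h1
    rw [← h1]
    exact Q.not_dvd_index
  have hrealΓ : ∀ χ : IrrCharacter (G ⧸ R), (∀ g : G ⧸ R, ((χ : G ⧸ R → ℂ) g).im = 0) →
      ¬ p ∣ charDegree (χ : G ⧸ R → ℂ) := by
    intro ψ hψ
    have h4 := hreal (Cfsg.Agent.Helper79.inflate R ψ) (fun g => by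
      rw [Cfsg.Agent.Helper79.inflate_apply]; exact hψ _)
    rwa [Cfsg.Agent.Helper79.charDegree_inflate] at h4
  have hxK₀ : x ∈ K₀ := mem_of_real_of_odd_index K₀ hK₀odd x hx
  have hxK : π x ∈ K := Subgroup.mem_map_of_mem π hxK₀
  have hxc : IsConj (π x) (π x)⁻¹ := by
    rw [← map_inv]
    exact π.map_isConj hx
  obtain ⟨gq, hgq⟩ := hmain (G ⧸ R) K hpK hKodd hrealΓ (P.mapSurjective hπ) (π x) hxK hxc
  obtain ⟨g, rfl⟩ := hπ gq
  refine ⟨g * x * g⁻¹, ?_, isConj_iff.2 ⟨g, rfl⟩⟩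
  set y := g * x * g⁻¹ with hy
  have hyc : π y ∈ Subgroup.centralizer (((P.mapSurjective hπ : Sylow p (G ⧸ R)) :
      Subgroup (G ⧸ R)) : Set (G ⧸ R)) := by
    have : π y = π g * π x * (π g)⁻¹ := by rw [hy, map_mul, map_mul, map_inv]
    rw [this]
    exact hgq
  -- elements whose image centralizes the image of P normalize P
  have key : ∀ z : G, π z ∈ Subgroup.centralizer (((P.mapSurjective hπ : Sylow p (G ⧸ R)) :
      Subgroup (G ⧸ R)) : Set (G ⧸ R)) → ∀ s ∈ (P : Subgroup G), z * s * z⁻¹ ∈ (P : Subgroup G) := by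
    intro z hz s hs
    have hsP : π s ∈ ((P.mapSurjective hπ : Sylow p (G ⧸ R)) : Subgroup (G ⧸ R)) := by
      rw [Sylow.coe_mapSurjective]
      exact Subgroup.mem_map_of_mem π hs
    have hcomm := (Subgroup.mem_centralizer_iff.mp hz) (π s) hsP
    have h1 : π (z * s * z⁻¹ * s⁻¹) = 1 := by
      rw [map_mul, map_mul, map_mul, map_inv, map_inv, ← hcomm]
      group
    have h2 : z * s * z⁻¹ * s⁻¹ ∈ R := by
      rw [← hker]; exact h1
    have h3 : z * s * z⁻¹ = (z * s * z⁻¹ * s⁻¹) * s := by group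
    rw [h3]
    exact (P : Subgroup G).mul_mem (hRP h2) hs
  have hyinv : π y⁻¹ ∈ Subgroup.centralizer (((P.mapSurjective hπ : Sylow p (G ⧸ R)) :
      Subgroup (G ⧸ R)) : Set (G ⧸ R)) := by
    rw [map_inv]
    exact Subgroup.inv_mem _ hyc
  rw [Subgroup.mem_normalizer_iff]
  intro h
  constructor
  · intro hh
    exact key y hyc h hh
  · intro hh
    have := key y⁻¹ hyinv _ hh
    have h2 : y⁻¹ * (y * h * y⁻¹) * y⁻¹⁻¹ = h := by group
    rwa [h2] at this

end Cfsg.Agent.Helper80.RPD4
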