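import Mathlib
import Cfsg.Prelude.Def_Characters
import Cfsg.Prelude.Def_Blocks
import Cfsg.Agent.Lib.Helper80.RMKDefs
import Cfsg.Agent.Lib.Helper80.RMKBasic
import Cfsg.Agent.Lib.Helper80.RPD4RED
import Cfsg.Agent.Lib.Helper12.RMKCNTEQ
import Cfsg.Agent.Lib.Helper12.RMKREAL2
import Cfsg.Agent.Lib.Helper12.RMKTG
import Cfsg.Agent.Lib.Helper41.RMKSUM
import Cfsg.Agent.Lib.Helper42.RMKISO
import Cfsg.Agent.Lib.Helper42.RMKSTEPA
import Cfsg.Agent.Lib.Helper78.RMKBL
import Cfsg.Agent.Lib.Helper79.RMKCLIF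
import Cfsg.Agent.Lib.Helper90.RMKT3

/-!
# S4581: the induction step over a normal elementary abelian `2`-subgroup (helper80, RMK server)
-/

set_option autoImplicit false
set_option linter.style.haveILetI false

namespace Cfsg.Agent.Helper80.RMK

open Cfsg Cfsg.Agent.Helper80
open Cfsg.Agent.Helper12.RMK (cnt_eq_iff real_of_exponent_two two_group_iff)
open Cfsg.Agent.Helper41.RMK (sum_over_fixed)
open Cfsg.Agent.Helper42.RMK (cnt_congr step_odd)
open Cfsg.Agent.Helper78.RMK (invariant_count)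
open Cfsg.Agent.Helper79.RMK (clifford_count)
open Cfsg.Agent.Helper90.RMK (self_normalizing_of_all_real)
open scoped ComplexConjugate

universe u

/-- the count over `θ` only depends on the subgroup -/
theorem cntOver_congr (r : Bool) {G : Type u} [Group G] {M H H' : Subgroup G} (hMH : M ≤ H)
    (hMH' : M ≤ H') (h : H = H') (θ : IrrCharacter ↥M) :
    cntOver r hMH θ = cntOver r hMH' θ := by
  subst h
  rfl

/-- (STEPB) the induction step over a normal elementary abelian `2`-subgroup -/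
theorem step_even (r : Bool) {G : Type u} [Group G] [Finite G] [Group.IsSolvable G]
    (M : Subgroup G) [hMn : M.Normal] (hM : M ≠ ⊥) (hsq : ∀ m ∈ M, m * m = 1)
    (hIH : IH.{u} r (Nat.card G)) (P : Sylow 2 G)
    (hself : r = false → Subgroup.normalizer ((P : Subgroup G) : Set G) = (P : Subgroup G)) :
    cnt r G = cnt r ↥(Subgroup.normalizer ((P : Subgroup G) : Set G)) := by
  classical
  set N : Subgroup G := Subgroup.normalizer ((P : Subgroup G) : Set G) with hN
  have hMp : IsPGroup 2 ↥M := by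
    intro m
    refine ⟨1, ?_⟩
    apply Subtype.ext
    have := hsq m m.2
    simp only [pow_one, Subgroup.coe_pow, Subgroup.coe_one]
    rw [pow_two]
    exact this
  have hMP : M ≤ (P : Subgroup G) := RPD4.le_sylow_of_normal 2 M hMp P
  have hPN : (P : Subgroup G) ≤ N := Subgroup.le_normalizer
  have hMN : M ≤ N := le_trans hMP hPN
  have hPodd : Odd (P : Subgroup G).index := by
    rw [← Nat.not_even_iff_odd, even_iff_two_dvd]
    exact P.not_dvd_index
  have s1 := sum_over_fixed r M P ⊤ le_top le_top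
  have s2 := sum_over_fixed r M P N hMN hPN
  have key : ∀ θ : {θ : IrrCharacter ↥M // (P : Subgroup G) ≤ stab M θ},
      cntOver r (le_top : M ≤ ⊤) θ.1 * Nat.card ↥(N ⊓ ⊤ ⊓ stab M θ.1) =
        cntOver r hMN θ.1 * Nat.card ↥(N ⊓ N ⊓ stab M θ.1) := by
    intro θ
    have hreal : r = true → ∀ m : ↥M, ((θ.1 : ↥M → ℂ) m).im = 0 :=
      fun _ m => real_of_exponent_two M hsq θ.1 m
    have hstabodd : Odd (stab M θ.1).index := by
      obtain ⟨d, hd⟩ := Subgroup.index_dvd_of_le θ.2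
      rw [hd] at hPodd
      exact (Nat.odd_mul.1 hPodd).1
    have odd1 : Odd (((⊤ : Subgroup G) ⊓ stab M θ.1).relIndex ⊤) := by
      rw [Subgroup.relIndex_top_right, top_inf_eq]
      exact hstabodd
    have hPle : (P : Subgroup G) ≤ N ⊓ stab M θ.1 := le_inf hPN θ.2
    have odd2 : Odd ((N ⊓ stab M θ.1).relIndex N) := by
      have h1 : (N ⊓ stab M θ.1).relIndex N ∣ (P : Subgroup G).relIndex N :=
        Subgroup.relIndex_dvd_of_le_left N hPle
      have h2 : (P : Subgroup G).relIndex N ∣ (P : Subgroup G).index :=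
        ⟨N.index, (Subgroup.relIndex_mul_index hPN).symm⟩
      obtain ⟨d, hd⟩ := dvd_trans h1 h2
      rw [hd] at hPodd
      exact (Nat.odd_mul.1 hPodd).1
    have c1 := clifford_count r M ⊤ le_top θ.1 hreal odd1
    have hsolvT : Group.IsSolvable ↥((⊤ : Subgroup G) ⊓ stab M θ.1) := inferInstance
    have b := invariant_count r M hM hsq P hMP hself hIH ((⊤ : Subgroup G) ⊓ stab M θ.1)
      hsolvT (le_inf le_top θ.2) θ.1 inf_le_right
    have c2 := clifford_count r M N hMN θ.1 hreal odd2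
    have heq : N ⊓ ((⊤ : Subgroup G) ⊓ stab M θ.1) = N ⊓ stab M θ.1 := by rw [top_inf_eq]
    have e1 : cntOver r (le_top : M ≤ ⊤) θ.1 = cntOver r hMN θ.1 := by
      rw [c1, c2]
      refine Eq.trans b ?_
      exact cntOver_congr r _ _ heq θ.1
    have e2 : Nat.card ↥(N ⊓ ⊤ ⊓ stab M θ.1) = Nat.card ↥(N ⊓ N ⊓ stab M θ.1) := by
      rw [inf_top_eq, inf_idem]
    rw [e1, e2]
  have hsum : cnt r ↥(⊤ : Subgroup G) * Nat.card ↥(N ⊓ ⊤) = cnt r ↥N * Nat.card ↥(N ⊓ N) := by
    rw [s1, s2]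
    exact finsum_congr key
  have hcard : Nat.card ↥(N ⊓ ⊤) = Nat.card ↥(N ⊓ N) := by rw [inf_top_eq, inf_idem]
  rw [hcard] at hsum
  have hpos : 0 < Nat.card ↥(N ⊓ N) := Nat.card_pos
  have h3 : cnt r ↥(⊤ : Subgroup G) = cnt r ↥N := Nat.eq_of_mul_eq_mul_right hpos hsum
  rw [← h3]
  exact cnt_congr r (Subgroup.topEquiv (G := G)).symm

end Cfsg.Agent.Helper80.RMK
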