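import Mathlib
import Cfsg.Prelude.Def_Characters
import Cfsg.Prelude.Def_Blocks
import Cfsg.Agent.Lib.Helper80.RMKDefs
import Cfsg.Agent.Lib.Helper80.RMKBasic
import Cfsg.Agent.Lib.Helper80.RMKStepB
import Cfsg.Agent.Lib.Helper90.RPDMIN
import Cfsg.Agent.Lib.Helper90.RPDAB
import Cfsg.Agent.Lib.Helper8.RPDEL2
import Cfsg.Agent.Lib.Helper90.RPD3PRIME

/-!
# S4581: the main induction and the final assembly (helper80, RMK server)
-/

set_option autoImplicit false
set_option linter.style.haveILetI false

namespace Cfsg.Agent.Helper80.RMK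

open Cfsg Cfsg.Agent.Helper80
open Cfsg.Agent.Helper12.RMK (cnt_eq_iff real_of_exponent_two two_group_iff)
open Cfsg.Agent.Helper41.RMK (sum_over_fixed)
open Cfsg.Agent.Helper42.RMK (cnt_congr step_odd)
open Cfsg.Agent.Helper78.RMK (invariant_count)
open Cfsg.Agent.Helper79.RMK (clifford_count)
open Cfsg.Agent.Helper90.RMK (self_normalizing_of_all_real)
open scoped ComplexConjugate

universe u

/-- the main count: a solvable group and the normalizer of a Sylow `2`-subgroup have equally many
good characters (for `r = false`: when the Sylow `2`-subgroup is self-normalizing) -/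
theorem main_count (r : Bool) : ∀ (n : ℕ) (G : Type u) [Group G] [Finite G]
    [Group.IsSolvable G], Nat.card G = n → ∀ P : Sylow 2 G,
    (r = false → Subgroup.normalizer ((P : Subgroup G) : Set G) = (P : Subgroup G)) →
    cnt r G = cnt r ↥(Subgroup.normalizer ((P : Subgroup G) : Set G)) := by
  intro n
  induction n using Nat.strong_induction_on with
  | _ n ih =>
    intro G _ _ _ hn P hself
    have hIH : IH.{u} r (Nat.card G) := by
      intro H _ _ _ hlt Q hQ
      exact ih (Nat.card H) (hn ▸ hlt) H rfl Q hQ
    by_cases htriv : (⊤ : Subgroup G) = ⊥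
    · have hNtop : Subgroup.normalizer ((P : Subgroup G) : Set G) = ⊤ := by
        rw [eq_top_iff]
        intro g _
        have h1 : g ∈ (⊥ : Subgroup G) := htriv ▸ Subgroup.mem_top g
        rw [Subgroup.mem_bot] at h1
        rw [h1]
        exact one_mem _
      have e : G ≃* ↥(Subgroup.normalizer ((P : Subgroup G) : Set G)) :=
        (Subgroup.topEquiv (G := G)).symm.trans (MulEquiv.subgroupCongr hNtop.symm)
      exact cnt_congr r e
    · obtain ⟨M, hMn, hM1, -, hmin⟩ :=
        Cfsg.Agent.Helper90.RPD.exists_min_normal (⊤ : Subgroup G) inferInstance htriv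
      have hsolvtop : Group.IsSolvable ↥(⊤ : Subgroup G) := inferInstance
      have hcomm := Cfsg.Agent.Helper90.RPD.min_normal_comm (⊤ : Subgroup G) M hsolvtop hMn
        le_top hmin
      haveI := hMn
      rcases Cfsg.Agent.Helper90.RPD3.min_normal_pgroup_or 2 M hMn hcomm hmin with h2 | hodd
      · have heven : Even (Nat.card ↥M) := by
          obtain ⟨k, hk⟩ := (IsPGroup.iff_card).1 h2
          rw [hk]
          have hk0 : k ≠ 0 := by
            intro h0
            rw [h0, pow_zero] at hk
            apply hM1
            exact (Subgroup.card_eq_one).1 hk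
          exact (Nat.even_pow.2 ⟨even_two, hk0⟩)
        have hsq := Cfsg.Agent.Helper8.RPD.min_normal_sq M hMn hcomm hmin heven
        exact step_even r M hM1 hsq hIH P hself
      · have hodd' : Odd (Nat.card ↥M) := by
          rw [← Nat.not_even_iff_odd]
          intro h
          exact hodd (even_iff_two_dvd.1 h)
        exact step_odd r M hM1 hodd' hcomm hIH P hself

/-- the statement of S4581 -/
theorem final {G : Type u} [Group G] [Finite G] [Group.IsSolvable G] (P : Sylow 2 G) :
    Nat.card {χ : Cfsg.IrrCharacter G // (∀ g : G, ((χ : G → ℂ) g).im = 0) ∧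
        Odd (Cfsg.charDegree (χ : G → ℂ))} =
      Nat.card {ψ : Cfsg.IrrCharacter (Subgroup.normalizer ((P : Subgroup G) : Set G)) //
        (∀ g, ((ψ : Subgroup.normalizer ((P : Subgroup G) : Set G) → ℂ) g).im = 0) ∧
        Odd (Cfsg.charDegree (ψ : Subgroup.normalizer ((P : Subgroup G) : Set G) → ℂ))} ∧
    ((∀ χ : Cfsg.IrrCharacter G, Odd (Cfsg.charDegree (χ : G → ℂ)) →
        ∀ g : G, ((χ : G → ℂ) g).im = 0) ↔
      (commutator (P : Subgroup G) = frattini (P : Subgroup G) ∧
        Subgroup.normalizer ((P : Subgroup G) : Set G) = (P : Subgroup G))) := by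
  classical
  -- the counts in the statement are `cnt true`
  have hcnt : ∀ (A : Type u) [Group A],
      Nat.card {χ : IrrCharacter A // (∀ a : A, ((χ : A → ℂ) a).im = 0) ∧
        Odd (charDegree (χ : A → ℂ))} = cnt true A := by
    intro A _
    unfold cnt Good
    apply Nat.card_congr
    exact Equiv.subtypeEquivRight (fun χ => ⟨fun h => ⟨fun _ => h.1, h.2⟩,
      fun h => ⟨h.1 rfl, h.2⟩⟩)
  have hU1 := main_count true (Nat.card G) G rfl P (fun h => by cases h)
  have hPQ : IsPGroup 2 ↥(P : Subgroup G) := P.isPGroup'
  refine ⟨?_, ?_⟩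
  · rw [hcnt G, hcnt ↥(Subgroup.normalizer ((P : Subgroup G) : Set G))]
    exact hU1
  · constructor
    · intro hall
      have hself := self_normalizing_of_all_real P hall
      have hU0 := main_count false (Nat.card G) G rfl P (fun _ => hself)
      have h1 : cnt true G = cnt false G := cnt_eq_iff.2 hall
      have e : ↥(Subgroup.normalizer ((P : Subgroup G) : Set G)) ≃* ↥(P : Subgroup G) :=
        MulEquiv.subgroupCongr hself
      have h2 : cnt true ↥(P : Subgroup G) = cnt false ↥(P : Subgroup G) := by
        rw [← cnt_congr true e, ← cnt_congr false e, ← hU1, ← hU0]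
        exact h1
      exact ⟨(two_group_iff hPQ).1 h2, hself⟩
    · rintro ⟨hcf, hself⟩
      have hU0 := main_count false (Nat.card G) G rfl P (fun _ => hself)
      have e : ↥(Subgroup.normalizer ((P : Subgroup G) : Set G)) ≃* ↥(P : Subgroup G) :=
        MulEquiv.subgroupCongr hself
      have h2 : cnt true ↥(P : Subgroup G) = cnt false ↥(P : Subgroup G) :=
        (two_group_iff hPQ).2 hcf
      have h1 : cnt true G = cnt false G := by
        rw [hU1, hU0, cnt_congr true e, cnt_congr false e]
        exact h2
      exact cnt_eq_iff.1 h1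

end Cfsg.Agent.Helper80.RMK
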