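import Mathlib
import Cfsg.Prelude.Def_Characters
import Cfsg.Prelude.Def_Blocks
import Cfsg.Agent.Lib.Helper23.RPDDAG
import Cfsg.Agent.Lib.Helper79.Integrality
import Cfsg.Agent.Lib.Helper79.LinearDeg
import Cfsg.Agent.Lib.Helper81.CharClifford
import Cfsg.Agent.Lib.Helper3.CharDecomp
import Cfsg.Agent.Lib.Helper80.CharBasic

/-!
# RPD2 (DAG2): characters of `p'`-degree are trivial on normal subgroups inside `P'` (helper80)
-/

set_option autoImplicit false
set_option linter.style.haveILetI false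

namespace Cfsg.Agent.Helper80.RPD2

open Cfsg Cfsg.Agent
open scoped ComplexConjugate

universe u

/-- (DAG2) -/
theorem dagger_derived {G : Type u} [Group G] [Finite G] (p : ℕ) [Fact p.Prime] (P : Sylow p G)
    (V : Subgroup G) (hV : V.Normal) (hVP : V ≤ ⁅(P : Subgroup G), (P : Subgroup G)⁆)
    (χ : IrrCharacter G) (hχ : ¬ p ∣ charDegree (χ : G → ℂ)) :
    ∀ v ∈ V, (χ : G → ℂ) v = (χ : G → ℂ) 1 := by
  classical
  haveI : Fintype G := Fintype.ofFinite G
  haveI : Fintype ↥(P : Subgroup G) := Fintype.ofFinite _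
  haveI : Fintype ↥V := Fintype.ofFinite _
  have hVP' : V ≤ (P : Subgroup G) := le_trans hVP (Subgroup.commutator_le_self _)
  -- the restriction to `P`
  set f : ↥(P : Subgroup G) → ℂ := fun x => (χ : G → ℂ) x with hf
  have hfc : IsCharacter ↥(P : Subgroup G) f :=
    Helper81.isCharacter_restrict (P : Subgroup G) (Helper80.isCharacter_of_irr χ.2)
  have hfdeg : charDegree f = charDegree (χ : G → ℂ) := by
    unfold charDegree
    rfl
  obtain ⟨ξ, hξne, hξp⟩ := Helper23.RPD.dag_exists_constituent p hfc (by rw [hfdeg]; exact hχ)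
  -- `ξ` is linear
  have hξ1 : charDegree (ξ : ↥(P : Subgroup G) → ℂ) = 1 := by
    have hd := Helper79.irr_degree_dvd_card ξ
    obtain ⟨a, ha⟩ := IsPGroup.iff_card.1 P.isPGroup'
    rw [ha] at hd
    obtain ⟨j, -, hj⟩ := (Nat.dvd_prime_pow (Fact.out : p.Prime)).1 hd
    rcases Nat.eq_zero_or_pos j with h0 | hpos
    · rw [hj, h0, pow_zero]
    · exfalso
      apply hξp
      rw [hj]
      exact dvd_pow_self p hpos.ne'
  have hξV : ∀ v : ↥V, (ξ : ↥(P : Subgroup G) → ℂ) ⟨v, hVP' v.2⟩ = 1 := by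
    intro v
    have hker := Helper79.commutator_le_irrKer_of_degree_one ξ hξ1
    have hmem : (⟨v, hVP' v.2⟩ : ↥(P : Subgroup G)) ∈ commutator ↥(P : Subgroup G) := by
      have h2 : (commutator ↥(P : Subgroup G)).map (P : Subgroup G).subtype =
          ⁅(P : Subgroup G), (P : Subgroup G)⁆ := Subgroup.map_subtype_commutator _
      have h3 : (v : G) ∈ (commutator ↥(P : Subgroup G)).map (P : Subgroup G).subtype := by
        rw [h2]
        exact hVP v.2
      obtain ⟨y, hy, hyv⟩ := h3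
      have : y = ⟨v, hVP' v.2⟩ := Subtype.ext hyv
      rwa [← this]
    have h4 := (Helper79.mem_irrKer ξ _).1 (hker hmem)
    rw [h4, Helper80.irr_one ξ, hξ1, Nat.cast_one]
  -- sums over `V`
  have hk : ∀ ζ : IrrCharacter ↥(P : Subgroup G), ∃ k : ℕ,
      ∑ v : ↥V, (ζ : ↥(P : Subgroup G) → ℂ) ⟨v, hVP' v.2⟩ = (k : ℂ) * (Nat.card ↥V : ℂ) := by
    intro ζ
    have hres : IsCharacter ↥V (fun v : ↥V => (ζ : ↥(P : Subgroup G) → ℂ) ⟨v, hVP' v.2⟩) := by
      obtain ⟨n, ρ, hρ⟩ := Helper80.isCharacter_of_irr ζ.2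
      refine ⟨n, ρ.comp (Subgroup.inclusion hVP'), ?_⟩
      funext v
      rw [← hρ]
      rfl
    obtain ⟨k, hk⟩ := Helper81.exists_nat_classInner hres (Helper3.isIrrCharacter_one (G := ↥V))
    refine ⟨k, ?_⟩
    unfold classInner at hk
    have hV0 : (Nat.card ↥V : ℂ) ≠ 0 := by exact_mod_cast (Nat.card_pos (α := ↥V)).ne'
    rw [← hk]
    field_simp
    simp
  choose kk hkk using hk
  have hdecomp := Helper3.isCharacter_eq_sum_irrMult hfc
  have hsum : ∑ v : ↥V, (χ : G → ℂ) v =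
      ((∑ ζ : IrrCharacter ↥(P : Subgroup G), Helper3.irrMult f ζ * kk ζ : ℕ) : ℂ) *
        (Nat.card ↥V : ℂ) := by
    have h1 : ∀ v : ↥V, (χ : G → ℂ) v =
        ∑ ζ : IrrCharacter ↥(P : Subgroup G), (Helper3.irrMult f ζ : ℂ) *
          (ζ : ↥(P : Subgroup G) → ℂ) ⟨v, hVP' v.2⟩ := by
      intro v
      have h2 : (χ : G → ℂ) v = f ⟨v, hVP' v.2⟩ := rfl
      rw [h2]
      conv_lhs => rw [hdecomp]
      simp [Finset.sum_apply]
    simp only [h1]
    rw [Finset.sum_comm]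
    push_cast
    rw [Finset.sum_mul]
    apply Finset.sum_congr rfl
    intro ζ _
    rw [← Finset.mul_sum, hkk ζ]
    ring
  have hpos : 0 < ∑ ζ : IrrCharacter ↥(P : Subgroup G), Helper3.irrMult f ζ * kk ζ := by
    apply Finset.sum_pos'
    · intro ζ _
      exact Nat.zero_le _
    · refine ⟨ξ, Finset.mem_univ _, ?_⟩
      have hm : Helper3.irrMult f ξ ≠ 0 := by
        intro h0
        apply hξne
        rw [Helper3.irrMult_spec hfc ξ, h0, Nat.cast_zero]
      have hkξ : kk ξ = 1 := by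
        have h5 := hkk ξ
        simp only [hξV, Finset.sum_const, Finset.card_univ, nsmul_eq_mul, mul_one] at h5
        have hV0 : (Nat.card ↥V : ℂ) ≠ 0 := by exact_mod_cast (Nat.card_pos (α := ↥V)).ne'
        rw [← Nat.card_eq_fintype_card] at h5
        have h6 : (1 : ℂ) * (Nat.card ↥V : ℂ) = (kk ξ : ℂ) * (Nat.card ↥V : ℂ) := by
          rw [one_mul]; exact h5
        have h7 := mul_right_cancel₀ hV0 h6
        exact_mod_cast h7.symm
      rw [hkξ, mul_one]
      exact Nat.pos_of_ne_zero hm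
  -- Clifford for the trivial character of `V`
  have hne : classInner (fun v : ↥V => (χ : G → ℂ) v) (fun _ : ↥V => (1 : ℂ)) ≠ 0 := by
    unfold classInner
    simp only [map_one, mul_one]
    rw [hsum]
    have hV0 : (Nat.card ↥V : ℂ) ≠ 0 := by exact_mod_cast (Nat.card_pos (α := ↥V)).ne'
    have h8 : ((∑ ζ : IrrCharacter ↥(P : Subgroup G), Helper3.irrMult f ζ * kk ζ : ℕ) : ℂ) ≠ 0 := by
      exact_mod_cast hpos.ne'
    field_simp
    exact h8
  have hcl := Helper81.clifford V hV χ.2 (Helper3.isIrrCharacter_one (G := ↥V)) hne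
  have hfin := Helper81.conjSet_finite V hV (fun _ : ↥V => (1 : ℂ))
  rw [finsum_mem_eq_finite_toFinset_sum _ hfin] at hcl
  intro v hv
  have h9 := congrFun hcl ⟨v, hv⟩
  have h10 := congrFun hcl 1
  simp only [Pi.smul_apply, Finset.sum_apply, smul_eq_mul] at h9 h10
  have h11 : ∀ ψ ∈ hfin.toFinset, ψ ⟨v, hv⟩ = ψ 1 := by
    intro ψ hψ
    rw [Set.Finite.mem_toFinset] at hψ
    obtain ⟨g, rfl⟩ := hψ
    rfl
  rw [Finset.sum_congr rfl h11] at h9
  have h12 : (χ : G → ℂ) v = (χ : G → ℂ) ((1 : ↥V) : G) := by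
    rw [show (χ : G → ℂ) v = (χ : G → ℂ) ((⟨v, hv⟩ : ↥V) : G) from rfl, h9, h10]
  rw [h12, Subgroup.coe_one]

end Cfsg.Agent.Helper80.RPD2
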