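import Mathlib
import Cfsg.Prelude.Def_Characters
import Cfsg.Prelude.Def_Blocks
import Cfsg.Agent.Lib.Helper5.RPD2RO2
import Cfsg.Agent.Lib.Helper80.RPD2DAG2
import Cfsg.Agent.Lib.Helper41.RPD2GT2

/-!
# S4862 (helper80, RPD2 server): normal subgroups inside `P'` are centralized by `O^{2'}(G)`
-/

set_option autoImplicit false
set_option linter.style.haveILetI false

namespace Cfsg.Agent.Helper80.RPD2

open Cfsg Cfsg.Agent

universe u

/-- the derived subgroup of a nontrivial `p`-subgroup is smaller -/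
theorem card_commutator_lt {G : Type u} [Group G] [Finite G] (p : ℕ) [Fact p.Prime]
    (N : Subgroup G) (hN : IsPGroup p ↥N) (hN1 : N ≠ ⊥) :
    Nat.card ↥(⁅N, N⁆ : Subgroup G) < Nat.card ↥N := by
  haveI : Nontrivial ↥N := (Subgroup.nontrivial_iff_ne_bot N).2 hN1
  haveI : Group.IsNilpotent ↥N := hN.isNilpotent
  have h1 : commutator ↥N < ⊤ := IsSolvable.commutator_lt_top_of_nontrivial ↥N
  have h2 : (commutator ↥N).map N.subtype = ⁅N, N⁆ := Subgroup.map_subtype_commutator N
  have h3 : Nat.card ↥(⁅N, N⁆ : Subgroup G) = Nat.card ↥(commutator ↥N) := by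
    rw [← h2]
    exact Subgroup.card_map_of_injective N.subtype_injective
  rw [h3]
  have h4 := Set.Finite.card_lt_card (Set.toFinite ((⊤ : Subgroup ↥N) : Set ↥N))
    (show ((commutator ↥N : Subgroup ↥N) : Set ↥N) ⊂ ((⊤ : Subgroup ↥N) : Set ↥N) from h1)
  have h5 : Nat.card ↥(⊤ : Subgroup ↥N) = Nat.card ↥N := Subgroup.card_top
  rw [← h5]
  simpa using h4

/-- if all real-valued irreducible characters of `G` are trivial on the normal subgroup `N` of odd
order, then every `2`-element of `G` acts trivially on `N / N'` -/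
theorem act_trivial_mod_derived {G : Type u} [Group G] [Finite G] (N : Subgroup G)
    (hN : N.Normal) (hNodd : Odd (Nat.card ↥N))
    (htriv : ∀ χ : IrrCharacter G, (∀ g : G, ((χ : G → ℂ) g).im = 0) →
      ∀ n ∈ N, (χ : G → ℂ) n = (χ : G → ℂ) 1)
    (s : G) (k : ℕ) (hk : orderOf s = 2 ^ k) :
    ∀ n ∈ N, (s * n * s⁻¹) * n⁻¹ ∈ (⁅N, N⁆ : Subgroup G) := by
  have hdesc : ∀ j : ℕ, j ≤ k → ∀ n ∈ N,
      (s ^ (2 ^ (k - j)) * n * (s ^ (2 ^ (k - j)))⁻¹) * n⁻¹ ∈ (⁅N, N⁆ : Subgroup G) := by
    intro j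
    induction j with
    | zero =>
      intro _ n _
      rw [Nat.sub_zero, ← hk, pow_orderOf_eq_one]
      simp
    | succ j ihj =>
      intro hj n hn
      by_contra hcon
      have hj' : j ≤ k := Nat.le_of_succ_le hj
      have hsq : (s ^ (2 ^ (k - (j + 1)))) ^ 2 = s ^ (2 ^ (k - j)) := by
        rw [← pow_mul, ← pow_succ]
        congr 2
        omega
      obtain ⟨χ, hχr, n', hn', hne⟩ := Helper5.RPD2.real_over_odd_gen N hN hNodd (s ^ (2 ^ (k - (j + 1))))
        (by
          intro n hn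
          rw [hsq]
          exact ihj hj' n hn)
        ⟨n, hn, hcon⟩
      exact hne (htriv χ hχr n' hn')
  intro n hn
  have := hdesc k le_rfl n hn
  simpa using this

/-- the statement of S4862 -/
theorem final {G : Type u} [Group G] [Finite G] (p : ℕ) [Fact p.Prime] (hp : p ≠ 2)
    (hreal : ∀ χ : Cfsg.IrrCharacter G, (∀ g : G, ((χ : G → ℂ) g).im = 0) →
      ¬ p ∣ Cfsg.charDegree (χ : G → ℂ))
    (P : Sylow p G) (M : Subgroup G) (hM : M.Normal)
    (hMP : M ≤ ⁅(P : Subgroup G), (P : Subgroup G)⁆) :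
    (Subgroup.closure {g : G | ∃ k : ℕ, orderOf g = 2 ^ k}) ≤
      Subgroup.centralizer (M : Set G) := by
  have hpodd : Odd p := (Fact.out : p.Prime).odd_of_ne_two hp
  have hP'P : ⁅(P : Subgroup G), (P : Subgroup G)⁆ ≤ (P : Subgroup G) :=
    Subgroup.commutator_le_self _
  rw [Subgroup.closure_le]
  rintro s ⟨k, hk⟩
  -- every normal subgroup of `G` inside `M` is centralized by `s`
  have key : ∀ (c : ℕ) (N : Subgroup G), N.Normal → N ≤ M → Nat.card ↥N = c →
      ∀ n ∈ N, s * n = n * s := by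
    intro c
    induction c using Nat.strong_induction_on with
    | _ c ih =>
    intro N hN hNM hc
    haveI := hN
    by_cases hN1 : N = ⊥
    · intro n hn
      rw [hN1, Subgroup.mem_bot] at hn
      rw [hn, mul_one, one_mul]
    have hNP : N ≤ (P : Subgroup G) := le_trans hNM (le_trans hMP hP'P)
    have hNp : IsPGroup p ↥N := P.isPGroup'.to_le hNP
    have hVlt := card_commutator_lt p N hNp hN1
    have hVn : (⁅N, N⁆ : Subgroup G).Normal := inferInstance
    have hVN : (⁅N, N⁆ : Subgroup G) ≤ N := Subgroup.commutator_le_self N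
    have hVc : ∀ v ∈ (⁅N, N⁆ : Subgroup G), s * v = v * s :=
      ih _ (hc ▸ hVlt) ⁅N, N⁆ hVn (le_trans hVN hNM) rfl
    -- orders are odd
    have hoddel : ∀ v ∈ (P : Subgroup G), Odd (orderOf v) := by
      intro v hv
      obtain ⟨j, hj⟩ := (IsPGroup.iff_orderOf.1 P.isPGroup') ⟨v, hv⟩
      rw [← Subgroup.orderOf_coe] at hj
      rw [show orderOf v = p ^ j from hj]
      exact hpodd.pow
    have hNodd : Odd (Nat.card ↥N) := by
      obtain ⟨j, hj⟩ := IsPGroup.iff_card.1 hNp
      rw [hj]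
      exact hpodd.pow
    -- all real characters are trivial on `N`
    have htriv : ∀ χ : IrrCharacter G, (∀ g : G, ((χ : G → ℂ) g).im = 0) →
        ∀ n ∈ N, (χ : G → ℂ) n = (χ : G → ℂ) 1 := fun χ hχ =>
      Helper80.RPD2.dagger_derived p P N hN (le_trans hNM hMP) χ (hreal χ hχ)
    have hact := act_trivial_mod_derived N hN hNodd htriv s k hk
    exact Helper41.RPD2.centralize_of_quotient s k hk N ⁅N, N⁆ hact hVc
      (fun v hv => hoddel v (hNP (hVN hv)))
  show s ∈ Subgroup.centralizer (M : Set G)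
  rw [Subgroup.mem_centralizer_iff]
  intro m hm
  exact (key _ M hM le_rfl rfl m hm).symm

end Cfsg.Agent.Helper80.RPD2
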