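import Mathlib
import Cfsg.Prelude.Def_Characters
import Cfsg.Prelude.Def_Blocks
import Cfsg.Agent.Lib.Helper80.RPD3Defs
import Cfsg.Agent.Lib.Helper12.RPD3CEN3
import Cfsg.Agent.Lib.Helper12.RPD3FRAT3
import Cfsg.Agent.Lib.Helper12.RPD3HOM
import Cfsg.Agent.Lib.Helper30.RPD3EMB
import Cfsg.Agent.Lib.Helper34.RPD3HQ3
import Cfsg.Agent.Lib.Helper22.RPD3TQ1
import Cfsg.Agent.Lib.Helper22.RPD3TQ2
import Cfsg.Agent.Lib.Helper22.RPD3PG
import Cfsg.Agent.Lib.Helper22.RPD3DED
import Cfsg.Agent.Lib.Helper90.RPD3PRIME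
import Cfsg.Agent.Lib.Helper80.RPD2Main
import Cfsg.Agent.Lib.Helper90.RPDMIN
import Cfsg.Agent.Lib.Helper90.RPDAB
import Cfsg.Agent.Lib.Helper8.RPDEL2
import Cfsg.Agent.Lib.Helper23.RPDDAG
import Cfsg.Agent.Lib.Helper34.RPDRE

/-!
# S4863: the induction (helper80, RPD3 server)
-/

set_option autoImplicit false
set_option linter.style.haveILetI false

namespace Cfsg.Agent.Helper80.RPD3

open Cfsg Cfsg.Agent

universe u

/-- (MAIN3) the induction -/
theorem main3 (p : ℕ) [Fact p.Prime] : ∀ (n : ℕ) (G : Type u) [Group G] [Finite G],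
    Nat.card G = n → ∀ K U : Subgroup G, Hyp3 p G K U → ∀ T : Subgroup G, T ≤ U →
      IsPGroup p ↥T → ¬ p ∣ T.relIndex U → T.Normal := by
  intro n
  induction n using Nat.strong_induction_on with
  | _ n ih =>
  intro G _ _ hcard K U hyp T hTU hT hTi
  obtain ⟨hKn, hUn, hKU, hidx, hK2, ⟨L, hLn, hLs, hLi⟩, hreal⟩ := hyp
  haveI := hKn
  haveI := hUn
  by_cases hL : L = ⊥
  · subst hL
    rw [Subgroup.index_bot] at hLi
    have hTbot : T = ⊥ := by
      apply Subgroup.eq_bot_of_card_eq
      obtain ⟨k, hk⟩ := IsPGroup.iff_card.1 hT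
      rcases Nat.eq_zero_or_pos k with h0 | hpos
      · rw [hk, h0, pow_zero]
      · exfalso
        apply hLi
        have h1 : p ∣ Nat.card ↥T := by
          rw [hk]
          exact dvd_pow_self p hpos.ne'
        exact dvd_trans h1 (Subgroup.card_subgroup_dvd_card _)
    rw [hTbot]
    infer_instance
  · obtain ⟨N, hN, hN1, hNL, hmin⟩ := Helper90.RPD.exists_min_normal L hLn hL
    haveI := hN
    have hcomm := Helper90.RPD.min_normal_comm L N hLs hN hNL hmin
    have hcardq : Nat.card (G ⧸ N) < n := by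
      rw [← hcard, ← Subgroup.index_eq_card, ← Subgroup.index_mul_card N]
      have h1 : 1 < Nat.card ↥N := (Subgroup.one_lt_card_iff_ne_bot N).2 hN1
      have h2 : 0 < N.index := Nat.pos_of_ne_zero (Subgroup.index_ne_zero_of_finite)
      nlinarith
    obtain ⟨hq1, hq2, hq3⟩ := Helper22.RPD3.sylow_like_quotient p N T U hTU hT hTi
    have hq := ih (Nat.card (G ⧸ N)) hcardq (G ⧸ N) rfl _ _
      (Helper34.RPD3.hyp3_quotient p N K U ⟨hKn, hUn, hKU, hidx, hK2, ⟨L, hLn, hLs, hLi⟩, hreal⟩)
      (T.map (QuotientGroup.mk' N)) hq1 hq2 hq3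
    obtain ⟨hM, k, hk⟩ := Helper22.RPD3.sup_normal_of_quotient3 p N T hT hq
    haveI := hM
    rcases hmin (N ⊓ U) inferInstance inf_le_left with hNU0 | hNU1
    · rw [← Helper22.RPD3.sup_inf_eq_of_inf_eq_bot T N U hTU hNU0]
      infer_instance
    have hNU : N ≤ U := by
      rw [← hNU1]
      exact inf_le_right
    have hMU : T ⊔ N ≤ U := sup_le hTU hNU
    have hTiM : ¬ p ∣ T.relIndex (T ⊔ N) := by
      intro h
      apply hTi
      rw [← Subgroup.relIndex_mul_relIndex T (T ⊔ N) U le_sup_left hMU]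
      exact dvd_mul_of_dvd_left h _
    rcases hmin ⁅N, T ⊔ N⁆ inferInstance (Subgroup.commutator_le_left _ _) with h0 | h1
    · apply Helper12.RPD3.normal_of_commute3 p N T hT hTiM hM
      intro n hn x hx
      have h3 : n * x * n⁻¹ * x⁻¹ ∈ ⁅N, T ⊔ N⁆ := by
        rw [← commutatorElement_def]
        exact Subgroup.commutator_mem_commutator hn (le_sup_left (a := T) hx)
      rw [h0, Subgroup.mem_bot, ← commutatorElement_def,
        commutatorElement_eq_one_iff_mul_comm] at h3
      exact h3
    · have hdag : ∀ χ : IrrCharacter G, ¬ p ∣ charDegree (χ : G → ℂ) →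
          ∀ n ∈ N, (χ : G → ℂ) n = (χ : G → ℂ) 1 := fun χ hχ =>
        Helper23.RPD.dagger p N (T ⊔ N) hN hM hcomm le_sup_right ⟨k, hk⟩ (le_of_eq h1.symm) χ hχ
      have htriv : ∀ χ : IrrCharacter G, (∀ g : G, ((χ : G → ℂ) g).im = 0) →
          ∀ n ∈ N, (χ : G → ℂ) n = (χ : G → ℂ) 1 := fun χ hχ => hdag χ (hreal χ hχ)
      rcases Nat.even_or_odd (Nat.card ↥N) with heven | hodd
      · have hsq := Helper8.RPD.min_normal_sq N hN hcomm hmin heven
        rcases Helper12.RPD3.frattini_dichotomy3 p N hN hcomm hmin T hT hTiM hM with hP | ⟨hi, hs⟩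
        · exact hP
        · exfalso
          obtain ⟨χ, hχr, n, hn, hne⟩ := Helper34.RPD.real_over_even N _ hN hcomm hsq hN1 hi hs
          exact hne (htriv χ hχr n hn)
      · -- every `2`-element centralizes `N`
        have hNN : (⁅N, N⁆ : Subgroup G) = ⊥ := by
          rw [Subgroup.commutator_eq_bot_iff_le_centralizer]
          intro a ha
          rw [Subgroup.mem_centralizer_iff]
          intro b hb
          exact hcomm b hb a ha
        have h2c : ∀ s : G, (∃ j : ℕ, orderOf s = 2 ^ j) → ∀ n ∈ N, s * n = n * s := by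
          rintro s ⟨j, hj⟩ n hn
          have h5 := Helper80.RPD2.act_trivial_mod_derived N hN hodd htriv s j hj n hn
          rw [hNN, Subgroup.mem_bot] at h5
          calc s * n = (s * n * s⁻¹ * n⁻¹) * (n * s) := by group
            _ = n * s := by rw [h5, one_mul]
        have hKN : ∀ x ∈ K, ∀ n ∈ N, x * n = n * x := by
          intro x hx
          rw [← hK2] at hx
          induction hx using Subgroup.closure_induction with
          | mem y hy => exact h2c y hy.2
          | one => intro n _; simp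
          | mul a b _ _ ha hb =>
            intro n hn
            rw [mul_assoc, hb n hn, ← mul_assoc, ha n hn, mul_assoc]
          | inv a _ ha =>
            intro n hn
            have := ha n hn
            calc a⁻¹ * n = a⁻¹ * (n * a) * a⁻¹ := by group
              _ = a⁻¹ * (a * n) * a⁻¹ := by rw [this]
              _ = n * a⁻¹ := by group
        have hpcase : IsPGroup p ↥N → T.Normal := by
          intro hNp
          have hNT := Helper22.RPD3.le_of_normal_pgroup3 p N T hN hNp hT hTiM
          have : T ⊔ N = T := sup_eq_left.2 hNT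
          rw [← this]
          exact hM
        rcases hmin (N ⊓ K) inferInstance inf_le_left with hNK0 | hNK1
        · exact hpcase (Helper30.RPD3.pgroup_of_inf_bot p N K U hKn hNU hKU hidx hNK0)
        · have hNK : N ≤ K := by
            rw [← hNK1]
            exact inf_le_right
          rcases Helper90.RPD3.min_normal_pgroup_or p N hN hcomm hmin with hNp | hNp
          · exact hpcase hNp
          · exact Helper12.RPD3.normal_of_commute3 p N T hT hTiM hM
              (Helper12.RPD3.commute_of_central p N K T hN hKn hcomm hNp hodd hNK hK2 hKN hT hM)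

end Cfsg.Agent.Helper80.RPD3
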