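import Mathlib
import Cfsg.Prelude.Def_Characters
import Cfsg.Prelude.Def_Blocks
import Cfsg.Agent.Lib.Helper80.RPD3Defs
import Cfsg.Agent.Lib.Helper80.RPD3Main
import Cfsg.Agent.Lib.Helper80.RPDFinal

/-!
# S4863: the final wrapper (helper80, RPD3 server)
-/

set_option autoImplicit false
set_option linter.style.haveILetI false

namespace Cfsg.Agent.Helper80.RPD3

open Cfsg Cfsg.Agent

universe u

/-- the statement of S4863 (without the unused maximality hypothesis) -/
theorem final3 {G : Type u} [Group G] [Finite G] (p : ℕ) [Fact p.Prime]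
    (hsolv : Group.IsSolvable ↥(Subgroup.closure {g : G | ∃ k : ℕ, orderOf g = p ^ k}))
    (hreal : ∀ χ : Cfsg.IrrCharacter G, (∀ g : G, ((χ : G → ℂ) g).im = 0) →
      ¬ p ∣ Cfsg.charDegree (χ : G → ℂ))
    (U : Subgroup G) (hU : U.Normal)
    (hKU : (Subgroup.closure {g : G | ∃ k : ℕ, orderOf g = 2 ^ k}) ≤ U)
    (hUp : ∃ a : ℕ, (Subgroup.closure {g : G | ∃ k : ℕ, orderOf g = 2 ^ k}).relIndex U = p ^ a)
    (Q : Sylow p ↥U) : (Q : Subgroup ↥U).Normal := by
  have hK2 : Subgroup.closure {g : G | g ∈ Subgroup.closure {g : G | ∃ k : ℕ, orderOf g = 2 ^ k} ∧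
      ∃ k : ℕ, orderOf g = 2 ^ k} = Subgroup.closure {g : G | ∃ k : ℕ, orderOf g = 2 ^ k} := by
    apply le_antisymm
    · rw [Subgroup.closure_le]
      intro g hg
      exact hg.1
    · apply Subgroup.closure_mono
      intro g hg
      exact ⟨Subgroup.subset_closure hg, hg⟩
  have hyp : Hyp3 p G (Subgroup.closure {g : G | ∃ k : ℕ, orderOf g = 2 ^ k}) U :=
    ⟨Helper80.RPD.closure_pow_normal 2, hU, hKU, hUp, hK2,
      ⟨_, Helper80.RPD.closure_pow_normal p, hsolv, Helper80.RPD.not_dvd_index_closure_pow p⟩, hreal⟩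
  have hTU : (Q : Subgroup ↥U).map U.subtype ≤ U := Subgroup.map_subtype_le _
  have hTp : IsPGroup p ↥((Q : Subgroup ↥U).map U.subtype) := Q.isPGroup'.map U.subtype
  have hsub : ((Q : Subgroup ↥U).map U.subtype).subgroupOf U = (Q : Subgroup ↥U) := by
    unfold Subgroup.subgroupOf
    exact Subgroup.comap_map_eq_self_of_injective U.subtype_injective _
  have hTi : ¬ p ∣ ((Q : Subgroup ↥U).map U.subtype).relIndex U := by
    unfold Subgroup.relIndex
    rw [hsub]
    exact Q.not_dvd_index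
  have hT := main3 p (Nat.card G) G rfl _ U hyp _ hTU hTp hTi
  rw [← hsub]
  exact hT.subgroupOf U

end Cfsg.Agent.Helper80.RPD3
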