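import Mathlib
import Cfsg.Prelude.Def_Characters
import Cfsg.Prelude.Def_Blocks
import Cfsg.Agent.Lib.Helper79.Glaub.RealCorr

/-!
# S4864: facts on `C = C_K(P)` and `N = N_Γ(P)` (helper80, RPD4)
-/

set_option autoImplicit false
set_option linter.style.haveILetI false

namespace Cfsg.Agent.Helper80.RPD4

open Cfsg Cfsg.Agent.Helper79.Glaub

universe u

/-- elements of a normal subgroup are normalized by everything -/
theorem normAt_of_normal' {Γ : Type u} [Group Γ] (K : Subgroup Γ) [hK : K.Normal] (s : Γ) :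
    NormAt K s := by
  refine ⟨fun g hg => hK.conj_mem g hg s, fun g hg => ?_⟩
  have := hK.conj_mem g hg s⁻¹
  simpa using this

/-- (CF) facts on `C = C_K(P)` and `N = N_Γ(P)` -/
theorem c_facts {Γ : Type u} [Group Γ] [Finite Γ] (p : ℕ) [Fact p.Prime]
    (K : Subgroup Γ) [hK : K.Normal] (hpK : ¬ p ∣ Nat.card K) (hodd : Odd K.index)
    (P : Subgroup Γ) (hP : IsPGroup p P) :
    (K ⊓ Subgroup.centralizer (P : Set Γ) ≤ Subgroup.normalizer (P : Set Γ)) ∧
    (∀ n ∈ Subgroup.normalizer (P : Set Γ), NormAt (K ⊓ Subgroup.centralizer (P : Set Γ)) n) ∧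
    Odd ((K ⊓ Subgroup.centralizer (P : Set Γ)).relIndex (Subgroup.normalizer (P : Set Γ))) := by
  classical
  have hp : p.Prime := Fact.out
  have hcn : Subgroup.centralizer (P : Set Γ) ≤ Subgroup.normalizer (P : Set Γ) :=
    Subgroup.centralizer_le_normalizer _
  refine ⟨le_trans inf_le_right hcn, ?_, ?_⟩
  · intro n hn
    haveI : Fintype Γ := Fintype.ofFinite Γ
    exact normAt_inf_centralizer K P n (normAt_of_normal' K n)
      ((normAt_iff_mem_normalizer _ _).2 hn)
  · -- K ⊓ N ≤ C(P)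
    have hKP : K ⊓ P = ⊥ := by
      have hcop : (Nat.card ↥K).Coprime (Nat.card ↥P) := by
        obtain ⟨k, hk⟩ := (IsPGroup.iff_card).1 hP
        rw [hk]
        apply Nat.Coprime.pow_right
        exact ((Nat.Prime.coprime_iff_not_dvd hp).2 hpK).symm
      exact (Subgroup.disjoint_of_coprime_natCard hcop).eq_bot
    have hle : K ⊓ Subgroup.normalizer (P : Set Γ) ≤ Subgroup.centralizer (P : Set Γ) := by
      intro k hk
      rw [Subgroup.mem_inf] at hk
      rw [Subgroup.mem_centralizer_iff]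
      intro s hs
      have h1 : k * s * k⁻¹ ∈ P := (Subgroup.mem_normalizer_iff.mp hk.2 s).mp hs
      have h2 : k * s * k⁻¹ * s⁻¹ ∈ P := P.mul_mem h1 (P.inv_mem hs)
      have h3 : k * s * k⁻¹ * s⁻¹ ∈ K := by
        have : k * s * k⁻¹ * s⁻¹ = k * (s * k⁻¹ * s⁻¹) := by group
        rw [this]
        exact K.mul_mem hk.1 (hK.conj_mem k⁻¹ (K.inv_mem hk.1) s)
      have h4 : k * s * k⁻¹ * s⁻¹ ∈ K ⊓ P := Subgroup.mem_inf.mpr ⟨h3, h2⟩
      rw [hKP, Subgroup.mem_bot] at h4
      calc s * k = (k * s * k⁻¹ * s⁻¹)⁻¹ * (k * s) := by group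
        _ = k * s := by rw [h4]; group
    have heq : (K ⊓ Subgroup.centralizer (P : Set Γ)) ⊓ Subgroup.normalizer (P : Set Γ) =
        K ⊓ Subgroup.normalizer (P : Set Γ) := by
      apply le_antisymm
      · exact inf_le_inf_right _ inf_le_left
      · exact le_inf (le_inf inf_le_left hle) inf_le_right
    rw [← Subgroup.inf_relIndex_right, heq, Subgroup.inf_relIndex_right]
    obtain ⟨d, hd⟩ := Subgroup.relIndex_dvd_index_of_normal K (Subgroup.normalizer (P : Set Γ))
    rw [hd] at hodd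
    exact (Nat.odd_mul.1 hodd).1

end Cfsg.Agent.Helper80.RPD4
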