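import Mathlib
import Cfsg.Prelude.Def_Characters
import Cfsg.Prelude.Def_Blocks
import Cfsg.Agent.Lib.Helper80.BrauerOdd
import Cfsg.Agent.Lib.Helper90.RPD4BRN
import Cfsg.Agent.Lib.Helper79.RPD4GLN
import Cfsg.Agent.Lib.Helper79.RPD4ELT
import Cfsg.Agent.Lib.Helper23.RPD4HFIX
import Cfsg.Agent.Lib.Helper23.RPD4CHT
import Cfsg.Agent.Lib.Helper80.RPD4CF
import Cfsg.Agent.Lib.Helper41.RPD4ORB

/-!
# S4864: the main theorem for a normal `p'`-subgroup of odd index (helper80, RPD4 server)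
-/

set_option autoImplicit false
set_option linter.style.haveILetI false

namespace Cfsg.Agent.Helper80.RPD4

open Cfsg Cfsg.Agent.Helper80 Cfsg.Agent.Helper79.Glaub

universe u

attribute [local instance] realIrrAction realEltAction

/-- the main theorem: real elements of a normal `p'`-subgroup of odd index centralize a Sylow
`p`-subgroup, up to conjugacy -/
theorem main {Γ : Type u} [Group Γ] [Finite Γ] (p : ℕ) [Fact p.Prime] (K : Subgroup Γ)
    [hK : K.Normal] (hpK : ¬ p ∣ Nat.card K) (hodd : Odd K.index)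
    (hreal : ∀ χ : IrrCharacter Γ, (∀ g : Γ, ((χ : Γ → ℂ) g).im = 0) →
      ¬ p ∣ charDegree (χ : Γ → ℂ))
    (P : Sylow p Γ) (x : Γ) (hxK : x ∈ K) (hx : IsConj x x⁻¹) :
    ∃ g : Γ, g * x * g⁻¹ ∈ Subgroup.centralizer ((P : Subgroup Γ) : Set Γ) := by
  classical
  haveI : Fintype Γ := Fintype.ofFinite Γ
  haveI : Fintype ↥K := Fintype.ofFinite _
  have hp : p.Prime := Fact.out
  have hPp : IsPGroup p (P : Subgroup Γ) := P.isPGroup'
  have hcop : (Nat.card ↥K).Coprime (Nat.card ↥(P : Subgroup Γ)) := by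
    obtain ⟨k, hk⟩ := (IsPGroup.iff_card).1 hPp
    rw [hk]
    apply Nat.Coprime.pow_right
    exact ((Nat.Prime.coprime_iff_not_dvd hp).2 hpK).symm
  set C : Subgroup Γ := K ⊓ Subgroup.centralizer ((P : Subgroup Γ) : Set Γ) with hCdef
  haveI : Fintype ↥C := Fintype.ofFinite _
  have hCK : C ≤ K := inf_le_left
  obtain ⟨hCN, hNC, hoddC⟩ := Cfsg.Agent.Helper80.RPD4.c_facts p K hpK hodd (P : Subgroup Γ) hPp
  -- x is real in K
  have hxr : IsConj (⟨x, hxK⟩ : ↥K) (⟨x, hxK⟩ : ↥K)⁻¹ := by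
    obtain ⟨c, hc⟩ := isConj_iff.1 hx
    apply real_of_conj_inv K hodd ⟨x, hxK⟩ c
    show c⁻¹ * x⁻¹ * c = x
    rw [← hc]; group
  -- the count
  have h2 : ∑ᶠ n : ↥(Subgroup.normalizer ((P : Subgroup Γ) : Set Γ)),
        Nat.card {θ : {θ : IrrCharacter ↥K // ∀ k : ↥K, ((θ : ↥K → ℂ) k).im = 0} //
          (∀ s ∈ (P : Subgroup Γ), s • θ = θ) ∧ (n : Γ) • θ = θ} =
      ∑ᶠ n : ↥(Subgroup.normalizer ((P : Subgroup Γ) : Set Γ)),
        Nat.card {y : {x : ↥K // IsConj x x⁻¹} //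
          (∀ s ∈ (P : Subgroup Γ), s • y = y) ∧ (n : Γ) • y = y} := by
    have e1 : ∀ n : ↥(Subgroup.normalizer ((P : Subgroup Γ) : Set Γ)),
        Nat.card {θ : {θ : IrrCharacter ↥K // ∀ k : ↥K, ((θ : ↥K → ℂ) k).im = 0} //
          (∀ s ∈ (P : Subgroup Γ), s • θ = θ) ∧ (n : Γ) • θ = θ} =
        Nat.card {β : IrrCharacter ↥C // (∀ c : ↥C, ((β : ↥C → ℂ) c).im = 0) ∧
          InvAt C (β : ↥C → ℂ) (n : Γ)} := by
      intro n
      rw [Cfsg.Agent.Helper23.RPD4.cht_count K (P : Subgroup Γ) (n : Γ)]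
      exact Cfsg.Agent.Helper79.RPD4.glauberman_count_n p hp K (P : Subgroup Γ) (fun s _ => normAt_of_normal' K s) hcop hPp
        C hCdef hCK (n : Γ) (normAt_of_normal' K _)
        ((normAt_iff_mem_normalizer _ _).2 n.2)
    have e2 : ∀ n : ↥(Subgroup.normalizer ((P : Subgroup Γ) : Set Γ)),
        Nat.card {y : {x : ↥K // IsConj x x⁻¹} //
          (∀ s ∈ (P : Subgroup Γ), s • y = y) ∧ (n : Γ) • y = y} =
        Nat.card {c : ↥C // IsConj c c⁻¹ ∧ (n : Γ) * (c : Γ) * (n : Γ)⁻¹ = (c : Γ)} := by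
      intro n
      exact Cfsg.Agent.Helper79.RPD4.elt_count p hp K (P : Subgroup Γ) hcop hPp C hCdef (n : Γ)
    rw [finsum_congr e1, finsum_congr e2]
    exact Cfsg.Agent.Helper90.RPD4.brauer_sum C (Subgroup.normalizer ((P : Subgroup Γ) : Set Γ)) hCN hNC hoddC
  have h1 := card_orbits_real_irr_eq K hodd
  have h3 : ∀ θ : {θ : IrrCharacter ↥K // ∀ k : ↥K, ((θ : ↥K → ℂ) k).im = 0},
      ∃ g : Γ, ∀ s ∈ (P : Subgroup Γ), s • (g • θ) = g • θ :=
    fun θ => Cfsg.Agent.Helper23.RPD4.hfix_of_hreal p K hodd hreal P θ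
  obtain ⟨g, hg⟩ := Cfsg.Agent.Helper41.RPD4.orb_transfer p P h1 h2 h3 ⟨⟨x, hxK⟩, hxr⟩
  refine ⟨g, ?_⟩
  rw [Subgroup.mem_centralizer_iff]
  intro s hs
  have h4 := hg s hs
  have h5 := congrArg (fun y : {x : ↥K // IsConj x x⁻¹} => ((y : ↥K) : Γ)) h4
  simp only [realEltAction_smul_coe] at h5
  calc s * (g * x * g⁻¹) = (s * (g * x * g⁻¹) * s⁻¹) * s := by group
    _ = (g * x * g⁻¹) * s := by rw [h5]

end Cfsg.Agent.Helper80.RPD4
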