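import Mathlib
import Cfsg.Agent.Lib.Helper52.FpfFourMain

/-!
# Shult–Gross piece (KEY) for helper31 (S3793), part a: generic lemmas
-/

set_option autoImplicit false

namespace Cfsg.Agent.Helper80.SG

open Cfsg.Agent.Helper52

universe u

/-- The linear statement (verbatim copy of helper31's `LinStmt`; used as a HYPOTHESIS by (KEY)). -/
def LinStmt (p : ℕ) : Prop :=
  ∀ (V : Type u) [Group V] [Finite V], (∀ a b : V, a * b = b * a) →
    ∀ (q r : ℕ), q.Prime → r.Prime → p ≠ q → q ≠ r → p ≠ r → (∀ v : V, v ^ r = 1) →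
    ∀ (Q : Subgroup (MulAut V)), IsPGroup q Q → ∀ (x : MulAut V) (n : ℕ), x ^ p ^ (n + 1) = 1 →
    (∀ g ∈ Q, x * g * x⁻¹ ∈ Q) → (∀ v : V, x v = v → v = 1) →
    (∀ g ∈ Q, x * g * x⁻¹ = g → g = 1) → ∀ g ∈ Q, g * x ^ p ^ n = x ^ p ^ n * g

section Generic

variable {G : Type*} [Group G]

/-- A fixed-point-free automorphism of `p`-power order lives on a `p'`-group. -/
theorem not_dvd_card_of_fpf [Finite G] {p : ℕ} (hp : p.Prime)
    (σ : MulAut G) (m : ℕ) (hσ : σ ^ p ^ m = 1) (hfpf : ∀ g : G, σ g = g → g = 1) :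
    ¬ p ∣ Nat.card G := by
  classical
  have : Fact p.Prime := ⟨hp⟩
  have hP : IsPGroup p (Subgroup.zpowers σ) := by
    rintro ⟨g, hg⟩
    obtain ⟨k, rfl⟩ := Subgroup.mem_zpowers_iff.mp hg
    refine ⟨m, ?_⟩
    apply Subtype.ext
    show (σ ^ k) ^ p ^ m = 1
    rw [← zpow_natCast, ← zpow_mul, mul_comm, zpow_mul, zpow_natCast, hσ, one_zpow]
  have h := hP.card_modEq_card_fixedPoints G
  have hfix : Nat.card (MulAction.fixedPoints (Subgroup.zpowers σ) G) = 1 := by
    rw [Nat.card_eq_one_iff_unique]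
    refine ⟨⟨fun a b => ?_⟩, ⟨⟨1, fun t => ?_⟩⟩⟩
    · have ha : a.1 = 1 := hfpf a.1 (a.2 ⟨σ, Subgroup.mem_zpowers σ⟩)
      have hb : b.1 = 1 := hfpf b.1 (b.2 ⟨σ, Subgroup.mem_zpowers σ⟩)
      exact Subtype.ext (ha.trans hb.symm)
    · exact map_one t.1
  rw [hfix] at h
  intro hdvd
  have h0 : Nat.card G % p = 0 := Nat.mod_eq_zero_of_dvd hdvd
  have h1 : 1 % p = 1 := Nat.mod_eq_of_lt hp.one_lt
  unfold Nat.ModEq at h
  omega

/-- Coprime lemma: `τ ^ p = 1` on a `p'`-group, `[G, τ] ≤ N` and `τ` fixes `N` pointwise; then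
`τ = 1`. -/
theorem fixes_of_comm_fixed [Finite G] {p : ℕ} (hp : p.Prime) (hpG : ¬ p ∣ Nat.card G)
    (τ : MulAut G) (hτ : τ ^ p = 1) (N : Subgroup G) (hN : ∀ g : G, g⁻¹ * τ g ∈ N)
    (hfix : ∀ c ∈ N, τ c = c) : ∀ g : G, τ g = g := by
  intro g
  set c := g⁻¹ * τ g with hc
  have hcN : c ∈ N := hN g
  have hτg : τ g = g * c := by rw [hc]; group
  have hpow : ∀ k : ℕ, (τ ^ k) g = g * c ^ k := by
    intro k
    induction k with
    | zero => simp
    | succ k ih =>
      rw [pow_succ' τ k, MulAut.mul_apply, ih, map_mul, map_pow, hτg, hfix c hcN, pow_succ' c k,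
        mul_assoc]
  have h1 := hpow p
  rw [hτ, MulAut.one_apply] at h1
  have h2 : c ^ p = 1 := by
    have : g * c ^ p = g * 1 := by rw [mul_one]; exact h1.symm
    exact mul_left_cancel this
  have h3 : orderOf c ∣ p := orderOf_dvd_of_pow_eq_one h2
  have h4 : orderOf c ∣ Nat.card G := orderOf_dvd_natCard c
  rcases (Nat.dvd_prime hp).1 h3 with h5 | h5
  · have : c = 1 := orderOf_eq_one_iff.1 h5
    rw [hτg, this, mul_one]
  · exfalso
    rw [h5] at h4
    exact hpG h4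

/-- A subgroup `F ≤ N` whose order is divisible by the full `q`-part of `|N|` for all `q`. -/
theorem eq_of_prime_pow_dvd [Finite G] (F N : Subgroup G) (hFN : F ≤ N)
    (h : ∀ q : ℕ, q.Prime → q ^ (Nat.card N).factorization q ∣ Nat.card F) : F = N := by
  have hdvd : Nat.card N ∣ Nat.card F := by
    rw [← Nat.factorization_prime_le_iff_dvd Nat.card_pos.ne' Nat.card_pos.ne']
    intro q hq
    exact (Nat.Prime.pow_dvd_iff_le_factorization hq Nat.card_pos.ne').mp (h q hq)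
  exact Subgroup.eq_of_le_of_card_ge hFN (Nat.le_of_dvd Nat.card_pos hdvd)

/-- The Sylow `q`-subgroup of a nilpotent normal invariant subgroup. -/
theorem exists_sylow_piece [Finite G] (N : Subgroup G) [N.Normal] (hnil : Group.IsNilpotent N)
    (σ : MulAut G) (hσN : ∀ g ∈ N, σ g ∈ N) (q : ℕ) [Fact q.Prime] :
    ∃ S : Subgroup G, S ≤ N ∧ S.Normal ∧ (∀ g ∈ S, σ g ∈ S) ∧ IsPGroup q S ∧
      Nat.card S = q ^ (Nat.card N).factorization q := by
  have := hnil
  obtain ⟨P⟩ : Nonempty (Sylow q N) := inferInstance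
  have hPn : (P : Subgroup N).Normal := inferInstance
  haveI hPc : (P : Subgroup N).Characteristic := Sylow.characteristic_of_normal P hPn
  refine ⟨(P : Subgroup N).map N.subtype, Subgroup.map_subtype_le _, ?_, ?_, P.isPGroup'.map _, ?_⟩
  · exact ConjAct.normal_of_characteristic_of_normal
  · rintro _ ⟨s, hs, rfl⟩
    have hmap := (Subgroup.characteristic_iff_map_eq.1 hPc) (restrictEquiv σ N hσN)
    refine ⟨restrictEquiv σ N hσN s, ?_, rfl⟩
    rw [← hmap]
    exact ⟨s, hs, rfl⟩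
  · rw [← Sylow.card_eq_multiplicity P]
    exact (Nat.card_congr
      (Subgroup.equivMapOfInjective _ N.subtype N.subtype_injective).toEquiv).symm

end Generic

section Rel

variable {G : Type*} [Group G] [Finite G]

/-- `φ (σ g) = x φ(g) x⁻¹` for `φ = conjNormal`, `x = σ|_V`. -/
theorem conjNormal_restrict (σ : MulAut G) (V : Subgroup G) [V.Normal]
    (hV : ∀ v ∈ V, σ v ∈ V) (g : G) :
    (MulAut.conjNormal (σ g) : MulAut V) =
      (restrictEquiv σ V hV : MulAut V) * MulAut.conjNormal g *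
        (restrictEquiv σ V hV : MulAut V)⁻¹ := by
  rw [eq_mul_inv_iff_mul_eq]
  apply MulEquiv.ext
  intro v
  apply Subtype.ext
  rw [MulAut.mul_apply, MulAut.mul_apply, MulAut.conjNormal_apply, restrictEquiv_apply,
    restrictEquiv_apply, MulAut.conjNormal_apply, map_mul, map_mul, map_inv]

/-- Powers of the restriction. -/
theorem restrict_pow_apply (σ : MulAut G) (V : Subgroup G) (hV : ∀ v ∈ V, σ v ∈ V) (k : ℕ)
    (v : V) : (((restrictEquiv σ V hV : MulAut V) ^ k) v : G) = (σ ^ k) (v : G) := by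
  induction k generalizing v with
  | zero => rfl
  | succ k ih =>
    rw [pow_succ, MulAut.mul_apply, ih, restrictEquiv_apply, pow_succ, MulAut.mul_apply]

/-- Powers of the quotient automorphism. -/
theorem quot_pow_mk (σ : MulAut G) (N : Subgroup G) [N.Normal] (hN : ∀ x ∈ N, σ x ∈ N) (k : ℕ)
    (g : G) : ((quotEquiv σ N hN : MulAut (G ⧸ N)) ^ k) (g : G ⧸ N) =
      (((σ ^ k) g : G) : G ⧸ N) := by
  induction k generalizing g with
  | zero => rfl
  | succ k ih =>
    rw [pow_succ, MulAut.mul_apply, quotEquiv_mk, ih, pow_succ, MulAut.mul_apply]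

theorem quot_pow_eq_one (σ : MulAut G) (N : Subgroup G) [N.Normal] (hN : ∀ x ∈ N, σ x ∈ N)
    (k : ℕ) (h : σ ^ k = 1) : (quotEquiv σ N hN : MulAut (G ⧸ N)) ^ k = 1 := by
  apply MulEquiv.ext
  intro y
  obtain ⟨g, rfl⟩ := QuotientGroup.mk_surjective y
  rw [quot_pow_mk, h]
  rfl

theorem restrict_pow_eq_one (σ : MulAut G) (V : Subgroup G) (hV : ∀ v ∈ V, σ v ∈ V)
    (k : ℕ) (h : σ ^ k = 1) : (restrictEquiv σ V hV : MulAut V) ^ k = 1 := by
  apply MulEquiv.ext
  intro v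
  apply Subtype.ext
  rw [restrict_pow_apply, h]
  rfl

end Rel

end Cfsg.Agent.Helper80.SG
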