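import Mathlib
import Cfsg.Agent.Lib.Helper80.SGKEYa

/-!
# Shult–Gross piece (KEY) for helper31 (S3793), part b: `τ` is trivial on `G / C_G(V)`
-/

set_option autoImplicit false

namespace Cfsg.Agent.Helper80.SG

open Cfsg.Agent.Helper52

universe u

section K4

variable {G : Type u} [Group G] [Finite G]

/-- A normal invariant `r`-group of automorphisms of a minimal invariant normal `r`-subgroup is
trivial. -/
theorem rgroup_acts_trivially (σ : MulAut G) (V : Subgroup G) [hVn : V.Normal]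
    (hVσ : ∀ v ∈ V, σ v ∈ V) (hVne : V ≠ ⊥)
    (hVmin : ∀ N : Subgroup G, N.Normal → (∀ x ∈ N, σ x ∈ N) → N ≠ ⊥ → N ≤ V → N = V)
    (r : ℕ) [hr : Fact r.Prime] (hexp : ∀ v ∈ V, v ^ r = 1)
    (T : Subgroup (MulAut V)) (hT : IsPGroup r T)
    (hTG : ∀ g : G, ∀ t ∈ T,
      (MulAut.conjNormal g : MulAut V)⁻¹ * t * (MulAut.conjNormal g : MulAut V) ∈ T)
    (hTx : ∀ t ∈ T, (restrictEquiv σ V hVσ : MulAut V)⁻¹ * t *
      (restrictEquiv σ V hVσ : MulAut V) ∈ T) :
    T = ⊥ := by
  classical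
  set x : MulAut V := restrictEquiv σ V hVσ with hx
  have hVp : IsPGroup r V := by
    intro v
    refine ⟨1, ?_⟩
    apply Subtype.ext
    rw [pow_one, Subgroup.coe_pow]
    exact hexp v v.2
  have hVnt : Nontrivial V := (Subgroup.nontrivial_iff_ne_bot V).2 hVne
  have hrV : r ∣ Nat.card V := by
    rcases hVp.card_eq_or_dvd with h | h
    · exfalso
      have := Finite.one_lt_card_iff_nontrivial.2 hVnt
      omega
    · exact h
  have h1fix : (1 : V) ∈ MulAction.fixedPoints T V := by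
    intro t
    exact map_one t.1
  obtain ⟨b, hbfix, hb1⟩ := hT.exists_fixed_point_of_prime_dvd_card_of_fixed_point V hrV h1fix
  -- the fixed subgroup
  let W : Subgroup G :=
    { carrier := {w | ∃ hw : w ∈ V, ∀ t ∈ T, t ⟨w, hw⟩ = ⟨w, hw⟩}
      one_mem' := ⟨V.one_mem, fun t _ => map_one t⟩
      mul_mem' := by
        rintro a c ⟨ha, hat⟩ ⟨hc, hct⟩
        refine ⟨V.mul_mem ha hc, fun t ht => ?_⟩
        have : (⟨a * c, V.mul_mem ha hc⟩ : V) = ⟨a, ha⟩ * ⟨c, hc⟩ := rfl
        rw [this, map_mul, hat t ht, hct t ht]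
      inv_mem' := by
        rintro a ⟨ha, hat⟩
        refine ⟨V.inv_mem ha, fun t ht => ?_⟩
        have : (⟨a⁻¹, V.inv_mem ha⟩ : V) = (⟨a, ha⟩ : V)⁻¹ := rfl
        rw [this, map_inv, hat t ht] }
  have hWV : W ≤ V := fun w hw => hw.1
  have hWn : W.Normal := by
    refine ⟨fun w hw g => ?_⟩
    obtain ⟨hwV, hwt⟩ := hw
    refine ⟨hVn.conj_mem w hwV g, fun t ht => ?_⟩
    have e1 : (⟨g * w * g⁻¹, hVn.conj_mem w hwV g⟩ : V) =
        (MulAut.conjNormal g : MulAut V) ⟨w, hwV⟩ := by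
      apply Subtype.ext
      rw [MulAut.conjNormal_apply]
    have e2 := hwt _ (hTG g t ht)
    rw [e1]
    have e3 : t ((MulAut.conjNormal g : MulAut V) ⟨w, hwV⟩) =
        (MulAut.conjNormal g : MulAut V)
          (((MulAut.conjNormal g : MulAut V)⁻¹ * t * MulAut.conjNormal g : MulAut V)
            ⟨w, hwV⟩) := by
      simp only [MulAut.mul_apply, MulAut.apply_inv_self]
    rw [e3, e2]
  have hWσ : ∀ w ∈ W, σ w ∈ W := by
    rintro w ⟨hwV, hwt⟩
    refine ⟨hVσ w hwV, fun t ht => ?_⟩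
    have e1 : (⟨σ w, hVσ w hwV⟩ : V) = x ⟨w, hwV⟩ := by
      apply Subtype.ext
      rw [hx, restrictEquiv_apply]
    have e2 := hwt _ (hTx t ht)
    rw [e1]
    have e3 : t (x ⟨w, hwV⟩) = x ((x⁻¹ * t * x) ⟨w, hwV⟩) := by
      simp only [MulAut.mul_apply, MulAut.apply_inv_self]
    rw [e3, e2]
  have hWne : W ≠ ⊥ := by
    intro hbot
    have hbW : (b : G) ∈ W := by
      refine ⟨b.2, fun t ht => ?_⟩
      exact hbfix ⟨t, ht⟩
    rw [hbot, Subgroup.mem_bot] at hbW
    exact hb1 (Subtype.ext hbW).symm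
  have hWeq : W = V := hVmin W hWn hWσ hWne hWV
  rw [Subgroup.eq_bot_iff_forall]
  intro t ht
  apply MulEquiv.ext
  intro v
  have hv : (v : G) ∈ W := by rw [hWeq]; exact v.2
  obtain ⟨hv', hvt⟩ := hv
  exact hvt t ht

end K4

section Main3

variable {G : Type u} [Group G] [Finite G]

/-- Step (3): `τ = σ ^ p ^ n` acts trivially on `G / C_G(V)`. -/
theorem tau_fixes_quot {p : ℕ} (hp : p.Prime) (LIN : LinStmt.{u} p) (σ : MulAut G) (n : ℕ)
    (hσ : σ ^ p ^ (n + 1) = 1) (hfpf : ∀ g : G, σ g = g → g = 1)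
    (V : Subgroup G) [hVn : V.Normal] (hVσ : ∀ v ∈ V, σ v ∈ V) (hVne : V ≠ ⊥)
    (hVmin : ∀ N : Subgroup G, N.Normal → (∀ x ∈ N, σ x ∈ N) → N ≠ ⊥ → N ≤ V → N = V)
    (hab : ∀ a ∈ V, ∀ b ∈ V, a * b = b * a) (r : ℕ) (hr : r.Prime) (hexp : ∀ v ∈ V, v ^ r = 1)
    (C : Subgroup G) [hCn : C.Normal] (hC : ∀ g ∈ C, σ g ∈ C)
    (ψ : G ⧸ C →* MulAut V) (hψinj : Function.Injective ψ)
    (hψmk : ∀ g : G, ψ (g : G ⧸ C) = (MulAut.conjNormal g : MulAut V))
    (N2 : Subgroup (G ⧸ C)) [hN2n : N2.Normal]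
    (hN2σ : ∀ g ∈ N2, quotEquiv σ C hC g ∈ N2) (hN2nil : Group.IsNilpotent N2)
    (hN2 : ∀ g, g⁻¹ * ((quotEquiv σ C hC : MulAut (G ⧸ C)) ^ p ^ n) g ∈ N2) :
    ∀ g : G, g⁻¹ * (σ ^ p ^ n) g ∈ C := by
  classical
  set x : MulAut V := restrictEquiv σ V hVσ with hx
  set σb : MulAut (G ⧸ C) := quotEquiv σ C hC with hσb
  set τb : MulAut (G ⧸ C) := σb ^ p ^ n with hτb
  have hrel : ∀ g : G, (MulAut.conjNormal (σ g) : MulAut V) = x * MulAut.conjNormal g * x⁻¹ :=
    fun g => conjNormal_restrict σ V hVσ g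
  have hψrel : ∀ y : G ⧸ C, ψ (σb y) = x * ψ y * x⁻¹ := by
    intro y
    obtain ⟨g, rfl⟩ := QuotientGroup.mk_surjective y
    rw [hσb, quotEquiv_mk, hψmk, hψmk, hrel]
  have hψpow : ∀ (k : ℕ) (y : G ⧸ C), ψ ((σb ^ k) y) = x ^ k * ψ y * (x ^ k)⁻¹ := by
    intro k
    induction k with
    | zero => intro y; simp
    | succ k ih =>
      intro y
      rw [pow_succ' σb k, MulAut.mul_apply, hψrel, ih, pow_succ' x k]
      group
  have hxpow : x ^ p ^ (n + 1) = 1 := restrict_pow_eq_one σ V hVσ _ hσ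
  have hσbpow : σb ^ p ^ (n + 1) = 1 := quot_pow_eq_one σ C hC _ hσ
  have hτbp : τb ^ p = 1 := by
    rw [hτb, ← pow_mul, ← pow_succ, hσbpow]
  have hxfpf : ∀ v : V, x v = v → v = 1 := by
    intro v hv
    apply Subtype.ext
    apply hfpf
    have := congrArg Subtype.val hv
    rwa [hx, restrictEquiv_apply] at this
  have hσbfpf : ∀ y : G ⧸ C, σb y = y → y = 1 :=
    quotEquiv_fpf σ (fun g hg => hfpf g hg) C hC
  have hpQ : ¬ p ∣ Nat.card (G ⧸ C) := not_dvd_card_of_fpf hp σb (n + 1) hσbpow hσbfpf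
  have hpG : ¬ p ∣ Nat.card G := not_dvd_card_of_fpf hp σ (n + 1) hσ hfpf
  -- r ≠ p
  have hrp : p ≠ r := by
    intro h
    apply hpG
    obtain ⟨v, hvV, hv1⟩ : ∃ v ∈ V, v ≠ 1 := by
      by_contra hno
      push Not at hno
      exact hVne ((Subgroup.eq_bot_iff_forall V).2 hno)
    have h1 : orderOf v ∣ r := orderOf_dvd_of_pow_eq_one (hexp v hvV)
    have h2 : orderOf v = r := by
      rcases (Nat.dvd_prime hr).1 h1 with h3 | h3
      · exact absurd (orderOf_eq_one_iff.1 h3) hv1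
      · exact h3
    rw [h, ← h2]
    exact orderOf_dvd_natCard v
  -- the fixed subgroup of τb in N2
  let F : Subgroup (G ⧸ C) :=
    { carrier := {y | y ∈ N2 ∧ τb y = y}
      one_mem' := ⟨N2.one_mem, map_one τb⟩
      mul_mem' := by
        rintro a c ⟨ha, hat⟩ ⟨hc, hct⟩
        exact ⟨N2.mul_mem ha hc, by rw [map_mul, hat, hct]⟩
      inv_mem' := by
        rintro a ⟨ha, hat⟩
        exact ⟨N2.inv_mem ha, by rw [map_inv, hat]⟩ }
  have hFN : F ≤ N2 := fun y hy => hy.1
  have hFeq : F = N2 := by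
    apply eq_of_prime_pow_dvd F N2 hFN
    intro q hq
    haveI : Fact q.Prime := ⟨hq⟩
    obtain ⟨S, hSN, hSn, hSσ, hSq, hScard⟩ := exists_sylow_piece N2 hN2nil σb hN2σ q
    rw [← hScard]
    by_cases hqp : q = p
    · -- S trivial
      have : Nat.card S = 1 := by
        obtain ⟨k, hk⟩ := IsPGroup.iff_card.1 hSq
        rcases Nat.eq_zero_or_pos k with h0 | h0
        · rw [hk, h0, pow_zero]
        · exfalso
          apply hpQ
          rw [← hqp]
          have h1 : q ∣ Nat.card S := by rw [hk]; exact dvd_pow_self q h0.ne'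
          exact h1.trans (Subgroup.card_subgroup_dvd_card S)
      rw [this]; exact one_dvd _
    · by_cases hqr : q = r
      · -- S = ⊥ by K4
        subst hqr
        have hTbot : S.map ψ = ⊥ := by
          apply rgroup_acts_trivially σ V hVσ hVne hVmin q hexp (S.map ψ) (hSq.map ψ)
          · rintro g _ ⟨s, hs, rfl⟩
            refine ⟨((g : G ⧸ C))⁻¹ * s * (g : G ⧸ C), ?_, ?_⟩
            · have := hSn.conj_mem s hs ((g : G ⧸ C))⁻¹
              simpa using this
            · rw [map_mul, map_mul, map_inv, hψmk]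
          · rintro _ ⟨s, hs, rfl⟩
            have hmapS : S.map (σb : G ⧸ C →* G ⧸ C) = S := map_eq_of_invariant σb S hSσ
            have hs' : s ∈ S.map (σb : G ⧸ C →* G ⧸ C) := by rw [hmapS]; exact hs
            obtain ⟨s', hs'S, hs's⟩ := hs'
            refine ⟨s', hs'S, ?_⟩
            have h1 : ψ s = x * ψ s' * x⁻¹ := by
              rw [← hψrel, ← hs's]; rfl
            show ψ s' = x⁻¹ * ψ s * x
            rw [h1]; group
        have hSbot : S = ⊥ := by
          rw [Subgroup.eq_bot_iff_forall]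
          intro s hs
          apply hψinj
          rw [map_one]
          have : ψ s ∈ S.map ψ := ⟨s, hs, rfl⟩
          rw [hTbot, Subgroup.mem_bot] at this
          exact this
        rw [hSbot, Subgroup.card_bot]; exact one_dvd _
      · -- LIN
        have hSF : S ≤ F := by
          intro s hs
          refine ⟨hSN hs, ?_⟩
          have hlin := LIN V (fun a b => Subtype.ext (hab a a.2 b b.2)) q r hq hr (Ne.symm hqp)
            hqr hrp
            (fun v => by
              apply Subtype.ext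
              rw [Subgroup.coe_pow]
              exact hexp v v.2)
            (S.map ψ) (hSq.map ψ) x n hxpow
            (by
              rintro _ ⟨s, hs, rfl⟩
              exact ⟨σb s, hSσ s hs, hψrel s⟩)
            hxfpf
            (by
              rintro _ ⟨s, hs, rfl⟩ hfix
              rw [← hψrel] at hfix
              have := hσbfpf s (hψinj hfix)
              rw [this, map_one])
          have hcomm := hlin (ψ s) ⟨s, hs, rfl⟩
          apply hψinj
          rw [hτb, hψpow, ← hcomm]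
          group
        exact Subgroup.card_dvd_of_le hSF
  -- τb fixes N2 pointwise, hence everything
  have hfixN2 : ∀ c ∈ N2, τb c = c := by
    intro c hc
    have : c ∈ F := by rw [hFeq]; exact hc
    exact this.2
  have hall := fixes_of_comm_fixed hp hpQ τb hτbp N2 hN2 hfixN2
  intro g
  have h1 := hall (g : G ⧸ C)
  rw [hτb, quot_pow_mk] at h1
  rw [← QuotientGroup.eq]
  exact h1.symm

end Main3

end Cfsg.Agent.Helper80.SG
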