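import Mathlib
import Cfsg.Agent.Lib.Helper80.SGKEYb

/-!
# Shult–Gross piece (KEY) for helper31 (S3793): the group-theoretic reduction
-/

set_option autoImplicit false

namespace Cfsg.Agent.Helper80.SG

open Cfsg.Agent.Helper52

universe u

section Step

variable {G : Type u} [Group G] [Finite G]

/-- The inductive step of (KEY). -/
theorem sg_key_step {p : ℕ} (hp : p.Prime) (LIN : LinStmt.{u} p)
    (IH : ∀ (H : Type u) [Group H] [Finite H], Nat.card H < Nat.card G → IsSolvable H →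
      ∀ (σ : MulAut H) (n : ℕ), σ ^ p ^ (n + 1) = 1 → (∀ g : H, σ g = g → g = 1) →
      ∃ N : Subgroup H, N.Normal ∧ (∀ g ∈ N, σ g ∈ N) ∧ Group.IsNilpotent N ∧
        ∀ g : H, g⁻¹ * (σ ^ p ^ n) g ∈ N)
    (hsol : IsSolvable G) (σ : MulAut G) (n : ℕ) (hσ : σ ^ p ^ (n + 1) = 1)
    (hfpf : ∀ g : G, σ g = g → g = 1) (hnt : ¬ Subsingleton G) :
    ∃ N : Subgroup G, N.Normal ∧ (∀ g ∈ N, σ g ∈ N) ∧ Group.IsNilpotent N ∧
      ∀ g : G, g⁻¹ * (σ ^ p ^ n) g ∈ N := by
  classical
  have hsol' : Group.IsSolvable G := hsol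
  obtain ⟨V, hVn, hVσ, hVne, hVmin⟩ := exists_min_invariant_normal σ hnt
  have hab := commute_of_min_invariant_normal σ V hVn hVσ hVne hVmin
  obtain ⟨r, hr, hexp⟩ := exists_prime_exponent_of_min_invariant_normal σ V hVn hVσ hVne hVmin
  -- (1) the quotient by `V`
  have hlt1 : Nat.card (G ⧸ V) < Nat.card G := card_quotient_lt_of_ne_bot' V hVne
  have hsol1 : Group.IsSolvable (G ⧸ V) := inferInstance
  obtain ⟨N1b, hN1n, hN1σ, hN1nil, hN1⟩ := IH (G ⧸ V) hlt1 hsol1 (quotEquiv σ V hVσ) n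
    (quot_pow_eq_one σ V hVσ _ hσ) (quotEquiv_fpf σ (fun g hg => hfpf g hg) V hVσ)
  -- (2) the quotient by `C = C_G(V)`
  have hrel : ∀ g : G, (MulAut.conjNormal (σ g) : MulAut V) =
      (restrictEquiv σ V hVσ : MulAut V) * MulAut.conjNormal g *
        (restrictEquiv σ V hVσ : MulAut V)⁻¹ := fun g => conjNormal_restrict σ V hVσ g
  have hC : ∀ g ∈ (MulAut.conjNormal : G →* MulAut V).ker,
      σ g ∈ (MulAut.conjNormal : G →* MulAut V).ker := by
    intro g hg
    rw [MonoidHom.mem_ker] at hg ⊢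
    rw [hrel, hg]
    group
  have hVC : V ≤ (MulAut.conjNormal : G →* MulAut V).ker := by
    intro v hv
    rw [MonoidHom.mem_ker]
    apply MulEquiv.ext
    intro w
    apply Subtype.ext
    rw [MulAut.conjNormal_apply]
    show v * w * v⁻¹ = w
    rw [hab v hv w w.2]
    group
  have hCne : (MulAut.conjNormal : G →* MulAut V).ker ≠ ⊥ := by
    intro h
    apply hVne
    rw [eq_bot_iff, ← h]
    exact hVC
  have hlt2 : Nat.card (G ⧸ (MulAut.conjNormal : G →* MulAut V).ker) < Nat.card G :=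
    card_quotient_lt_of_ne_bot' _ hCne
  have hsol2 : Group.IsSolvable (G ⧸ (MulAut.conjNormal : G →* MulAut V).ker) := inferInstance
  obtain ⟨N2, hN2n, hN2σ, hN2nil, hN2⟩ :=
    IH (G ⧸ (MulAut.conjNormal : G →* MulAut V).ker) hlt2 hsol2
      (quotEquiv σ (MulAut.conjNormal : G →* MulAut V).ker hC) n
      (quot_pow_eq_one σ _ hC _ hσ) (quotEquiv_fpf σ (fun g hg => hfpf g hg) _ hC)
  -- (3)
  have h3 := tau_fixes_quot hp LIN σ n hσ hfpf V hVσ hVne hVmin hab r hr hexp
    (MulAut.conjNormal : G →* MulAut V).ker hC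
    (QuotientGroup.kerLift (MulAut.conjNormal : G →* MulAut V))
    (QuotientGroup.kerLift_injective _)
    (fun g => QuotientGroup.kerLift_mk _ g) N2 hN2σ hN2nil hN2
  -- (4)
  refine ⟨N1b.comap (QuotientGroup.mk' V) ⊓ (MulAut.conjNormal : G →* MulAut V).ker,
    inferInstance, ?_, ?_, ?_⟩
  · intro g hg
    rw [Subgroup.mem_inf] at hg ⊢
    refine ⟨?_, hC g hg.2⟩
    have := hN1σ _ hg.1
    rw [Subgroup.mem_comap]
    show ((σ g : G) : G ⧸ V) ∈ N1b
    rw [← quotEquiv_mk σ V hVσ]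
    exact this
  · set N : Subgroup G :=
      N1b.comap (QuotientGroup.mk' V) ⊓ (MulAut.conjNormal : G →* MulAut V).ker with hN
    let f : ↥N →* ↥N1b := ((QuotientGroup.mk' V).comp N.subtype).codRestrict N1b
      (fun m => (Subgroup.mem_inf.1 m.2).1)
    have hker : f.ker ≤ Subgroup.center ↥N := by
      intro m hm
      rw [Subgroup.mem_center_iff]
      intro k
      have hmV : (m : G) ∈ V := by
        have h1 := (MonoidHom.mem_ker).1 hm
        have h2 := congrArg Subtype.val h1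
        exact (QuotientGroup.eq_one_iff (m : G)).1 h2
      have hkC : (k : G) ∈ (MulAut.conjNormal : G →* MulAut V).ker := (Subgroup.mem_inf.1 k.2).2
      have h3' : (MulAut.conjNormal (k : G) : MulAut V) ⟨m, hmV⟩ = ⟨m, hmV⟩ := by
        rw [MonoidHom.mem_ker.1 hkC]
        rfl
      have h4 := congrArg Subtype.val h3'
      rw [MulAut.conjNormal_apply] at h4
      apply Subtype.ext
      show (k : G) * m = m * k
      calc (k : G) * m = (k * m * (k : G)⁻¹) * k := by group
        _ = m * k := by rw [h4]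
    have := hN1nil
    exact Subgroup.isNilpotent_of_ker_le_center f hker
  · intro g
    rw [Subgroup.mem_inf]
    refine ⟨?_, h3 g⟩
    have := hN1 (g : G ⧸ V)
    rw [quot_pow_mk] at this
    exact this

end Step

/-- (KEY) group-theoretic reduction. -/
theorem sg_key {p : ℕ} (hp : p.Prime) (LIN : LinStmt.{u} p) :
    ∀ (G : Type u) [Group G] [Finite G], IsSolvable G → ∀ (σ : MulAut G) (n : ℕ),
      σ ^ p ^ (n + 1) = 1 → (∀ g : G, σ g = g → g = 1) →
      ∃ N : Subgroup G, N.Normal ∧ (∀ g ∈ N, σ g ∈ N) ∧ Group.IsNilpotent N ∧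
        ∀ g : G, g⁻¹ * (σ ^ p ^ n) g ∈ N := by
  have key : ∀ (k : ℕ) (G : Type u) [Group G] [Finite G], Nat.card G = k → IsSolvable G →
      ∀ (σ : MulAut G) (n : ℕ), σ ^ p ^ (n + 1) = 1 → (∀ g : G, σ g = g → g = 1) →
      ∃ N : Subgroup G, N.Normal ∧ (∀ g ∈ N, σ g ∈ N) ∧ Group.IsNilpotent N ∧
        ∀ g : G, g⁻¹ * (σ ^ p ^ n) g ∈ N := by
    intro k
    induction k using Nat.strong_induction_on with
    | _ k ih =>
      intro G _ _ hk hsol σ n hσ hfpf
      by_cases hnt : Subsingleton G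
      · refine ⟨⊥, inferInstance, ?_, inferInstance, ?_⟩
        · intro g _
          rw [Subgroup.mem_bot]
          exact Subsingleton.elim _ _
        · intro g
          rw [Subgroup.mem_bot]
          exact Subsingleton.elim _ _
      · apply sg_key_step hp LIN _ hsol σ n hσ hfpf hnt
        intro H _ _ hlt hsolH
        exact ih (Nat.card H) (hk ▸ hlt) H rfl hsolH
  intro G _ _
  exact key (Nat.card G) G rfl

end Cfsg.Agent.Helper80.SG
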