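import Mathlib
import Cfsg.Prelude.Def_Characters
import Cfsg.Agent.Lib.Helper80.FrobSchur3
import Cfsg.Agent.Lib.Helper80.CharBasic
import Cfsg.Agent.Lib.Helper81.CharInd
import Cfsg.Agent.Lib.Helper15.PermChar

set_option autoImplicit false

namespace Cfsg.Agent.Helper80

open Cfsg Matrix
open scoped ComplexConjugate

universe u v

section LinAlg

/-- A skew-symmetric matrix whose columns lie in the range of a rank-one idempotent vanishes. -/
theorem eq_zero_of_skew_of_idem {n : ℕ} (e Y : Matrix (Fin n) (Fin n) ℂ) (he : e * e = e)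
    (htr : e.trace = 1) (hY : e * Y = Y) (hskew : Yᵀ = -Y) : Y = 0 := by
  classical
  set f : (Fin n → ℂ) →ₗ[ℂ] (Fin n → ℂ) := Matrix.toLin' e with hf
  have hidem : IsIdempotentElem f := by
    show f * f = f
    rw [hf, Module.End.mul_eq_comp, ← Matrix.toLin'_mul, he]
  have htrf : LinearMap.trace ℂ (Fin n → ℂ) f = 1 := by
    rw [hf, Matrix.trace_toLin'_eq, htr]
  have hrank : Module.finrank ℂ (LinearMap.range f) = 1 := by
    have := (LinearMap.IsIdempotentElem.isProj_range f hidem).trace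
    rw [htrf] at this
    exact_mod_cast this.symm
  obtain ⟨v, hv0, hv⟩ := finrank_eq_one_iff'.mp hrank
  -- columns of Y
  have hcol : ∀ j : Fin n, ∃ c : ℂ, ∀ i, c * (v : Fin n → ℂ) i = Y i j := by
    intro j
    have hmem : Y *ᵥ (Pi.single j 1) ∈ LinearMap.range f := by
      refine ⟨Y *ᵥ (Pi.single j 1), ?_⟩
      rw [hf, Matrix.toLin'_apply, Matrix.mulVec_mulVec, hY]
    obtain ⟨c, hc⟩ := hv ⟨_, hmem⟩
    refine ⟨c, fun i => ?_⟩
    have := congrArg (fun w : LinearMap.range f => (w : Fin n → ℂ) i) hc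
    simpa using this
  choose c hc using hcol
  have hv0' : (v : Fin n → ℂ) ≠ 0 := fun h => hv0 (Subtype.ext h)
  obtain ⟨i₀, hi₀⟩ : ∃ i₀, (v : Fin n → ℂ) i₀ ≠ 0 := by
    by_contra hcon
    push Not at hcon
    exact hv0' (funext hcon)
  have hsk : ∀ i j, Y j i = - Y i j := by
    intro i j
    have := congrFun (congrFun hskew i) j
    simpa using this
  have hc0 : c i₀ = 0 := by
    have h1 := hsk i₀ i₀
    rw [← hc i₀ i₀] at h1
    have h2 : c i₀ * (v : Fin n → ℂ) i₀ = 0 := by
      have : (2 : ℂ) * (c i₀ * (v : Fin n → ℂ) i₀) = 0 := by linear_combination h1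
      exact (mul_eq_zero.mp this).resolve_left two_ne_zero
    exact (mul_eq_zero.mp h2).resolve_right hi₀
  ext i j
  rw [Matrix.zero_apply]
  have h1 := hsk i₀ j
  -- Y j i₀ = - Y i₀ j
  rw [← hc i₀ j, hc0, zero_mul] at h1
  -- h1 : 0 = -Y i₀ j
  have h2 : Y i₀ j = 0 := by
    have := h1.symm
    simpa using this
  rw [← hc j i₀] at h2
  have hcj : c j = 0 := (mul_eq_zero.mp h2).resolve_right hi₀
  rw [← hc j i, hcj, zero_mul]

end LinAlg

section PartC

variable {G : Type u} [Group G] [Fintype G] {Ω : Type v} [Fintype Ω] [MulAction G Ω]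

/-- The permutation character. -/
noncomputable abbrev pc (G : Type u) [Group G] (Ω : Type v) [MulAction G Ω] : G → ℂ :=
  fun g => (Nat.card (MulAction.fixedBy Ω g) : ℂ)

theorem pc_eq_indFun [MulAction.IsPretransitive G Ω] (a : Ω) :
    pc G Ω = indFun (MulAction.stabilizer G a) (fun _ => (1 : ℂ)) := by
  funext g
  rw [Cfsg.Agent.Helper15.indFun_stabilizer a _ rfl g]
  show (Nat.card (MulAction.fixedBy Ω g) : ℂ) = _
  congr 1
  refine Nat.card_congr ?_
  exact
    { toFun := fun x => ⟨⟨x.1, by rw [MulAction.orbit_eq_univ]; trivial⟩, x.2⟩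
      invFun := fun y => ⟨y.1.1, y.2⟩
      left_inv := fun x => rfl
      right_inv := fun y => rfl }

/-- A real-valued irreducible constituent of multiplicity one of a transitive permutation
character has Frobenius–Schur indicator different from `-1`. -/
theorem fs_ne_neg_one_of_mult_one [MulAction.IsPretransitive G Ω] {χ : G → ℂ}
    (hχ : IsIrrCharacter G χ) (hreal : ∀ g, conj (χ g) = χ g)
    (hm : classInner (pc G Ω) χ = 1) :
    (Nat.card G : ℂ)⁻¹ * ∑ s : G, χ (s * s) ≠ -1 := by
  classical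
  intro hν
  have hΩ : Nonempty Ω := by
    by_contra hcon
    rw [not_nonempty_iff] at hcon
    have h0 : pc G Ω = 0 := by
      funext g
      show (Nat.card (MulAction.fixedBy Ω g) : ℂ) = 0
      simp
    rw [h0, Cfsg.Agent.Helper81.classInner_zero_left] at hm
    exact zero_ne_one hm
  obtain ⟨a⟩ := hΩ
  set H := MulAction.stabilizer G a with hH
  haveI : Fintype H := Fintype.ofFinite _
  have hχcf : IsClassFunction G χ :=
    Cfsg.Agent.Helper81.isClassFunction_of_isCharacter (Cfsg.Agent.Helper81.IsIrrCharacter.isCharacter hχ)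
  have hHm : (Nat.card H : ℂ)⁻¹ * ∑ h : H, χ h = 1 := by
    rw [pc_eq_indFun a, Cfsg.Agent.Helper81.frobenius_reciprocity _ _ hχcf] at hm
    unfold classInner at hm
    simp only [one_mul, hreal] at hm
    exact hm
  obtain ⟨n, ρ, hρ, rfl⟩ := hχ
  have hreal' : ∀ g, ρ.character g⁻¹ = ρ.character g := by
    intro g
    rw [character_inv_eq_conj ρ g]
    exact hreal g
  obtain ⟨ε, B, hε, hsum, hdet, hB, hBt⟩ := frobenius_schur_form ρ hρ hreal'
  have hne : (Nat.card G : ℂ) ≠ 0 := by exact_mod_cast Nat.card_pos.ne'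
  have hεm : ε = -1 := by
    rw [hsum] at hν
    rw [← hν]
    field_simp
  rw [hεm] at hBt
  let M : G → Matrix (Fin n) (Fin n) ℂ := fun x => LinearMap.toMatrix' (ρ x)
  have hM1 : M 1 = 1 := by simp [M]
  have hMmul : ∀ x y, M (x * y) = M x * M y := by
    intro x y
    simp only [M, map_mul]
    exact LinearMap.toMatrix'_mul _ _
  have htr : ∀ x, ρ.character x = (M x).trace := by
    intro x
    simp only [Representation.character, M]
    rw [← Matrix.trace_toLin'_eq, Matrix.toLin'_toMatrix']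
  have hB' : ∀ g, M g * B * (M g)ᵀ = B := hB
  have hinv2 : ∀ g, M g * B = B * (M g⁻¹)ᵀ := by
    intro g
    have h1 : (M g)ᵀ * (M g⁻¹)ᵀ = 1 := by
      rw [← Matrix.transpose_mul, ← hMmul, inv_mul_cancel, hM1, Matrix.transpose_one]
    calc M g * B = M g * B * ((M g)ᵀ * (M g⁻¹)ᵀ) := by rw [h1, mul_one]
      _ = (M g * B * (M g)ᵀ) * (M g⁻¹)ᵀ := by simp only [Matrix.mul_assoc]
      _ = B * (M g⁻¹)ᵀ := by rw [hB']
  have hHne : (Nat.card H : ℂ) ≠ 0 := by exact_mod_cast Nat.card_pos.ne'
  set S : Matrix (Fin n) (Fin n) ℂ := ∑ h : H, M (h : G) with hS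
  set e : Matrix (Fin n) (Fin n) ℂ := (Nat.card H : ℂ)⁻¹ • S with he
  have hMS : ∀ k : H, M (k : G) * S = S := by
    intro k
    rw [hS, Finset.mul_sum]
    refine Fintype.sum_equiv (Equiv.mulLeft k) _ _ fun h => ?_
    rw [Equiv.coe_mulLeft, Subgroup.coe_mul, hMmul]
  have hSS : S * S = (Nat.card H : ℂ) • S := by
    conv_lhs => rw [hS, Finset.sum_mul]
    rw [← hS]
    simp only [hMS]
    rw [Finset.sum_const, Finset.card_univ, Nat.card_eq_fintype_card, Nat.cast_smul_eq_nsmul]
  have hee : e * e = e := by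
    rw [he, Matrix.smul_mul, Matrix.mul_smul, hSS, smul_smul, smul_smul]
    congr 1
    field_simp
  have htre : e.trace = 1 := by
    rw [he, Matrix.trace_smul, hS, Matrix.trace_sum, smul_eq_mul]
    simp only [← htr]
    exact hHm
  have hSB : S * B = B * Sᵀ := by
    rw [hS, Finset.sum_mul, Matrix.transpose_sum, Finset.mul_sum]
    simp only [hinv2]
    refine Fintype.sum_equiv (Equiv.inv H) _ _ fun h => ?_
    simp
  have heB : e * B = B * eᵀ := by
    rw [he, Matrix.smul_mul, hSB, Matrix.transpose_smul, Matrix.mul_smul]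
  have hskew : (e * B)ᵀ = -(e * B) := by
    rw [Matrix.transpose_mul, hBt, heB]
    simp
  have hY : e * (e * B) = e * B := by rw [← Matrix.mul_assoc, hee]
  have hY0 := eq_zero_of_skew_of_idem e (e * B) hee htre hY hskew
  have he0 : e = 0 := by
    have hBu : IsUnit B := (Matrix.isUnit_iff_isUnit_det _).2 hdet
    calc e = e * B * B⁻¹ := by
          rw [Matrix.mul_assoc, Matrix.mul_nonsing_inv _ hdet, mul_one]
      _ = 0 := by rw [hY0, zero_mul]
  rw [he0, Matrix.trace_zero] at htre
  exact zero_ne_one htre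

end PartC

section Count

variable {G : Type u} [Group G] [Fintype G] {Ω : Type v} [Fintype Ω] [MulAction G Ω]

open Classical in
theorem pc_eq_sum (g : G) : pc G Ω g = ∑ a : Ω, if g • a = a then (1 : ℂ) else 0 := by
  show (Nat.card (MulAction.fixedBy Ω g) : ℂ) = _
  rw [Finset.sum_boole, Nat.card_eq_fintype_card]
  congr 1
  rw [Fintype.card_subtype]
  rfl

open Classical in
/-- elements fixing both points -/
noncomputable def stab2 (G : Type u) [Group G] [Fintype G] {Ω : Type v} [MulAction G Ω]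
    (a b : Ω) : Finset G := Finset.univ.filter (fun g : G => g • a = a ∧ g • b = b)

open Classical in
/-- elements interchanging the two points -/
noncomputable def swap2 (G : Type u) [Group G] [Fintype G] {Ω : Type v} [MulAction G Ω]
    (a b : Ω) : Finset G := Finset.univ.filter (fun g : G => g • a = b ∧ g • b = a)

omit [Fintype Ω] in
theorem one_mem_stab2 (a b : Ω) : (1 : G) ∈ stab2 G a b := by
  classical
  simp [stab2]

omit [Fintype Ω] in
theorem card_swap2_of_mem {a b : Ω} {g₀ : G} (hg : g₀ ∈ swap2 G a b) :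
    (swap2 G a b).card = (stab2 G a b).card := by
  classical
  have hg' : g₀ • a = b ∧ g₀ • b = a := by simpa [swap2] using hg
  symm
  refine Finset.card_bij (fun g _ => g₀ * g) ?_ ?_ ?_
  · intro g hgm
    have : g • a = a ∧ g • b = b := by simpa [stab2] using hgm
    simp only [swap2, Finset.mem_filter, Finset.mem_univ, true_and, mul_smul, this.1, this.2]
    exact hg'
  · intro g _ g' _ h
    exact mul_left_cancel h
  · intro k hk
    have hk' : k • a = b ∧ k • b = a := by simpa [swap2] using hk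
    refine ⟨g₀⁻¹ * k, ?_, by group⟩
    simp only [stab2, Finset.mem_filter, Finset.mem_univ, true_and, mul_smul, hk'.1, hk'.2]
    constructor
    · rw [inv_smul_eq_iff, hg'.1]
    · rw [inv_smul_eq_iff, hg'.2]

omit [Fintype Ω] in
theorem card_swap2_le (a b : Ω) : (swap2 G a b).card ≤ (stab2 G a b).card := by
  classical
  rcases (swap2 G a b).eq_empty_or_nonempty with h | ⟨g₀, hg⟩
  · rw [h, Finset.card_empty]; exact Nat.zero_le _
  · exact (card_swap2_of_mem hg).le

theorem all_swap_iff :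
    (∀ a b : Ω, ∃ g : G, g • a = b ∧ g • b = a) ↔
      ∑ a : Ω, ∑ b : Ω, (swap2 G a b).card = ∑ a : Ω, ∑ b : Ω, (stab2 G a b).card := by
  classical
  constructor
  · intro h
    refine Finset.sum_congr rfl fun a _ => Finset.sum_congr rfl fun b _ => ?_
    obtain ⟨g, hg⟩ := h a b
    exact card_swap2_of_mem (g₀ := g) (by simpa [swap2] using hg)
  · intro h a b
    have h1 : ∀ a ∈ (Finset.univ : Finset Ω), ∑ b : Ω, (swap2 G a b).card ≤
        ∑ b : Ω, (stab2 G a b).card :=
      fun a _ => Finset.sum_le_sum fun b _ => card_swap2_le a b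
    have h2 := (Finset.sum_eq_sum_iff_of_le h1).mp h a (Finset.mem_univ _)
    have h3 := (Finset.sum_eq_sum_iff_of_le (fun b _ => card_swap2_le (G := G) a b)).mp h2 b
      (Finset.mem_univ _)
    have h4 : 0 < (swap2 G a b).card := by
      rw [h3]
      exact Finset.card_pos.mpr ⟨1, one_mem_stab2 a b⟩
    obtain ⟨g, hg⟩ := Finset.card_pos.mp h4
    exact ⟨g, by simpa [swap2] using hg⟩

theorem sum_pc_sq : ∑ g : G, pc G Ω g * pc G Ω g =
    ((∑ a : Ω, ∑ b : Ω, (stab2 G a b).card : ℕ) : ℂ) := by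
  classical
  simp only [pc_eq_sum, Finset.sum_mul_sum]
  rw [Finset.sum_comm]
  push_cast
  refine Finset.sum_congr rfl fun a _ => ?_
  rw [Finset.sum_comm]
  refine Finset.sum_congr rfl fun b _ => ?_
  simp only [stab2]
  rw [← Finset.sum_boole]
  refine Finset.sum_congr rfl fun g _ => ?_
  by_cases h1 : g • a = a <;> by_cases h2 : g • b = b <;> simp [h1, h2]

theorem sum_pc_gsq : ∑ g : G, pc G Ω (g * g) =
    ((∑ a : Ω, ∑ b : Ω, (swap2 G a b).card : ℕ) : ℂ) := by
  classical
  simp only [pc_eq_sum]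
  rw [Finset.sum_comm]
  push_cast
  refine Finset.sum_congr rfl fun a _ => ?_
  simp only [swap2]
  simp only [← Finset.sum_boole]
  rw [Finset.sum_comm]
  refine Finset.sum_congr rfl fun g _ => ?_
  have : ∀ b : Ω, (if g • a = b ∧ g • b = a then (1 : ℂ) else 0) =
      if g • a = b then (if (g * g) • a = a then 1 else 0) else 0 := by
    intro b
    by_cases h : g • a = b
    · subst h
      simp [mul_smul]
    · simp [h]
  simp only [this, Finset.sum_ite_eq, Finset.mem_univ, if_true]

end Count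

section Chars

variable {G : Type u} [Group G] [Fintype G] {Ω : Type v} [Fintype Ω] [MulAction G Ω]

omit [Fintype G] in
theorem ofMulAction_character_apply [DecidableEq Ω] (g : G) :
    (Representation.ofMulAction ℂ G Ω).character g = pc G Ω g := by
  show _ = (Nat.card (MulAction.fixedBy Ω g) : ℂ)
  unfold Representation.character
  rw [LinearMap.trace_eq_matrix_trace ℂ (MonoidAlgebra.basis Ω ℂ), Matrix.trace]
  simp only [Matrix.diag_apply, LinearMap.toMatrix_apply, MonoidAlgebra.basis_apply,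
    Representation.ofMulAction_single]
  have : ∀ i : Ω, ((MonoidAlgebra.basis Ω ℂ).repr (MonoidAlgebra.single (g • i) (1 : ℂ))) i
      = if g • i = i then 1 else 0 := by
    intro i
    change (MonoidAlgebra.single (g • i) (1 : ℂ)).coeff i = _
    rw [MonoidAlgebra.coeff_single, Finsupp.single_apply]
  simp_rw [this]
  rw [Finset.sum_boole, Nat.card_eq_fintype_card]
  congr 1
  rw [Fintype.card_subtype]
  rfl

omit [Fintype G] in
theorem pc_isCharacter : IsCharacter G (pc G Ω) := by
  classical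
  have h := Cfsg.Agent.Helper81.isCharacter_of_rep (Representation.ofMulAction ℂ G Ω)
  convert h using 1
  funext g
  rw [ofMulAction_character_apply]

theorem pc_conj (g : G) : conj (pc G Ω g) = pc G Ω g := by
  show conj ((Nat.card (MulAction.fixedBy Ω g) : ℂ)) = _
  rw [Complex.conj_natCast]

/-- Main equivalence behind S0717, in terms of natural multiplicities. -/
theorem swap_iff_mult [MulAction.IsPretransitive G Ω] :
    (∀ a b : Ω, ∃ g : G, g • a = b ∧ g • b = a) ↔
      ∀ χ : G → ℂ, IsIrrCharacter G χ → classInner (pc G Ω) χ ≠ 0 →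
        classInner (pc G Ω) χ = 1 ∧ ∀ g : G, conj (χ g) = χ g := by
  classical
  haveI : Finite G := Finite.of_fintype G
  haveI : Fintype (IrrCharacter G) := @Fintype.ofFinite _ Cfsg.Agent.Helper81.irr_finite
  have hne : (Nat.card G : ℂ) ≠ 0 := by exact_mod_cast Nat.card_pos.ne'
  have hpcC : IsCharacter G (pc G Ω) := pc_isCharacter
  have hpccf : IsClassFunction G (pc G Ω) :=
    Cfsg.Agent.Helper81.isClassFunction_of_isCharacter hpcC
  -- natural multiplicities
  have hk : ∀ χ : IrrCharacter G, ∃ k : ℕ, classInner (pc G Ω) (χ : G → ℂ) = (k : ℂ) :=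
    fun χ => Cfsg.Agent.Helper81.exists_nat_classInner hpcC χ.2
  choose k hk using hk
  -- integer indicators
  have hε : ∀ χ : IrrCharacter G, ∃ ε : ℤ, (ε = 0 ∨ ε = 1 ∨ ε = -1) ∧
      (Nat.card G : ℂ)⁻¹ * ∑ s : G, (χ : G → ℂ) (s * s) = (ε : ℂ) := by
    intro χ
    rcases (irr_fs χ).1 with h | h | h
    · exact ⟨0, Or.inl rfl, by rw [h]; simp⟩
    · exact ⟨1, Or.inr (Or.inl rfl), by rw [h]; simp⟩
    · exact ⟨-1, Or.inr (Or.inr rfl), by rw [h]; simp⟩
  choose ε hε3 hε using hε
  have hexp : pc G Ω = ∑ χ : IrrCharacter G, (k χ : ℂ) • (χ : G → ℂ) := by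
    have := Cfsg.Agent.Helper81.class_function_expansion hpccf
    simp only [hk] at this
    exact this
  -- S and T in terms of multiplicities
  have hS : ∑ g : G, pc G Ω g * pc G Ω g = (Nat.card G : ℂ) * ∑ χ : IrrCharacter G, ((k χ : ℂ)) ^ 2 := by
    have h1 : ∑ g : G, pc G Ω g * pc G Ω g = (Nat.card G : ℂ) * classInner (pc G Ω) (pc G Ω) := by
      unfold classInner
      rw [← mul_assoc, mul_inv_cancel₀ hne, one_mul]
      refine Finset.sum_congr rfl fun g _ => ?_
      rw [pc_conj]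
    have h2 : classInner (pc G Ω) (pc G Ω) =
        classInner (∑ χ : IrrCharacter G, (k χ : ℂ) • (χ : G → ℂ)) (pc G Ω) := by
      rw [← hexp]
    rw [h1, h2, Cfsg.Agent.Helper81.classInner_sum_left]
    congr 1
    refine Finset.sum_congr rfl fun χ _ => ?_
    rw [Cfsg.Agent.Helper81.classInner_smul_left, Cfsg.Agent.Helper81.classInner_conj_symm, hk,
      Complex.conj_natCast, sq]
  have hT : ∑ g : G, pc G Ω (g * g) =
      (Nat.card G : ℂ) * ∑ χ : IrrCharacter G, (k χ : ℂ) * (ε χ : ℂ) := by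
    have h1 : ∀ g : G, pc G Ω (g * g) = ∑ χ : IrrCharacter G, (k χ : ℂ) * (χ : G → ℂ) (g * g) := by
      intro g
      have := congrFun hexp (g * g)
      rw [this]
      simp [Finset.sum_apply]
    simp only [h1]
    rw [Finset.sum_comm, Finset.mul_sum]
    refine Finset.sum_congr rfl fun χ _ => ?_
    rw [← Finset.mul_sum, ← hε χ]
    field_simp
  -- the key equivalence with integers
  have hkey : (∀ a b : Ω, ∃ g : G, g • a = b ∧ g • b = a) ↔
      ∀ χ : IrrCharacter G, k χ ≠ 0 → k χ = 1 ∧ ε χ = 1 := by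
    rw [all_swap_iff (G := G)]
    have hcast : (∑ a : Ω, ∑ b : Ω, (swap2 G a b).card = ∑ a : Ω, ∑ b : Ω, (stab2 G a b).card) ↔
        ∑ χ : IrrCharacter G, ((k χ : ℤ) ^ 2 - (k χ : ℤ) * ε χ) = 0 := by
      have e1 : ((∑ a : Ω, ∑ b : Ω, (swap2 G a b).card : ℕ) : ℂ) =
          (Nat.card G : ℂ) * ∑ χ : IrrCharacter G, (k χ : ℂ) * (ε χ : ℂ) := by
        rw [← sum_pc_gsq, hT]
      have e2 : ((∑ a : Ω, ∑ b : Ω, (stab2 G a b).card : ℕ) : ℂ) =
          (Nat.card G : ℂ) * ∑ χ : IrrCharacter G, ((k χ : ℂ)) ^ 2 := by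
        rw [← sum_pc_sq, hS]
      constructor
      · intro h
        have h1 : ((∑ a : Ω, ∑ b : Ω, (swap2 G a b).card : ℕ) : ℂ) =
            ((∑ a : Ω, ∑ b : Ω, (stab2 G a b).card : ℕ) : ℂ) := by rw [h]
        rw [e1, e2] at h1
        have h2 := mul_left_cancel₀ hne h1
        have h3 : ((∑ χ : IrrCharacter G, ((k χ : ℤ) ^ 2 - (k χ : ℤ) * ε χ) : ℤ) : ℂ) = 0 := by
          push_cast
          rw [Finset.sum_sub_distrib, h2, sub_self]
        exact_mod_cast h3
      · intro h
        have h3 : ((∑ χ : IrrCharacter G, ((k χ : ℤ) ^ 2 - (k χ : ℤ) * ε χ) : ℤ) : ℂ) = 0 := by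
          rw [h]; simp
        push_cast at h3
        rw [Finset.sum_sub_distrib, sub_eq_zero] at h3
        have h1 : ((∑ a : Ω, ∑ b : Ω, (swap2 G a b).card : ℕ) : ℂ) =
            ((∑ a : Ω, ∑ b : Ω, (stab2 G a b).card : ℕ) : ℂ) := by
          rw [e1, e2, h3]
        exact_mod_cast h1
    rw [hcast]
    have hnn : ∀ χ ∈ (Finset.univ : Finset (IrrCharacter G)),
        0 ≤ (k χ : ℤ) ^ 2 - (k χ : ℤ) * ε χ := by
      intro χ _
      have hk0 : (0 : ℤ) ≤ k χ := Int.natCast_nonneg _
      rcases hε3 χ with h | h | h <;> rw [h] <;> nlinarith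
    rw [Finset.sum_eq_zero_iff_of_nonneg hnn]
    constructor
    · intro h χ hkχ
      have h1 := h χ (Finset.mem_univ _)
      have hk1 : (1 : ℤ) ≤ k χ := by exact_mod_cast Nat.one_le_iff_ne_zero.mpr hkχ
      rcases hε3 χ with h2 | h2 | h2 <;> rw [h2] at h1
      · nlinarith
      · refine ⟨?_, h2⟩
        have : (k χ : ℤ) = 1 := by nlinarith
        exact_mod_cast this
      · nlinarith
    · intro h χ _
      by_cases hkχ : k χ = 0
      · rw [hkχ]; simp
      · obtain ⟨h1, h2⟩ := h χ hkχ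
        rw [h1, h2]; simp
  rw [hkey]
  constructor
  · intro h χ hχ hm
    have hkχ : k ⟨χ, hχ⟩ ≠ 0 := by
      intro h0
      apply hm
      have := hk ⟨χ, hχ⟩
      rw [h0] at this
      simpa using this
    obtain ⟨h1, h2⟩ := h ⟨χ, hχ⟩ hkχ
    refine ⟨?_, ?_⟩
    · have := hk ⟨χ, hχ⟩
      rw [h1] at this
      simpa using this
    · have hν := hε ⟨χ, hχ⟩
      rw [h2] at hν
      have hfs := (isIrr_fs hχ).2.1
      intro g
      by_contra hg
      have : ∃ s : G, (χ s).im ≠ 0 := ⟨g, fun h0 => hg (Complex.conj_eq_iff_im.2 h0)⟩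
      have h0 := hfs.2 this
      have hν' : (Nat.card G : ℂ)⁻¹ * ∑ s : G, χ (s * s) = 1 := by simpa using hν
      rw [h0] at hν'
      exact zero_ne_one hν'
  · intro h χ hkχ
    have hm : classInner (pc G Ω) (χ : G → ℂ) ≠ 0 := by
      rw [hk]
      exact_mod_cast hkχ
    obtain ⟨h1, h2⟩ := h χ χ.2 hm
    have hk1 : k χ = 1 := by
      rw [hk] at h1
      exact_mod_cast h1
    refine ⟨hk1, ?_⟩
    have hfs := (isIrr_fs χ.2).2.1
    rcases hε3 χ with h3 | h3 | h3
    · exfalso
      have hν := hε χ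
      rw [h3] at hν
      have hν' : (Nat.card G : ℂ)⁻¹ * ∑ s : G, (χ : G → ℂ) (s * s) = 0 := by simpa using hν
      obtain ⟨s, hs⟩ := hfs.1 hν'
      exact hs (Complex.conj_eq_iff_im.1 (h2 s))
    · exact h3
    · exfalso
      have hν := hε χ
      rw [h3] at hν
      have hν' : (Nat.card G : ℂ)⁻¹ * ∑ s : G, (χ : G → ℂ) (s * s) = -1 := by simpa using hν
      exact fs_ne_neg_one_of_mult_one (Ω := Ω) χ.2 h2 h1 hν'

end Chars

end Cfsg.Agent.Helper80
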