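import Mathlib
import Cfsg.Agent.Lib.Helper80.WinterA

/-!
# Winter's theorem, part B: the permutation-group lemma

A solvable group `X`, a subgroup `H`, a `p`-element `x` outside the core of `H`:
then `|X : H|` is divisible by a prime power `q ≡ 0, 1 (mod p)`.
-/

set_option autoImplicit false

namespace Cfsg.Agent.Helper80.WinterB

open Cfsg.Agent.Helper80.WinterA

universe u

theorem not_mem_normalCore {X : Type*} [Group X] {H : Subgroup X} {x : X}
    (h : x ∉ H.normalCore) : ∃ g : X, g * x * g⁻¹ ∉ H := by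
  by_contra hcon
  push Not at hcon
  exact h (fun b => hcon b)

theorem exists_mul_of_sup_eq_top {X : Type*} [Group X] (H A : Subgroup X) [A.Normal]
    (h : A ⊔ H = ⊤) (g : X) : ∃ h' ∈ H, ∃ a ∈ A, g = h' * a := by
  have h1 : g ∈ ((H ⊔ A : Subgroup X) : Set X) := by
    rw [sup_comm, h]; trivial
  rw [Subgroup.mul_normal] at h1
  obtain ⟨h', hh', a, ha, rfl⟩ := h1
  exact ⟨h', hh', a, ha, rfl⟩

/-- the regular normal subgroup case -/
theorem pg_regular {X : Type u} [Group X] [Finite X] (p : ℕ) [hp : Fact p.Prime]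
    (H A : Subgroup X) (hC : H.normalCore = ⊥) (r : ℕ) (hr : r.Prime) (hrp : r ≠ p)
    [hAn : A.Normal] (hAab : ∀ a ∈ A, ∀ b ∈ A, a * b = b * a) (hAr : IsPGroup r A)
    (hY : A ⊔ H = ⊤) (x : X) (k : ℕ) (hx : x ^ p ^ k = 1) (hxH : x ∉ H) :
    Good p H.index := by
  have hAH0 : A ⊓ H = ⊥ := by
    have hn : (A ⊓ H).Normal := by
      constructor
      intro n hn g
      obtain ⟨h', hh', a, ha, rfl⟩ := exists_mul_of_sup_eq_top H A hY g
      have h1 : h' * a * n * (h' * a)⁻¹ = h' * n * h'⁻¹ := by
        have := hAab a ha n hn.1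
        calc h' * a * n * (h' * a)⁻¹ = h' * (a * n) * a⁻¹ * h'⁻¹ := by group
          _ = h' * (n * a) * a⁻¹ * h'⁻¹ := by rw [this]
          _ = h' * n * h'⁻¹ := by group
      rw [h1]
      exact ⟨hAn.conj_mem n hn.1 h', H.mul_mem (H.mul_mem hh' hn.2) (H.inv_mem hh')⟩
    have h2 : A ⊓ H ≤ H.normalCore := Subgroup.normal_le_normalCore.2 inf_le_right
    rw [hC] at h2
    exact le_bot_iff.1 h2
  have hidx : H.index = Nat.card A := by
    have h1 : H.relIndex (H ⊔ A) = H.relIndex A := Cfsg.Agent.Helper79.relIndex_sup_eq_of_normal H A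
    rw [sup_comm, hY, Subgroup.relIndex_top_right] at h1
    rw [h1, ← Subgroup.inf_relIndex_right, inf_comm, hAH0, Subgroup.relIndex_bot_left]
  have : Fact r.Prime := ⟨hr⟩
  obtain ⟨b, hb⟩ := (IsPGroup.iff_card).1 hAr
  have hpidx : ¬ p ∣ H.index := by
    rw [hidx, hb]
    intro h
    have := hp.out.dvd_of_dvd_pow h
    exact hrp ((Nat.prime_dvd_prime_iff_eq hp.out hr).1 this).symm
  obtain ⟨y, hy⟩ := exists_conj_mem_of_not_dvd_index H hpidx x (isPGroup_zpowers_of_pow_eq_one hx)
  set x'' := y⁻¹ * x * y with hx''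
  have hx''p : x'' ^ p ^ k = 1 := by
    have : x'' = y⁻¹ * x * (y⁻¹)⁻¹ := by rw [inv_inv]
    rw [this, conj_pow, hx, mul_one, mul_inv_cancel]
  have hx''1 : x'' ≠ 1 := by
    intro h
    apply hxH
    have : x = y * x'' * y⁻¹ := by rw [hx'']; group
    rw [this, h]
    simp
  have hnorm : x'' ∈ Subgroup.normalizer (A : Set X) := by
    rw [Subgroup.normalizer_eq_top]; trivial
  have h1 := card_modEq_card_inf_centralizer A x'' hnorm p (isPGroup_zpowers_of_pow_eq_one hx''p)
  have hdvd : Nat.card (A ⊓ Subgroup.centralizer ({x''} : Set X) : Subgroup X) ∣ r ^ b := by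
    rw [← hb]
    exact Subgroup.card_dvd_of_le inf_le_left
  obtain ⟨c, hcb, hc⟩ := (Nat.dvd_prime_pow hr).1 hdvd
  have hcb' : c < b := by
    rcases Nat.lt_or_ge c b with h | h
    · exact h
    exfalso
    have hcb2 : c = b := le_antisymm hcb h
    have heq : A ⊓ Subgroup.centralizer ({x''} : Set X) = A := by
      apply Subgroup.eq_of_le_of_card_ge inf_le_left
      rw [hc, hb, hcb2]
    have hAC : A ≤ Subgroup.centralizer ({x''} : Set X) := by
      rw [← heq]; exact inf_le_right
    apply hx''1
    have hcore : x'' ∈ H.normalCore := by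
      intro g
      obtain ⟨h', hh', a, ha, rfl⟩ := exists_mul_of_sup_eq_top H A hY g
      have h3 := Subgroup.mem_centralizer_singleton_iff.1 (hAC ha)
      have h4 : h' * a * x'' * (h' * a)⁻¹ = h' * x'' * h'⁻¹ := by
        calc h' * a * x'' * (h' * a)⁻¹ = h' * (a * x'') * a⁻¹ * h'⁻¹ := by group
          _ = h' * (x'' * a) * a⁻¹ * h'⁻¹ := by rw [h3]
          _ = h' * x'' * h'⁻¹ := by group
      rw [h4]
      exact H.mul_mem (H.mul_mem hh' hy) (H.inv_mem hh')
    rw [hC] at hcore
    exact (Subgroup.mem_bot).1 hcore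
  rw [hb, hc] at h1
  exact good_of_pow_modEq hp.out hr (Ne.symm hrp) hcb' h1 (by rw [hidx, hb])

theorem pg (p : ℕ) [hp : Fact p.Prime] : ∀ (k : ℕ) (X : Type u) [Group X] [Finite X],
    Group.IsSolvable X → ∀ H : Subgroup X, Nat.card X + H.index = k →
    ∀ x : X, (∃ j : ℕ, x ^ p ^ j = 1) → x ∉ H.normalCore → Good p H.index := by
  intro k
  induction k using Nat.strong_induction_on with
  | _ k ih =>
  intro X _ _ hs H hk x hx hxH
  have hidx_pos : 0 < H.index := Nat.pos_of_ne_zero Subgroup.index_ne_zero_of_finite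
  by_cases hC : H.normalCore = ⊥
  · -- core-free
    have hx1 : x ≠ 1 := fun h => hxH (h ▸ one_mem _)
    have : Nontrivial X := ⟨⟨x, 1, hx1⟩⟩
    obtain ⟨r, A, hr, hAn, hA1, hAab, hAr⟩ := exists_normal_abelian_pgroup hs
    have := hAn
    have hAH : ¬ A ≤ H := fun h => hA1 (le_bot_iff.1 (hC ▸ (Subgroup.normal_le_normalCore.2 h)))
    obtain ⟨g, hg⟩ := not_mem_normalCore hxH
    obtain ⟨j, hj⟩ := hx
    have hj' : (g * x * g⁻¹) ^ p ^ j = 1 := by
      rw [conj_pow, hj, mul_one, mul_inv_cancel]
    -- index bookkeeping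
    have hrel : H.relIndex (A ⊔ H) = H.relIndex A := by
      rw [sup_comm]; exact Cfsg.Agent.Helper79.relIndex_sup_eq_of_normal H A
    have hmul : H.relIndex (A ⊔ H) * (A ⊔ H).index = H.index :=
      Subgroup.relIndex_mul_index le_sup_right
    have : Fact r.Prime := ⟨hr⟩
    obtain ⟨a, ha⟩ := (IsPGroup.iff_card).1 hAr
    obtain ⟨b, hba, hb⟩ := (Nat.dvd_prime_pow hr).1 (ha ▸ Subgroup.relIndex_dvd_card H A)
    have hb1 : 1 ≤ b := by
      rcases Nat.eq_zero_or_pos b with h | h
      · exfalso
        rw [h, pow_zero, Subgroup.relIndex_eq_one] at hb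
        exact hAH hb
      · exact h
    have hYidx_pos : 0 < (A ⊔ H).index := Nat.pos_of_ne_zero Subgroup.index_ne_zero_of_finite
    by_cases hrp : r = p
    · subst hrp
      apply good_self_pow hr hb1
      rw [← hb, ← hrel, ← hmul]
      exact Dvd.intro _ rfl
    by_cases hxY : x ∈ (A ⊔ H).normalCore
    swap
    · have hlt : (A ⊔ H).index < H.index := by
        rw [← hmul, hrel, hb]
        have : 2 ≤ r ^ b := by
          calc 2 ≤ r := hr.two_le
            _ = r ^ 1 := (pow_one r).symm
            _ ≤ r ^ b := Nat.pow_le_pow_right hr.pos hb1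
        nlinarith
      have h1 := ih (Nat.card X + (A ⊔ H).index) (by omega) X hs (A ⊔ H) rfl x ⟨j, hj⟩ hxY
      exact h1.of_dvd (Dvd.intro_left _ hmul)
    have hx'Y : g * x * g⁻¹ ∈ A ⊔ H :=
      (Subgroup.normalCore_le _) ((Subgroup.normalCore_normal _).conj_mem x hxY g)
    by_cases hYtop : A ⊔ H = ⊤
    · exact pg_regular p H A hC r hr hrp hAab hAr hYtop (g * x * g⁻¹) j hj' hg
    · -- pass to the subgroup `A ⊔ H`
      set Y := A ⊔ H with hYdef
      have hcardY : Nat.card Y < Nat.card X := by
        have h1 : Nat.card Y ≤ Nat.card X := Subgroup.card_le_card_group Y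
        rcases Nat.lt_or_ge (Nat.card Y) (Nat.card X) with h | h
        · exact h
        · exact absurd (Subgroup.eq_top_of_card_eq Y (le_antisymm h1 h)) hYtop
      have hrel_le : H.relIndex Y ≤ H.index := by
        rw [← hmul]
        exact Nat.le_mul_of_pos_right _ hYidx_pos
      have hsY : Group.IsSolvable Y := by
        have := hs
        infer_instance
      have h1 := ih (Nat.card Y + (H.subgroupOf Y).index)
        (by
          have : (H.subgroupOf Y).index = H.relIndex Y := rfl
          omega) Y hsY (H.subgroupOf Y) rfl ⟨g * x * g⁻¹, hx'Y⟩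
        ⟨j, by apply Subtype.ext; simpa using hj'⟩
        (by
          intro hcon
          have h2 := (Subgroup.normalCore_le _) hcon
          rw [Subgroup.mem_subgroupOf] at h2
          exact hg h2)
      have h3 : (H.subgroupOf Y).index = H.relIndex Y := rfl
      rw [h3] at h1
      exact h1.of_dvd (Dvd.intro _ hmul)
  · -- quotient by the core
    set C := H.normalCore with hCdef
    have hCn : C.Normal := Subgroup.normalCore_normal H
    have hCH : C ≤ H := Subgroup.normalCore_le H
    have hcard : Nat.card (X ⧸ C) < Nat.card X := by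
      have h1 : Nat.card X = Nat.card (X ⧸ C) * Nat.card C := Subgroup.card_eq_card_quotient_mul_card_subgroup C
      have h2 : 2 ≤ Nat.card C := by
        rcases Nat.lt_or_ge (Nat.card C) 2 with h | h
        · exfalso
          have hpos : 0 < Nat.card C := Nat.card_pos
          exact hC (Subgroup.card_eq_one.1 (by omega))
        · exact h
      have h3 : 0 < Nat.card (X ⧸ C) := Nat.card_pos
      nlinarith
    have hidx : (H.map (QuotientGroup.mk' C)).index = H.index := by
      apply Subgroup.index_map_eq _ (QuotientGroup.mk'_surjective C)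
      rw [QuotientGroup.ker_mk']
      exact hCH
    have hsQ : Group.IsSolvable (X ⧸ C) := by
      have := hs
      infer_instance
    obtain ⟨j, hj⟩ := hx
    have h1 := ih (Nat.card (X ⧸ C) + (H.map (QuotientGroup.mk' C)).index) (by omega) (X ⧸ C) hsQ
      (H.map (QuotientGroup.mk' C)) rfl (QuotientGroup.mk' C x)
      ⟨j, by rw [← map_pow, hj, map_one]⟩
      (by
        intro hcon
        apply hxH
        set D := ((H.map (QuotientGroup.mk' C)).normalCore).comap (QuotientGroup.mk' C) with hD
        have hDn : D.Normal := (Subgroup.normalCore_normal _).comap _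
        have hDH : D ≤ H := by
          intro d hd
          have h2 : QuotientGroup.mk' C d ∈ H.map (QuotientGroup.mk' C) :=
            (Subgroup.normalCore_le _) hd
          obtain ⟨h', hh', he⟩ := h2
          have h3 : h'⁻¹ * d ∈ C := by
            rw [← QuotientGroup.eq]
            exact he
          have : d = h' * (h'⁻¹ * d) := by group
          rw [this]
          exact H.mul_mem hh' (hCH h3)
        have hDC : D ≤ H.normalCore := Subgroup.normal_le_normalCore.2 hDH
        exact hDC hcon)
    rw [hidx] at h1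
    exact h1

end Cfsg.Agent.Helper80.WinterB
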