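import Mathlib
import Cfsg.Agent.Lib.Helper1.Coprime
import Cfsg.Agent.Lib.Helper80.WinterA

/-!
# Winter's theorem, part C: the group theory of the quasi-primitive case
-/

set_option autoImplicit false

namespace Cfsg.Agent.Helper80.WinterC

open Subgroup Cfsg.Agent.Helper80.WinterA

variable {G : Type*} [Group G]

theorem centralizer_zpowers (x : G) :
    centralizer ((zpowers x : Subgroup G) : Set G) = centralizer ({x} : Set G) := by
  ext g
  constructor
  · intro h
    rw [mem_centralizer_singleton_iff]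
    exact (h x (mem_zpowers x)).symm
  · intro h y hy
    obtain ⟨n, rfl⟩ := mem_zpowers_iff.1 hy
    have hc : Commute g x := mem_centralizer_singleton_iff.1 h
    exact ((hc.zpow_right n).eq).symm

/-- the commutator subgroup of a nontrivial finite `q`-subgroup is proper -/
theorem commutator_lt_self {q : ℕ} [Fact q.Prime] (H : Subgroup G) [Finite H]
    (hH : IsPGroup q H) (hne : H ≠ ⊥) : ⁅H, H⁆ < H := by
  have : Group.IsNilpotent H := hH.isNilpotent
  have : Nontrivial H := (Subgroup.nontrivial_iff_ne_bot H).mpr hne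
  have h := Group.IsSolvable.commutator_lt_top_of_nontrivial H
  rw [← H.range_subtype, MonoidHom.range_eq_map, ← Subgroup.map_commutator,
    Subgroup.map_subtype_lt_map_subtype]
  exact h

theorem mem_normalizer_sup {A B : Subgroup G} {x : G} (hA : x ∈ normalizer (A : Set G))
    (hB : x ∈ normalizer (B : Set G)) : x ∈ normalizer ((A ⊔ B : Subgroup G) : Set G) := by
  have key : ∀ y : G, y ∈ normalizer (A : Set G) → y ∈ normalizer (B : Set G) →
      ∀ h ∈ A ⊔ B, y * h * y⁻¹ ∈ A ⊔ B := by
    intro y hyA hyB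
    have : A ⊔ B ≤ (A ⊔ B).comap (MulAut.conj y).toMonoidHom := by
      apply sup_le
      · intro a ha
        rw [mem_comap]
        exact (le_sup_left : A ≤ A ⊔ B) ((mem_normalizer_iff.1 hyA a).1 ha)
      · intro b hb
        rw [mem_comap]
        exact (le_sup_right : B ≤ A ⊔ B) ((mem_normalizer_iff.1 hyB b).1 hb)
    intro h hh
    exact this hh
  rw [mem_normalizer_iff]
  intro h
  constructor
  · exact key x hA hB h
  · intro hh
    have := key x⁻¹ (inv_mem hA) (inv_mem hB) _ hh
    simpa [mul_assoc] using this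

theorem comm_aux (c n q z : G) (hz : ∀ g : G, g * z = z * g) (hzn : c * n * c⁻¹ = z * n)
    (hcq : c * q = q * c) : c * (n * q * n⁻¹ * q⁻¹) = (n * q * n⁻¹ * q⁻¹) * c := by
  have h1 : c * (n * q * n⁻¹ * q⁻¹) * c⁻¹ =
      (c * n * c⁻¹) * (c * q * c⁻¹) * (c * n * c⁻¹)⁻¹ * (c * q * c⁻¹)⁻¹ := by group
  have hq' : c * q * c⁻¹ = q := by rw [hcq]; group
  rw [hzn, hq'] at h1
  have h2 : z * n * q * (z * n)⁻¹ * q⁻¹ = z * (n * q * n⁻¹) * z⁻¹ * q⁻¹ := by group
  have h3 : z * (n * q * n⁻¹) * z⁻¹ = n * q * n⁻¹ := by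
    rw [← hz (n * q * n⁻¹)]; group
  rw [h2, h3] at h1
  calc c * (n * q * n⁻¹ * q⁻¹) = c * (n * q * n⁻¹ * q⁻¹) * c⁻¹ * c := by group
    _ = n * q * n⁻¹ * q⁻¹ * c := by rw [h1]

/-- Structure of a minimal normal `r`-subgroup not centralized by the `p`-element `x`, when all
abelian normal subgroups are central. -/
theorem exists_MD_coprime [Finite G] (p r : ℕ) [hp : Fact p.Prime] [hr : Fact r.Prime] (hpr : p ≠ r)
    (x : G) (k : ℕ) (hx : x ^ p ^ k = 1) (N : Subgroup G) [hNn : N.Normal] (hNr : IsPGroup r N)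
    (h1 : ¬ N ≤ centralizer ({x} : Set G))
    (h2 : ∀ Y : Subgroup G, Y.Normal → Y < N → Y ≤ centralizer ({x} : Set G))
    (h3 : ∀ A : Subgroup G, A.Normal → (∀ a ∈ A, ∀ b ∈ A, a * b = b * a) → A ≤ center G) :
    ∃ (M D : Subgroup G), M ≤ D ∧ M ≤ center G ∧
      (∀ d ∈ D, (∀ y ∈ D, y * d = d * y) → d ∈ M) ∧
      (∀ a ∈ D, ∀ b ∈ D, a * b * a⁻¹ * b⁻¹ ∈ M) ∧
      ∃ j : ℕ, 1 ≤ j ∧ Nat.card D = r ^ j * Nat.card M ∧ r ^ j ≡ 1 [MOD p] := by
  classical
  set Q := zpowers x with hQ
  have hQp : IsPGroup p Q := isPGroup_zpowers_of_pow_eq_one hx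
  have hcop : (Nat.card Q).Coprime (Nat.card N) := by
    obtain ⟨a, ha⟩ := (IsPGroup.iff_card).1 hQp
    obtain ⟨b, hb⟩ := (IsPGroup.iff_card).1 hNr
    rw [ha, hb]
    exact Nat.Coprime.pow _ _ ((Nat.coprime_primes hp.out hr.out).2 hpr)
  have hQN : Q ≤ normalizer (N : Set G) := by rw [normalizer_eq_top]; exact le_top
  have hsolv : Group.IsSolvable Q ∨ Group.IsSolvable N := by
    right
    have : Group.IsNilpotent N := hNr.isNilpotent
    infer_instance
  have hCQ : centralizer ((Q : Subgroup G) : Set G) = centralizer ({x} : Set G) :=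
    centralizer_zpowers x
  set M := N ⊓ centralizer (N : Set G) with hM
  have hMn : M.Normal := inferInstance
  have hMab : ∀ a ∈ M, ∀ b ∈ M, a * b = b * a := fun a ha b hb =>
    (mem_centralizer_iff.1 hb.2) a ha.1
  have hMZ : M ≤ center G := h3 M hMn hMab
  have hcenter_le : ∀ S : Set G, center G ≤ centralizer S := fun S => center_le_centralizer S
  -- if `⁅N, Q⁆` is centralized by `Q` we get a contradiction
  have hkill : ⁅N, Q⁆ ≤ centralizer ((Q : Subgroup G) : Set G) → False := by
    intro h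
    have h5 : ⁅⁅N, Q⁆, Q⁆ = ⊥ := commutator_eq_bot_iff_le_centralizer.2 h
    have h6 : ⁅N, Q⁆ = ⊥ := by
      rw [← Cfsg.Agent.Helper1.commutator_commutator_eq Q N hQN hcop hsolv]; exact h5
    have h7 : N ≤ centralizer ((Q : Subgroup G) : Set G) := commutator_eq_bot_iff_le_centralizer.1 h6
    exact h1 (by rw [← hCQ]; exact h7)
  -- proper normal subgroups lie in `M`
  have hc2 : ∀ Y : Subgroup G, Y.Normal → Y < N → Y ≤ M := by
    intro Y hYn hYN
    haveI := hYn
    set K := N ⊓ centralizer (Y : Set G) with hK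
    have hKn : K.Normal := inferInstance
    by_cases hKN : K = N
    · have : N ≤ centralizer (Y : Set G) := by rw [← hKN]; exact inf_le_right
      exact le_inf hYN.le (le_centralizer_iff.1 this)
    · exfalso
      have hKlt : K < N := lt_of_le_of_ne inf_le_left hKN
      have hKx := h2 K hKn hKlt
      have hYx := h2 Y hYn hYN
      apply hkill
      have h4 : ⁅N, Q⁆ ≤ K := by
        apply le_inf (Cfsg.Agent.Helper1.commutator_le_of_le_normalizer hQN)
        rw [commutator_le]
        intro n hn q hq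
        rw [mem_centralizer_iff]
        intro y hy
        have hqC : q ∈ centralizer ((centralizer ({x} : Set G) : Subgroup G) : Set G) := by
          have : Q ≤ centralizer ((centralizer ({x} : Set G) : Subgroup G) : Set G) := by
            rw [zpowers_le]
            intro g hg
            exact (mem_centralizer_singleton_iff.1 hg)
          exact this hq
        have hyq : y * q = q * y := (mem_centralizer_iff.1 hqC) y (hYx hy)
        have hy' : n⁻¹ * y * n ∈ Y := by
          have := hYn.conj_mem y hy n⁻¹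
          simpa using this
        have hy'q : (n⁻¹ * y * n) * q = q * (n⁻¹ * y * n) := (mem_centralizer_iff.1 hqC) _ (hYx hy')
        have hq1 : q⁻¹ * y = y * q⁻¹ := by
          calc q⁻¹ * y = q⁻¹ * (y * q) * q⁻¹ := by group
            _ = q⁻¹ * (q * y) * q⁻¹ := by rw [hyq]
            _ = y * q⁻¹ := by group
        rw [commutatorElement_def]
        symm
        calc n * q * n⁻¹ * q⁻¹ * y = n * q * n⁻¹ * (q⁻¹ * y) := by group
          _ = n * q * n⁻¹ * (y * q⁻¹) := by rw [hq1]
          _ = n * (q * (n⁻¹ * y * n)) * n⁻¹ * q⁻¹ := by group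
          _ = n * ((n⁻¹ * y * n) * q) * n⁻¹ * q⁻¹ := by rw [hy'q]
          _ = y * (n * q * n⁻¹ * q⁻¹) := by group
      rw [hCQ]
      exact h4.trans hKx
  have hN1 : N ≠ ⊥ := by
    intro h
    apply h1
    rw [h]; exact bot_le
  have hNN : ⁅N, N⁆ ≤ M :=
    hc2 ⁅N, N⁆ (commutator_normal N N) (commutator_lt_self N hNr hN1)
  set C := N ⊓ centralizer ((Q : Subgroup G) : Set G) with hC
  have hNeq : ⁅N, Q⁆ ⊔ C = N := Cfsg.Agent.Helper1.commutator_sup_centralizer Q N hQN hcop hsolv
  have hNQN : ⁅N, Q⁆ ≤ N := Cfsg.Agent.Helper1.commutator_le_of_le_normalizer hQN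
  set D := ⁅N, Q⁆ ⊔ M with hD
  have hDN : D ≤ N := sup_le hNQN inf_le_left
  -- `C` centralizes `D`
  have hCD : ∀ c ∈ C, D ≤ centralizer ({c} : Set G) := by
    intro c hc
    apply sup_le
    · rw [commutator_le]
      intro n hn q hq
      rw [mem_centralizer_singleton_iff, commutatorElement_def]
      have hz : c * n * c⁻¹ * n⁻¹ ∈ center G := by
        apply hMZ
        apply hNN
        have := commutator_mem_commutator hc.1 hn
        rwa [commutatorElement_def] at this
      have hcq : c * q = q * c := ((mem_centralizer_iff.1 hc.2) q hq).symm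
      symm
      apply comm_aux c n q (c * n * c⁻¹ * n⁻¹) (fun g => (mem_center_iff.1 hz) g) (by group) hcq
    · intro m hm
      rw [mem_centralizer_singleton_iff]
      exact ((mem_center_iff.1 (hMZ hm)) c).symm
  have hZD : ∀ d ∈ D, (∀ y ∈ D, y * d = d * y) → d ∈ M := by
    intro d hd hdc
    refine ⟨hDN hd, ?_⟩
    have : N ≤ centralizer ({d} : Set G) := by
      rw [← hNeq]
      apply sup_le
      · intro w hw
        rw [mem_centralizer_singleton_iff]
        exact hdc w ((le_sup_left : ⁅N, Q⁆ ≤ D) hw)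
      · intro c hc
        rw [mem_centralizer_singleton_iff]
        have := mem_centralizer_singleton_iff.1 (hCD c hc hd)
        exact this.symm
    show d ∈ centralizer (N : Set G)
    rw [mem_centralizer_iff]
    intro n hn
    exact mem_centralizer_singleton_iff.1 (this hn)
  have hDD : ∀ a ∈ D, ∀ b ∈ D, a * b * a⁻¹ * b⁻¹ ∈ M := by
    intro a ha b hb
    apply hNN
    have := commutator_mem_commutator (hDN ha) (hDN hb)
    rwa [commutatorElement_def] at this
  have hMD : M ≤ D := le_sup_right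
  have hDx : D ⊓ centralizer ({x} : Set G) = M := by
    apply le_antisymm
    · intro d hd
      have hdC : d ∈ C := ⟨hDN hd.1, by rw [hCQ]; exact hd.2⟩
      apply hZD d hd.1
      intro y hy
      exact (mem_centralizer_singleton_iff.1 (hCD d hdC hy))
    · exact le_inf hMD (hMZ.trans (hcenter_le _))
  have hxD : x ∈ normalizer (D : Set G) := by
    apply mem_normalizer_sup
    · exact Cfsg.Agent.Helper1.le_normalizer_commutator_right hQN (mem_zpowers x)
    · rw [normalizer_eq_top]; trivial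
  have hmod := card_modEq_card_inf_centralizer D x hxD p hQp
  rw [hDx] at hmod
  have hDr : IsPGroup r D := hNr.to_le hDN
  have hMr : IsPGroup r M := hNr.to_le inf_le_left
  obtain ⟨a, ha⟩ := (IsPGroup.iff_card).1 hDr
  obtain ⟨b, hb⟩ := (IsPGroup.iff_card).1 hMr
  have hba : b ≤ a := by
    have h := Subgroup.card_dvd_of_le hMD
    rw [ha, hb] at h
    exact (Nat.pow_dvd_pow_iff_le_right hr.out.one_lt).1 h
  have hMneD : M ≠ D := by
    intro h
    apply hkill
    have : ⁅N, Q⁆ ≤ M := by rw [h]; exact le_sup_left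
    exact this.trans (hMZ.trans (hcenter_le _))
  have hlt : b < a := by
    rcases Nat.lt_or_ge b a with h | h
    · exact h
    · exfalso
      apply hMneD
      apply Subgroup.eq_of_le_of_card_ge hMD
      rw [ha, hb]
      exact Nat.pow_le_pow_right hr.out.pos h
  refine ⟨M, D, hMD, hMZ, hZD, hDD, a - b, by omega, ?_, ?_⟩
  · rw [ha, hb, ← pow_add]; congr 1; omega
  · rw [ha, hb] at hmod
    have hab : r ^ a = r ^ b * r ^ (a - b) := by rw [← pow_add]; congr 1; omega
    rw [hab] at hmod
    have hcop2 : Nat.Coprime p (r ^ b) := by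
      apply Nat.Coprime.pow_right
      exact (Nat.coprime_primes hp.out hr.out).2 hpr
    have h2' : r ^ b * r ^ (a - b) ≡ r ^ b * 1 [MOD p] := by rw [mul_one]; exact hmod
    exact Nat.ModEq.cancel_left_of_coprime hcop2 h2'

/-- Structure of a minimal nonabelian normal `p`-subgroup when abelian normal subgroups are central. -/
theorem exists_MD_pgroup [Finite G] (p : ℕ) [hp : Fact p.Prime] (N : Subgroup G) [hNn : N.Normal]
    (hNp : IsPGroup p N) (hnab : ¬ ∀ a ∈ N, ∀ b ∈ N, a * b = b * a)
    (hmin : ∀ Y : Subgroup G, Y.Normal → Y < N → ∀ a ∈ Y, ∀ b ∈ Y, a * b = b * a)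
    (h3 : ∀ A : Subgroup G, A.Normal → (∀ a ∈ A, ∀ b ∈ A, a * b = b * a) → A ≤ center G) :
    ∃ (M D : Subgroup G), M ≤ D ∧ M ≤ center G ∧
      (∀ d ∈ D, (∀ y ∈ D, y * d = d * y) → d ∈ M) ∧
      (∀ a ∈ D, ∀ b ∈ D, a * b * a⁻¹ * b⁻¹ ∈ M) ∧
      ∃ j : ℕ, 1 ≤ j ∧ Nat.card D = p ^ j * Nat.card M := by
  classical
  set M := N ⊓ centralizer (N : Set G) with hM
  have hMn : M.Normal := inferInstance
  have hMab : ∀ a ∈ M, ∀ b ∈ M, a * b = b * a := fun a ha b hb =>
    (mem_centralizer_iff.1 hb.2) a ha.1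
  have hMZ : M ≤ center G := h3 M hMn hMab
  have hN1 : N ≠ ⊥ := by
    intro h
    apply hnab
    intro a ha b hb
    rw [h, mem_bot] at ha hb
    rw [ha, hb]
  have hlt := commutator_lt_self N hNp hN1
  have hNNn : (⁅N, N⁆ : Subgroup G).Normal := commutator_normal N N
  have hNN : ⁅N, N⁆ ≤ M := by
    have hc := h3 ⁅N, N⁆ hNNn (hmin ⁅N, N⁆ hNNn hlt)
    exact le_inf hlt.le (hc.trans (center_le_centralizer _))
  have hMneN : M ≠ N := by
    intro h
    apply hnab
    intro a ha b hb
    rw [← h] at ha hb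
    exact hMab a ha b hb
  have hMr : IsPGroup p M := hNp.to_le inf_le_left
  obtain ⟨a, ha⟩ := (IsPGroup.iff_card).1 hNp
  obtain ⟨b, hb⟩ := (IsPGroup.iff_card).1 hMr
  have hMN : M ≤ N := inf_le_left
  have hba : b ≤ a := by
    have h := Subgroup.card_dvd_of_le hMN
    rw [ha, hb] at h
    exact (Nat.pow_dvd_pow_iff_le_right hp.out.one_lt).1 h
  have hlt2 : b < a := by
    rcases Nat.lt_or_ge b a with h | h
    · exact h
    · exfalso
      apply hMneN
      apply Subgroup.eq_of_le_of_card_ge hMN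
      rw [ha, hb]
      exact Nat.pow_le_pow_right hp.out.pos h
  refine ⟨M, N, hMN, hMZ, ?_, ?_, a - b, by omega, ?_⟩
  · intro d hd hdc
    refine ⟨hd, ?_⟩
    show d ∈ centralizer (N : Set G)
    rw [mem_centralizer_iff]
    intro n hn
    exact hdc n hn
  · intro x hx y hy
    apply hNN
    have := commutator_mem_commutator hx hy
    rwa [commutatorElement_def] at this
  · rw [ha, hb, ← pow_add]; congr 1; omega

end Cfsg.Agent.Helper80.WinterC
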