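import Mathlib
import Cfsg.Agent.Lib.Helper80.CharBasic
import Cfsg.Agent.Lib.Helper81.CharInd

/-!
# Winter's theorem, part D: characters vanishing off a central subgroup

If `M ≤ Z(G)`, `M ≤ D ≤ G`, `Z(D) ≤ M`, `[D, D] ≤ M` and `χ` is a faithful irreducible character of `G`
then `|D : M| = m²` with `m ∣ χ(1)`.
-/

set_option autoImplicit false

namespace Cfsg.Agent.Helper80.WinterD

open Cfsg Cfsg.Agent.Helper80
open scoped ComplexConjugate

universe u

section Central

variable {G : Type u} [Group G] [Fintype G]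

/-- the central character relation -/
theorem irr_central_mul (χ : IrrCharacter G) {z : G} (hz : z ∈ Subgroup.center G) (g : G) :
    (χ : G → ℂ) (z * g) = (χ : G → ℂ) z * (χ : G → ℂ) g / (χ : G → ℂ) 1 := by
  have h := irr_sum_conj_mul χ z g
  have h1 : ∀ x : G, x * z * x⁻¹ * g = z * g := by
    intro x
    have := (Subgroup.mem_center_iff.1 hz) x
    rw [this]; group
  simp only [h1, Finset.sum_const, Finset.card_univ, nsmul_eq_mul] at h
  have hcard : (Nat.card G : ℂ) ≠ 0 := by exact_mod_cast Nat.card_pos.ne'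
  rw [← Nat.card_eq_fintype_card] at h
  have h2 : (Nat.card G : ℂ) * (χ : G → ℂ) (z * g) =
      (Nat.card G : ℂ) * ((χ : G → ℂ) z * (χ : G → ℂ) g / (χ : G → ℂ) 1) := by
    rw [h]; ring
  exact mul_left_cancel₀ hcard h2

theorem irr_central_norm (χ : IrrCharacter G) {z : G} (hz : z ∈ Subgroup.center G) :
    (χ : G → ℂ) z * conj ((χ : G → ℂ) z) = (χ : G → ℂ) 1 * (χ : G → ℂ) 1 := by
  have h := irr_central_mul χ hz z⁻¹
  rw [mul_inv_cancel, irr_inv] at h
  have h1 := irr_one_ne_zero χ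
  field_simp at h
  rw [← h]; ring

/-- vanishing: if `y d y⁻¹ = z d` with `z` central and not in the kernel, then `χ d = 0` -/
theorem irr_eq_zero_of_central_comm (χ : IrrCharacter G) (d y : G)
    (hz : y * d * y⁻¹ * d⁻¹ ∈ Subgroup.center G)
    (hne : (χ : G → ℂ) (y * d * y⁻¹ * d⁻¹) ≠ (χ : G → ℂ) 1) : (χ : G → ℂ) d = 0 := by
  by_contra h0
  apply hne
  have h1 := irr_central_mul χ hz d
  have h2 : y * d * y⁻¹ * d⁻¹ * d = y * d * y⁻¹ := by group
  rw [h2, irr_conj_class] at h1
  have h3 := irr_one_ne_zero χ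
  field_simp at h1
  have h4 : (χ : G → ℂ) d * (χ : G → ℂ) 1 = (χ : G → ℂ) d * (χ : G → ℂ) (y * d * y⁻¹ * d⁻¹) := by
    rw [h1]
  exact (mul_left_cancel₀ h0 h4).symm

/-- fully ramified: `θ(1)² |M| = |H|` -/
theorem degree_sq_mul_card (θ : IrrCharacter G) (M : Subgroup G) (hMZ : M ≤ Subgroup.center G)
    (hZ : ∀ d : G, (∀ y : G, y * d = d * y) → d ∈ M)
    (hcomm : ∀ a b : G, a * b * a⁻¹ * b⁻¹ ∈ M)
    (hfaith : ∀ z ∈ M, (θ : G → ℂ) z = (θ : G → ℂ) 1 → z = 1) :
    charDegree (θ : G → ℂ) ^ 2 * Nat.card M = Nat.card G := by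
  classical
  have hvan : ∀ d : G, d ∉ M → (θ : G → ℂ) d = 0 := by
    intro d hd
    have h1 : ¬ ∀ y : G, y * d = d * y := fun h => hd (hZ d h)
    push Not at h1
    obtain ⟨y, hy⟩ := h1
    apply irr_eq_zero_of_central_comm θ d y (hMZ (hcomm y d))
    intro h2
    have h3 := hfaith _ (hcomm y d) h2
    apply hy
    have : y * d = (y * d * y⁻¹ * d⁻¹) * (d * y) := by group
    rw [this, h3, one_mul]
  have horth := irr_first_orthogonality θ θ
  rw [if_pos rfl] at horth
  have h1 : ∀ g : G, (θ : G → ℂ) g * conj ((θ : G → ℂ) g) =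
      if g ∈ M then (θ : G → ℂ) 1 * (θ : G → ℂ) 1 else 0 := by
    intro g
    split_ifs with hg
    · exact irr_central_norm θ (hMZ hg)
    · rw [hvan g hg, zero_mul]
  simp only [h1] at horth
  rw [Finset.sum_ite, Finset.sum_const_zero, add_zero, Finset.sum_const, nsmul_eq_mul] at horth
  have h2 : (Finset.univ.filter (fun g : G => g ∈ M)).card = Nat.card M := by
    rw [Nat.card_eq_fintype_card, Fintype.card_subtype]
  rw [h2, irr_one] at horth
  have : ((charDegree (θ : G → ℂ) ^ 2 * Nat.card M : ℕ) : ℂ) = (Nat.card G : ℂ) := by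
    push_cast
    rw [← horth]; ring
  exact_mod_cast this

end Central

section Sub

variable {G : Type u} [Group G] [Fintype G]

/-- the central characters of `χ` and of a constituent `θ` of `χ_D` agree on `D ∩ Z(G)` -/
theorem central_char_eq (χ : IrrCharacter G) (D : Subgroup G) [Fintype D] (θ : IrrCharacter D)
    (hne : classInner (fun d : D => (χ : G → ℂ) d) (θ : D → ℂ) ≠ 0) (z : D)
    (hz : (z : G) ∈ Subgroup.center G) :
    (χ : G → ℂ) z / (χ : G → ℂ) 1 * conj ((θ : D → ℂ) z / (θ : D → ℂ) 1) = 1 := by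
  have hz' : z ∈ Subgroup.center D := by
    rw [Subgroup.mem_center_iff]
    intro d
    apply Subtype.ext
    simp only [Subgroup.coe_mul]
    exact (Subgroup.mem_center_iff.1 hz) d
  set S := ∑ d : D, (χ : G → ℂ) d * conj ((θ : D → ℂ) d) with hS
  have hS0 : S ≠ 0 := by
    intro h0
    apply hne
    unfold classInner
    rw [← hS, h0, mul_zero]
  have h1 : S = ∑ d : D, (χ : G → ℂ) ((z * d : D) : G) * conj ((θ : D → ℂ) (z * d)) :=
    (Equiv.sum_comp (Equiv.mulLeft z)
      (fun d : D => (χ : G → ℂ) d * conj ((θ : D → ℂ) d))).symm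
  have h2 : ∀ d : D, (χ : G → ℂ) ((z * d : D) : G) * conj ((θ : D → ℂ) (z * d)) =
      ((χ : G → ℂ) z / (χ : G → ℂ) 1 * conj ((θ : D → ℂ) z / (θ : D → ℂ) 1)) *
        ((χ : G → ℂ) d * conj ((θ : D → ℂ) d)) := by
    intro d
    rw [Subgroup.coe_mul, irr_central_mul χ hz, irr_central_mul θ hz']
    simp only [map_div₀, map_mul]
    ring
  simp only [h2] at h1
  rw [← Finset.mul_sum, ← hS] at h1
  have h3 : 1 * S = ((χ : G → ℂ) z / (χ : G → ℂ) 1 * conj ((θ : D → ℂ) z / (θ : D → ℂ) 1)) * S := by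
    rw [one_mul]; exact h1
  exact (mul_right_cancel₀ hS0 h3).symm

theorem exists_sq_dvd (χ : IrrCharacter G)
    (hfaith : ∀ g : G, (χ : G → ℂ) g = (χ : G → ℂ) 1 → g = 1) (M D : Subgroup G) (hMD : M ≤ D)
    (hMZ : M ≤ Subgroup.center G)
    (hZD : ∀ d ∈ D, (∀ y ∈ D, y * d = d * y) → d ∈ M)
    (hDD : ∀ a ∈ D, ∀ b ∈ D, a * b * a⁻¹ * b⁻¹ ∈ M) :
    ∃ m : ℕ, m * m * Nat.card M = Nat.card D ∧ m ∣ charDegree (χ : G → ℂ) := by
  classical
  haveI : Fintype D := Fintype.ofFinite D
  haveI : Fintype (IrrCharacter D) := @Fintype.ofFinite _ Cfsg.Agent.Helper81.irr_finite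
  obtain ⟨mult, hmult⟩ := Cfsg.Agent.Helper81.exists_nat_decomp
    (Cfsg.Agent.Helper81.isCharacter_restrict D (isCharacter_of_irr χ.2))
  have hinner : ∀ θ : IrrCharacter D,
      classInner (fun d : D => (χ : G → ℂ) d) (θ : D → ℂ) = (mult θ : ℂ) := by
    intro θ
    rw [hmult]
    exact Cfsg.Agent.Helper81.classInner_nat_decomp (fun χ' => (mult χ' : ℂ)) θ
  have hcardM : Nat.card (M.subgroupOf D) = Nat.card M :=
    Nat.card_congr (Subgroup.subgroupOfEquivOfLe hMD).toEquiv
  have hdeg : ∀ θ : IrrCharacter D, mult θ ≠ 0 →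
      charDegree (θ : D → ℂ) ^ 2 * Nat.card M = Nat.card D := by
    intro θ hθ
    have hne : classInner (fun d : D => (χ : G → ℂ) d) (θ : D → ℂ) ≠ 0 := by
      rw [hinner]; exact_mod_cast hθ
    rw [← hcardM]
    apply degree_sq_mul_card θ (M.subgroupOf D)
    · intro z hz
      rw [Subgroup.mem_subgroupOf] at hz
      rw [Subgroup.mem_center_iff]
      intro d
      apply Subtype.ext
      simp only [Subgroup.coe_mul]
      exact (Subgroup.mem_center_iff.1 (hMZ hz)) d
    · intro d hd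
      rw [Subgroup.mem_subgroupOf]
      apply hZD d d.2
      intro y hy
      have := hd ⟨y, hy⟩
      exact congrArg Subtype.val this
    · intro a b
      rw [Subgroup.mem_subgroupOf]
      exact hDD a a.2 b b.2
    · intro z hz hθz
      rw [Subgroup.mem_subgroupOf] at hz
      have h1 := central_char_eq χ D θ hne z (hMZ hz)
      rw [hθz, div_self (irr_one_ne_zero θ), map_one, mul_one] at h1
      have h2 : (χ : G → ℂ) z = (χ : G → ℂ) 1 := by
        have h3 := irr_one_ne_zero χ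
        field_simp at h1
        exact h1
      have := hfaith _ h2
      exact Subtype.ext this
  have h1 : (charDegree (χ : G → ℂ) : ℂ) = ∑ θ : IrrCharacter D, (mult θ : ℂ) * (charDegree (θ : D → ℂ) : ℂ) := by
    have h := congrFun hmult 1
    simp only [Finset.sum_apply, Pi.smul_apply, smul_eq_mul] at h
    rw [← irr_one χ]
    rw [show ((1 : D) : G) = 1 from rfl] at h
    rw [h]
    apply Finset.sum_congr rfl
    intro θ _
    rw [irr_one θ]
  obtain ⟨θ₀, hθ₀⟩ : ∃ θ : IrrCharacter D, mult θ ≠ 0 := by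
    by_contra hcon
    push Not at hcon
    have : (charDegree (χ : G → ℂ) : ℂ) = 0 := by
      rw [h1]
      apply Finset.sum_eq_zero
      intro θ _
      rw [hcon θ]; simp
    have hpos := charDegree_pos χ
    have : charDegree (χ : G → ℂ) = 0 := by exact_mod_cast this
    omega
  set m := charDegree (θ₀ : D → ℂ) with hm
  have hm0 := hdeg θ₀ hθ₀
  refine ⟨m, by rw [← hm0]; ring, ?_⟩
  have hMpos : 0 < Nat.card M := Nat.card_pos
  have h2 : ∀ θ : IrrCharacter D, mult θ * charDegree (θ : D → ℂ) = mult θ * m := by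
    intro θ
    by_cases h : mult θ = 0
    · rw [h, zero_mul, zero_mul]
    · congr 1
      have a := hdeg θ h
      rw [← hm0] at a
      have a' := Nat.eq_of_mul_eq_mul_right hMpos a
      exact Nat.pow_left_injective (by norm_num : 2 ≠ 0) a'
  have h3 : charDegree (χ : G → ℂ) = (∑ θ : IrrCharacter D, mult θ) * m := by
    have : (charDegree (χ : G → ℂ) : ℂ) = (((∑ θ : IrrCharacter D, mult θ) * m : ℕ) : ℂ) := by
      rw [h1, Finset.sum_mul]
      push_cast
      apply Finset.sum_congr rfl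
      intro θ _
      exact_mod_cast h2 θ
    exact_mod_cast this
  exact ⟨_, by rw [h3, mul_comm]⟩

end Sub

end Cfsg.Agent.Helper80.WinterD
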