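import Mathlib
import Cfsg.Agent.Lib.Helper70.Fitting
import Cfsg.Agent.Lib.Helper94.Solvable
import Cfsg.Agent.Lib.Helper80.WinterC
import Cfsg.Agent.Lib.Helper80.WinterD

/-!
# Winter's theorem, part E: the quasi-primitive case
-/

set_option autoImplicit false

namespace Cfsg.Agent.Helper80.WinterE

open Cfsg Cfsg.Agent.Helper80 Cfsg.Agent.Helper80.WinterA Subgroup

universe u

theorem sq_eq_prime_pow {m r j : ℕ} (hr : r.Prime) (h : m * m = r ^ j) :
    ∃ i : ℕ, m = r ^ i ∧ j = 2 * i := by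
  have hd : m ∣ r ^ j := Dvd.intro _ h
  obtain ⟨i, _, rfl⟩ := (Nat.dvd_prime_pow hr).1 hd
  refine ⟨i, rfl, ?_⟩
  rw [← pow_add] at h
  have := Nat.pow_right_injective hr.two_le h
  omega

theorem exists_minimal_subgroup {G : Type*} [Group G] [Finite G] (P : Subgroup G → Prop)
    (N₀ : Subgroup G) (h0 : P N₀) : ∃ N : Subgroup G, P N ∧ ∀ Y : Subgroup G, P Y → ¬ Y < N := by
  obtain ⟨N, hN, hmin⟩ := wellFounded_lt.has_min {N : Subgroup G | P N} ⟨N₀, h0⟩
  exact ⟨N, hN, fun Y hY => hmin Y hY⟩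

variable {G : Type u} [Group G] [Fintype G]

/-- the quasi-primitive case -/
theorem caseB (hsolv : Group.IsSolvable G) (χ : IrrCharacter G)
    (hfaith : ∀ g : G, (χ : G → ℂ) g = (χ : G → ℂ) 1 → g = 1) (p : ℕ) [hp : Fact p.Prime]
    (P : Sylow p G) (hP : ¬ (P : Subgroup G).Normal)
    (h3 : ∀ A : Subgroup G, A.Normal → (∀ a ∈ A, ∀ b ∈ A, a * b = b * a) → A ≤ center G) :
    Good p (charDegree (χ : G → ℂ)) := by
  classical
  by_cases hab : ∀ a ∈ Cfsg.pCore p G, ∀ b ∈ Cfsg.pCore p G, a * b = b * a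
  · -- `O_p(G)` is central
    have hOpZ : Cfsg.pCore p G ≤ center G := h3 _ (Cfsg.Agent.Helper70.pCore_normal p G) hab
    -- find `r` and `x`
    have hex : ∃ r : ℕ, r.Prime ∧ r ≠ p ∧ ∃ x ∈ (P : Subgroup G),
        ¬ Cfsg.pCore r G ≤ centralizer ({x} : Set G) := by
      by_contra hcon
      push Not at hcon
      apply hP
      have hPF : (P : Subgroup G) ≤ centralizer (Cfsg.fittingSubgroup G : Set G) := by
        rw [le_centralizer_iff, Cfsg.Agent.Helper70.fittingSubgroup_eq_coreJoin,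
          Cfsg.Agent.Helper70.coreJoin]
        apply iSup_le
        intro r
        have hrp : (r : ℕ).Prime := Nat.prime_of_mem_primeFactors r.2
        by_cases hr : (r : ℕ) = p
        · rw [hr]
          exact hOpZ.trans (center_le_centralizer _)
        · intro y hy
          rw [mem_centralizer_iff]
          intro x hx
          have := hcon r hrp hr x hx hy
          exact (mem_centralizer_singleton_iff.1 this).symm
      have := hsolv
      have hPF2 : (P : Subgroup G) ≤ Cfsg.fittingSubgroup G :=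
        hPF.trans Cfsg.Agent.Helper94.centralizer_fitting_le
      set A := Cfsg.fittingSubgroup G ⊓ centralizer (Cfsg.fittingSubgroup G : Set G) with hA
      have hAn : A.Normal := inferInstance
      have hAab : ∀ a ∈ A, ∀ b ∈ A, a * b = b * a := fun a ha b hb =>
        (mem_centralizer_iff.1 hb.2) a ha.1
      have hPZ : (P : Subgroup G) ≤ center G := (le_inf hPF2 hPF).trans (h3 A hAn hAab)
      constructor
      intro n hn g
      have := (mem_center_iff.1 (hPZ hn)) g
      rw [this, mul_inv_cancel_right]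
      exact hn
    obtain ⟨r, hr, hrp, x, hxP, hxr⟩ := hex
    haveI : Fact r.Prime := ⟨hr⟩
    obtain ⟨k, hk⟩ := P.isPGroup' ⟨x, hxP⟩
    have hk' : x ^ p ^ k = 1 := by
      have := congrArg Subtype.val hk
      simpa using this
    obtain ⟨N, ⟨hNn, hNr, hNx⟩, hmin⟩ := exists_minimal_subgroup
      (fun N : Subgroup G => N.Normal ∧ IsPGroup r N ∧ ¬ N ≤ centralizer ({x} : Set G))
      (Cfsg.pCore r G)
      ⟨Cfsg.Agent.Helper70.pCore_normal r G, Cfsg.Agent.Helper70.pCore_isPGroup, hxr⟩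
    haveI := hNn
    obtain ⟨M, D, hMD, hMZ, hZD, hDD, j, hj1, hcard, hmod⟩ :=
      WinterC.exists_MD_coprime p r (Ne.symm hrp) x k hk' N hNr hNx
        (fun Y hYn hYN => by
          by_contra hcon
          exact hmin Y ⟨hYn, hNr.to_le hYN.le, hcon⟩ hYN) h3
    obtain ⟨m, hm, hmn⟩ := WinterD.exists_sq_dvd χ hfaith M D hMD hMZ hZD hDD
    have hMpos : 0 < Nat.card M := Nat.card_pos
    have hmm : m * m = r ^ j := by
      rw [hcard] at hm
      exact Nat.eq_of_mul_eq_mul_right hMpos hm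
    obtain ⟨i, rfl, rfl⟩ := sq_eq_prime_pow hr hmm
    exact good_of_sq_modEq hp.out hr (by omega) hmod hmn
  · -- `O_p(G)` is nonabelian
    obtain ⟨N, ⟨hNn, hNp, hNab⟩, hmin⟩ := exists_minimal_subgroup
      (fun N : Subgroup G => N.Normal ∧ IsPGroup p N ∧ ¬ ∀ a ∈ N, ∀ b ∈ N, a * b = b * a)
      (Cfsg.pCore p G)
      ⟨Cfsg.Agent.Helper70.pCore_normal p G, Cfsg.Agent.Helper70.pCore_isPGroup, hab⟩
    haveI := hNn
    obtain ⟨M, D, hMD, hMZ, hZD, hDD, j, hj1, hcard⟩ :=
      WinterC.exists_MD_pgroup p N hNp hNab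
        (fun Y hYn hYN => by
          by_contra hcon
          exact hmin Y ⟨hYn, hNp.to_le hYN.le, hcon⟩ hYN) h3
    obtain ⟨m, hm, hmn⟩ := WinterD.exists_sq_dvd χ hfaith M D hMD hMZ hZD hDD
    have hMpos : 0 < Nat.card M := Nat.card_pos
    have hmm : m * m = p ^ j := by
      rw [hcard] at hm
      exact Nat.eq_of_mul_eq_mul_right hMpos hm
    obtain ⟨i, rfl, rfl⟩ := sq_eq_prime_pow hp.out hmm
    exact good_self_pow hp.out (by omega) hmn

end Cfsg.Agent.Helper80.WinterE
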