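import Mathlib
import Cfsg.Agent.Lib.Helper78.ItoMichler
import Cfsg.Agent.Lib.Helper3.CharArtin
import Cfsg.Agent.Lib.Helper80.WinterB
import Cfsg.Agent.Lib.Helper80.WinterE

/-!
# Winter's theorem, part F: Clifford reduction and the induction
-/

set_option autoImplicit false

namespace Cfsg.Agent.Helper80.WinterF

open Cfsg Cfsg.Agent.Helper80 Cfsg.Agent.Helper80.WinterA Subgroup
open Cfsg.Agent.Helper81 Cfsg.Agent.Helper78

universe u

/-- the statement proved by induction on the group order -/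
def Main (p : ℕ) (k : ℕ) : Prop :=
  ∀ (G : Type u) [Group G] [Finite G], Nat.card G = k → Group.IsSolvable G →
    ∀ χ : IrrCharacter G, (∀ g : G, (χ : G → ℂ) g = (χ : G → ℂ) 1 → g = 1) →
    ∀ P : Sylow p G, ¬ (P : Subgroup G).Normal → Good p (charDegree (χ : G → ℂ))

/-- passing to `L / ker φ` -/
theorem reduce_faithful (p : ℕ) [hp : Fact p.Prime] (k : ℕ)
    (ih : ∀ m < k, Main.{u} p m) {L : Type u} [Group L] [Finite L]
    (hL : Nat.card L < k) (hsolv : Group.IsSolvable L) (φ : IrrCharacter L) (P : Sylow p L)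
    (h : ¬ ((P : Subgroup L).map (QuotientGroup.mk' (Cfsg.Agent.Helper79.irrKer φ))).Normal) :
    Good p (charDegree (φ : L → ℂ)) := by
  set K := Cfsg.Agent.Helper79.irrKer φ with hK
  obtain ⟨ψ, hψ⟩ := Cfsg.Agent.Helper79.exists_deflate K φ le_rfl
  have hval : ∀ g : L, (ψ : L ⧸ K → ℂ) (QuotientGroup.mk g) = (φ : L → ℂ) g := by
    intro g
    have := Cfsg.Agent.Helper79.inflate_apply K ψ g
    rw [hψ] at this
    exact this.symm
  have hfaith : ∀ g : L ⧸ K, (ψ : L ⧸ K → ℂ) g = (ψ : L ⧸ K → ℂ) 1 → g = 1 := by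
    intro g hg
    obtain ⟨g, rfl⟩ := QuotientGroup.mk_surjective g
    have h1 : (ψ : L ⧸ K → ℂ) 1 = (φ : L → ℂ) 1 := by
      rw [← hval 1]; rfl
    rw [hval, h1] at hg
    have : g ∈ K := (Cfsg.Agent.Helper79.mem_irrKer φ g).2 hg
    exact (QuotientGroup.eq_one_iff g).2 this
  have hcard : Nat.card (L ⧸ K) ≤ Nat.card L :=
    Nat.card_le_card_of_surjective (QuotientGroup.mk : L → L ⧸ K) QuotientGroup.mk_surjective
  have hsQ : Group.IsSolvable (L ⧸ K) := by
    have := hsolv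
    infer_instance
  have hdeg : charDegree (ψ : L ⧸ K → ℂ) = charDegree (φ : L → ℂ) := by
    have := Cfsg.Agent.Helper79.charDegree_inflate K ψ
    rw [hψ] at this
    exact this.symm
  rw [← hdeg]
  exact ih (Nat.card (L ⧸ K)) (lt_of_le_of_lt hcard hL) (L ⧸ K) rfl hsQ ψ hfaith
    (P.mapSurjective (QuotientGroup.mk'_surjective K)) (by rw [Sylow.coe_mapSurjective]; exact h)

section QP

variable {G : Type u} [Group G] [Fintype G]

/-- quasi-primitive faithful characters: abelian normal subgroups are central -/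
theorem abelian_normal_central (χ : IrrCharacter G)
    (hfaith : ∀ g : G, (χ : G → ℂ) g = (χ : G → ℂ) 1 → g = 1)
    (hqp : ∀ (N : Subgroup G) [Fintype N] (hN : N.Normal) (θ : N → ℂ), IsIrrCharacter N θ →
      classInner (fun n : N => (χ : G → ℂ) n) θ ≠ 0 → ∀ g : G, conjFun N hN θ g = θ)
    (A : Subgroup G) (hA : A.Normal) (hab : ∀ a ∈ A, ∀ b ∈ A, a * b = b * a) :
    A ≤ center G := by
  classical
  haveI : Fintype A := Fintype.ofFinite A
  have hχA : IsCharacter A (fun a : A => (χ : G → ℂ) a) :=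
    Cfsg.Agent.Helper81.isCharacter_restrict A (isCharacter_of_irr χ.2)
  have hχA0 : (fun a : A => (χ : G → ℂ) a) ≠ 0 := by
    intro h
    have := congrFun h 1
    exact irr_one_ne_zero χ this
  obtain ⟨lamf, hlam, hne⟩ := exists_irr_constituent hχA hχA0
  have hinv := hqp A hA lamf hlam hne
  have hcl := clifford A hA χ.2 hlam hne
  have hset : conjSet A hA lamf = {lamf} := by
    ext ψ
    constructor
    · rintro ⟨g, rfl⟩
      exact hinv g
    · intro h
      rw [Set.mem_singleton_iff] at h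
      exact ⟨1, by rw [h, conjFun_one]⟩
  rw [hset, finsum_mem_singleton] at hcl
  obtain ⟨lam, hlamhom⟩ := Cfsg.Agent.Helper3.irr_abelian_hom
    (fun a b : A => Subtype.ext (hab a a.2 b b.2)) lamf hlam
  set e := classInner (fun a : A => (χ : G → ℂ) a) lamf with he
  have hval : ∀ a : A, (χ : G → ℂ) a = e * (lam a : ℂ) := by
    intro a
    have := congrFun hcl a
    rw [this, Pi.smul_apply, smul_eq_mul, hlamhom]
  intro a ha
  rw [mem_center_iff]
  intro g
  have h1 := congrFun (hinv g) ⟨a, ha⟩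
  rw [conjFun_apply, hlamhom] at h1
  have h2 : lam ⟨g * a * g⁻¹, hA.conj_mem a ha g⟩ = lam ⟨a, ha⟩ := by
    exact Units.ext h1
  have h3 : lam (⟨g * a * g⁻¹, hA.conj_mem a ha g⟩ * (⟨a, ha⟩ : A)⁻¹) = 1 := by
    rw [map_mul, map_inv, h2, mul_inv_cancel]
  have h4 : (χ : G → ℂ) (g * a * g⁻¹ * a⁻¹) = (χ : G → ℂ) 1 := by
    have e1 := hval (⟨g * a * g⁻¹, hA.conj_mem a ha g⟩ * (⟨a, ha⟩ : A)⁻¹)
    have e2 := hval 1
    rw [h3] at e1
    rw [map_one] at e2
    have e3 : (((⟨g * a * g⁻¹, hA.conj_mem a ha g⟩ * (⟨a, ha⟩ : A)⁻¹ : A)) : G) = g * a * g⁻¹ * a⁻¹ := rfl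
    rw [e3] at e1
    rw [e1]
    exact e2.symm
  have h5 := hfaith _ h4
  calc g * a = (g * a * g⁻¹ * a⁻¹) * (a * g) := by group
    _ = a * g := by rw [h5, one_mul]

/-- if `P ≤ C ⊴ G` and `P` is not normal, some constituent `φ` of `χ_C` has a non-normal Sylow
`p`-subgroup in `C / ker φ` -/
theorem exists_constituent_not_normal (χ : IrrCharacter G)
    (hfaith : ∀ g : G, (χ : G → ℂ) g = (χ : G → ℂ) 1 → g = 1) (p : ℕ) [hp : Fact p.Prime]
    (P : Sylow p G) (hP : ¬ (P : Subgroup G).Normal) (C : Subgroup G) [Fintype C] (hCn : C.Normal)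
    (hPC : (P : Subgroup G) ≤ C) :
    ∃ φ : IrrCharacter C, classInner (fun c : C => (χ : G → ℂ) c) (φ : C → ℂ) ≠ 0 ∧
      ¬ (((P.subtype hPC : Sylow p C) : Subgroup C).map
        (QuotientGroup.mk' (Cfsg.Agent.Helper79.irrKer φ))).Normal := by
  classical
  by_contra hcon
  push Not at hcon
  apply hP
  set PC : Sylow p C := P.subtype hPC with hPCdef
  haveI : Fintype (IrrCharacter C) := @Fintype.ofFinite _ Cfsg.Agent.Helper81.irr_finite
  obtain ⟨mult, hmult⟩ := exists_nat_decomp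
    (Cfsg.Agent.Helper81.isCharacter_restrict C (isCharacter_of_irr χ.2))
  have hinner : ∀ φ : IrrCharacter C,
      classInner (fun c : C => (χ : G → ℂ) c) (φ : C → ℂ) = (mult φ : ℂ) := by
    intro φ
    rw [hmult]
    exact classInner_nat_decomp (fun χ' => (mult χ' : ℂ)) φ
  obtain ⟨k, hk⟩ := (IsPGroup.iff_card).1 PC.isPGroup'
  set B : Subgroup C := ⨅ φ : {φ : IrrCharacter C // mult φ ≠ 0},
    (PC : Subgroup C) ⊔ Cfsg.Agent.Helper79.irrKer φ.1 with hB
  have hBn : B.Normal := by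
    apply Subgroup.normal_iInf_normal
    intro φ
    have h1 := hcon φ.1 (by rw [hinner]; exact_mod_cast φ.2)
    have h2 := h1.comap (QuotientGroup.mk' (Cfsg.Agent.Helper79.irrKer φ.1))
    rwa [Subgroup.comap_map_eq, QuotientGroup.ker_mk'] at h2
  have hPB : (PC : Subgroup C) ≤ B := le_iInf (fun φ => le_sup_left)
  have hBp : IsPGroup p B := by
    rintro ⟨b, hb⟩
    refine ⟨k, ?_⟩
    apply Subtype.ext
    show b ^ p ^ k = 1
    rw [← hk]
    have key : ∀ φ : IrrCharacter C, mult φ ≠ 0 →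
        (φ : C → ℂ) (b ^ Nat.card PC) = (φ : C → ℂ) 1 := by
      intro φ hφ
      have hb' : b ∈ (PC : Subgroup C) ⊔ Cfsg.Agent.Helper79.irrKer φ :=
        (Subgroup.mem_iInf.1 hb) ⟨φ, hφ⟩
      rw [← SetLike.mem_coe, Subgroup.mul_normal] at hb'
      obtain ⟨x, hx, y, hy, rfl⟩ := hb'
      have hxm : x ^ Nat.card PC = 1 := by
        have h1 : (⟨x, hx⟩ : PC) ^ Nat.card PC = 1 := pow_card_eq_one'
        have h2 := congrArg Subtype.val h1
        simpa using h2
      have hmem : (x * y) ^ Nat.card PC ∈ Cfsg.Agent.Helper79.irrKer φ := by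
        rw [← QuotientGroup.eq_one_iff, QuotientGroup.mk_pow, QuotientGroup.mk_mul,
          (QuotientGroup.eq_one_iff y).2 hy, mul_one, ← QuotientGroup.mk_pow, hxm]
        rfl
      exact (Cfsg.Agent.Helper79.mem_irrKer φ _).1 hmem
    have h1 := congrFun hmult (b ^ Nat.card PC)
    have h2 := congrFun hmult 1
    simp only [Finset.sum_apply, Pi.smul_apply, smul_eq_mul] at h1 h2
    have h3 : (χ : G → ℂ) ((b ^ Nat.card PC : C) : G) = (χ : G → ℂ) ((1 : C) : G) := by
      rw [h1, h2]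
      apply Finset.sum_congr rfl
      intro φ _
      by_cases hφ : mult φ = 0
      · rw [hφ]; simp
      · rw [key φ hφ]
    have h4 := hfaith _ h3
    exact Subtype.ext h4
  have hBeq : B = (PC : Subgroup C) := PC.is_maximal' hBp hPB
  have hPCn : (PC : Subgroup C).Normal := hBeq ▸ hBn
  constructor
  intro x hx g
  have hyC : g * x * g⁻¹ ∈ C := hCn.conj_mem x (hPC hx) g
  obtain ⟨j, hj⟩ := P.isPGroup' ⟨x, hx⟩
  have hj' : x ^ p ^ j = 1 := by
    have := congrArg Subtype.val hj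
    simpa using this
  have hyj : (⟨g * x * g⁻¹, hyC⟩ : C) ^ p ^ j = 1 := by
    apply Subtype.ext
    show (g * x * g⁻¹) ^ p ^ j = 1
    rw [conj_pow, hj', mul_one, mul_inv_cancel]
  have hQ : IsPGroup p (Subgroup.zpowers (⟨g * x * g⁻¹, hyC⟩ : C)) :=
    isPGroup_zpowers_of_pow_eq_one hyj
  have hsup : IsPGroup p
      ((Subgroup.zpowers (⟨g * x * g⁻¹, hyC⟩ : C)) ⊔ (PC : Subgroup C) : Subgroup C) :=
    hQ.to_sup_of_normal_right PC.isPGroup'
  have heq := PC.is_maximal' hsup le_sup_right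
  have hmem : (⟨g * x * g⁻¹, hyC⟩ : C) ∈ (PC : Subgroup C) := by
    rw [← heq]
    exact (le_sup_left : Subgroup.zpowers (⟨g * x * g⁻¹, hyC⟩ : C) ≤ _) (Subgroup.mem_zpowers _)
  rw [hPCdef, Sylow.coe_subtype, Subgroup.mem_subgroupOf] at hmem
  exact hmem

/-- the Clifford case: some constituent of `χ_N` is not invariant -/
theorem caseA (p : ℕ) [hp : Fact p.Prime] (k : ℕ) (ih : ∀ m < k, Main.{u} p m)
    (hk : Nat.card G = k) (hsolv : Group.IsSolvable G) (χ : IrrCharacter G)
    (hfaith : ∀ g : G, (χ : G → ℂ) g = (χ : G → ℂ) 1 → g = 1)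
    (P : Sylow p G) (hP : ¬ (P : Subgroup G).Normal) (N : Subgroup G) [Fintype N] (hN : N.Normal)
    (θ : N → ℂ) (hθ : IsIrrCharacter N θ)
    (hne : classInner (fun n : N => (χ : G → ℂ) n) θ ≠ 0) (g₀ : G)
    (hg₀ : conjFun N hN θ g₀ ≠ θ) : Good p (charDegree (χ : G → ℂ)) := by
  classical
  letI := conjAction N hN
  set T := MulAction.stabilizer G θ with hT
  have horb : MulAction.orbit G θ = conjSet N hN θ := by
    ext ψ
    constructor
    · rintro ⟨g, rfl⟩
      exact ⟨g⁻¹, rfl⟩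
    · rintro ⟨g, rfl⟩
      exact ⟨g⁻¹, by show conjFun N hN θ g⁻¹⁻¹ = _; rw [inv_inv]⟩
  have hTidx : T.index = Nat.card (conjSet N hN θ) := by
    rw [hT, MulAction.index_stabilizer, horb, Nat.card_coe_set_eq]
  obtain ⟨e, he⟩ := clifford_degree N hN χ.2 hθ hne
  have hdvd : T.index ∣ charDegree (χ : G → ℂ) := by
    rw [he, hTidx]
    exact dvd_mul_of_dvd_right (dvd_mul_right _ _) _
  have hTtop : g₀⁻¹ ∉ T := by
    intro h
    rw [hT, MulAction.mem_stabilizer_iff] at h
    apply hg₀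
    have h' : conjFun N hN θ g₀⁻¹⁻¹ = θ := h
    rwa [inv_inv] at h'
  set C := T.normalCore with hC
  have hCn : C.Normal := normalCore_normal T
  by_cases hPC : (P : Subgroup G) ≤ C
  · haveI : Fintype C := Fintype.ofFinite C
    obtain ⟨φ, hφne, hφ⟩ := exists_constituent_not_normal χ hfaith p P hP C hCn hPC
    have hCtop : C ≠ ⊤ := by
      intro h
      apply hTtop
      have hle : C ≤ T := normalCore_le T
      rw [h] at hle
      exact hle (mem_top _)
    have hcardC : Nat.card C < k := by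
      rw [← hk]
      have h1 : Nat.card C ≤ Nat.card G := Subgroup.card_le_card_group C
      rcases Nat.lt_or_ge (Nat.card C) (Nat.card G) with h | h
      · exact h
      · exact absurd (Subgroup.eq_top_of_card_eq C (le_antisymm h1 h)) hCtop
    have hsC : Group.IsSolvable C := by
      have := hsolv
      infer_instance
    have hgood := reduce_faithful p k ih hcardC hsC φ (P.subtype hPC) hφ
    obtain ⟨e', he'⟩ := clifford_degree C hCn χ.2 φ.2 hφne
    exact hgood.of_dvd (by rw [he']; exact dvd_mul_of_dvd_right (dvd_mul_left _ _) _)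
  · obtain ⟨x, hxP, hxC⟩ := SetLike.not_le_iff_exists.1 hPC
    obtain ⟨j, hj⟩ := P.isPGroup' ⟨x, hxP⟩
    have hj' : x ^ p ^ j = 1 := by
      have := congrArg Subtype.val hj
      simpa using this
    have := WinterB.pg p _ G hsolv T rfl x ⟨j, hj'⟩ hxC
    exact this.of_dvd hdvd

end QP

/-- Winter's theorem -/
theorem main (p : ℕ) [hp : Fact p.Prime] : ∀ k : ℕ, Main.{u} p k := by
  intro k
  induction k using Nat.strong_induction_on with
  | _ k ih =>
  intro G _ _ hk hsolv χ hfaith P hP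
  classical
  haveI : Fintype G := Fintype.ofFinite G
  by_cases hqp : ∀ (N : Subgroup G) [Fintype N] (hN : N.Normal) (θ : N → ℂ), IsIrrCharacter N θ →
      classInner (fun n : N => (χ : G → ℂ) n) θ ≠ 0 → ∀ g : G, conjFun N hN θ g = θ
  · exact WinterE.caseB hsolv χ hfaith p P hP
      (fun A hA hab => abelian_normal_central χ hfaith hqp A hA hab)
  · push Not at hqp
    obtain ⟨N, instN, hN, θ, hθ, hne, g₀, hg₀⟩ := hqp
    exact caseA p k ih hk hsolv χ hfaith P hP N hN θ hθ hne g₀ hg₀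

end Cfsg.Agent.Helper80.WinterF
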